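import Cfsg.Agent.Lib.McLThree.Weak.BarTurn
import Cfsg.Agent.Lib.McLThree.ND
import Cfsg.Agent.Lib.Products
import Mathlib.GroupTheory.Sylow

/-!
The Sylow subgroup, uniqueness of `J` and fusion in it.
-/

set_option autoImplicit false

namespace CfsgLib.McLThree.Weak

open Subgroup Fin.NatCast

universe u

/-- The normalizer of `J` is generated by `H1` and flips. -/
def Covered {X : Type u} [Group X] (B : Bar X) : Prop :=
  ∀ x ∈ normalizer (B.J : Set X), x ∈ zpowers B.w ⊔ (B.four ⊔ B.J) ∨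
    ∃ F : Flip B, x * F.r ∈ zpowers B.w ⊔ (B.four ⊔ B.J)

theorem zmod_neg_fix : ∀ z : ZMod 3, -z = z → z = 0 := by decide

theorem odd_pow_mem {G : Type u} [Group G] {H : Subgroup G} {x : G} {n : ℕ} (h2 : x * x ∈ H)
    (hn : x ^ (2 * n + 1) = 1) : x ∈ H := by
  rw [pow_succ, pow_mul, pow_two] at hn
  rw [eq_inv_of_mul_eq_one_right hn]
  exact inv_mem (pow_mem h2 n)

namespace Bar

variable {X : Type u} [Group X] [Finite X] (B : Bar X)

include B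

theorem flip_a2 (F : Flip B) : F.r * B.a 2 * F.r⁻¹ = B.a 1 ∨ F.r * B.a 2 * F.r⁻¹ = (B.a 1)⁻¹ := by
  have hri : F.r⁻¹ = F.r := inv_eq_of_mul_eq_one_right F.r_sq
  have h := B.axis_inv F.r_a1
  rw [inv_inv, hri] at h
  rw [hri]
  exact h

theorem odd_three {x y z : X}
    (hx : (x * B.a 0 * x⁻¹ = B.a 0 ∨ x * B.a 0 * x⁻¹ = (B.a 0)⁻¹) ∧
      (x * B.a 1 * x⁻¹ = B.a 2 ∨ x * B.a 1 * x⁻¹ = (B.a 2)⁻¹) ∧
      (x * B.a 2 * x⁻¹ = B.a 1 ∨ x * B.a 2 * x⁻¹ = (B.a 1)⁻¹))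
    (hy : (y * B.a 0 * y⁻¹ = B.a 0 ∨ y * B.a 0 * y⁻¹ = (B.a 0)⁻¹) ∧
      (y * B.a 1 * y⁻¹ = B.a 2 ∨ y * B.a 1 * y⁻¹ = (B.a 2)⁻¹) ∧
      (y * B.a 2 * y⁻¹ = B.a 1 ∨ y * B.a 2 * y⁻¹ = (B.a 1)⁻¹))
    (hz : (z * B.a 0 * z⁻¹ = B.a 0 ∨ z * B.a 0 * z⁻¹ = (B.a 0)⁻¹) ∧
      (z * B.a 1 * z⁻¹ = B.a 2 ∨ z * B.a 1 * z⁻¹ = (B.a 2)⁻¹) ∧
      (z * B.a 2 * z⁻¹ = B.a 1 ∨ z * B.a 2 * z⁻¹ = (B.a 1)⁻¹)) :
    x * y * z ∉ B.H1 := by
  rw [mul_assoc]
  exact B.odd_not_H1 (B.axis_comp (B.axis_comp hz.1 hy.1) hx.1) (B.axis_comp (B.axis_comp hz.2.1 hy.2.2) hx.2.1)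

theorem flip_odd (F : Flip B) : (F.r * B.a 0 * F.r⁻¹ = B.a 0 ∨ F.r * B.a 0 * F.r⁻¹ = (B.a 0)⁻¹) ∧
    (F.r * B.a 1 * F.r⁻¹ = B.a 2 ∨ F.r * B.a 1 * F.r⁻¹ = (B.a 2)⁻¹) ∧
    (F.r * B.a 2 * F.r⁻¹ = B.a 1 ∨ F.r * B.a 2 * F.r⁻¹ = (B.a 1)⁻¹) :=
  ⟨Or.inr F.r_a0, F.r_a1, B.flip_a2 F⟩

theorem turn_odd (R : Turn B) : (R.r * B.a 0 * R.r⁻¹ = B.a 0 ∨ R.r * B.a 0 * R.r⁻¹ = (B.a 0)⁻¹) ∧
    (R.r * B.a 1 * R.r⁻¹ = B.a 2 ∨ R.r * B.a 1 * R.r⁻¹ = (B.a 2)⁻¹) ∧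
    (R.r * B.a 2 * R.r⁻¹ = B.a 1 ∨ R.r * B.a 2 * R.r⁻¹ = (B.a 1)⁻¹) :=
  ⟨Or.inr R.r_a, B.turn_a R 1 (Or.inl rfl), B.turn_a R 2 (Or.inr rfl)⟩

theorem covered_of (cover : ∀ x ∈ normalizer (B.J : Set X), x ∈ B.H1 ∨ ∃ R : Turn B, x * R.r ∈ B.H1) :
    Covered B := by
  intro x hx
  refine (cover x hx).imp_right ?_
  rintro ⟨R, hR⟩
  obtain ⟨F⟩ := B.exists_flip cover R
  refine ⟨F, (cover (x * F.r) (mul_mem hx F.r_N)).resolve_right ?_⟩
  rintro ⟨R', hR'⟩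
  have hinv : (R.r⁻¹ * B.a 0 * R.r⁻¹⁻¹ = B.a 0 ∨ R.r⁻¹ * B.a 0 * R.r⁻¹⁻¹ = (B.a 0)⁻¹) ∧
      (R.r⁻¹ * B.a 1 * R.r⁻¹⁻¹ = B.a 2 ∨ R.r⁻¹ * B.a 1 * R.r⁻¹⁻¹ = (B.a 2)⁻¹) ∧
      (R.r⁻¹ * B.a 2 * R.r⁻¹⁻¹ = B.a 1 ∨ R.r⁻¹ * B.a 2 * R.r⁻¹⁻¹ = (B.a 1)⁻¹) :=
    ⟨B.axis_inv (B.turn_odd R).1, B.axis_inv (B.turn_odd R).2.2, B.axis_inv (B.turn_odd R).2.1⟩
  refine B.odd_three hinv (B.flip_odd F) (B.turn_odd R') ?_
  have h := mul_mem (inv_mem hR) hR'
  rwa [show (x * R.r)⁻¹ * (x * F.r * R'.r) = R.r⁻¹ * F.r * R'.r by group] at h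

variable (hcov : Covered B)

include hcov

theorem cover_flip (F : Flip B) {x : X} (hx : x ∈ normalizer (B.J : Set X)) : x ∈ B.H1 ∨ x * F.r ∈ B.H1 := by
  refine (hcov x hx).imp_right ?_
  rintro ⟨F', hF'⟩
  refine (hcov (x * F.r) (mul_mem hx F.r_N)).resolve_right ?_
  rintro ⟨F'', hF''⟩
  refine B.odd_three (B.flip_odd F') (B.flip_odd F) (B.flip_odd F'') ?_
  have h := mul_mem (inv_mem hF') hF''
  rwa [show (x * F'.r)⁻¹ * (x * F.r * F''.r) = F'.r⁻¹ * F.r * F''.r by group,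
    inv_eq_of_mul_eq_one_right F'.r_sq] at h

omit hcov in
theorem flip_not_H1 (F : Flip B) : F.r ∉ B.H1 := B.odd_not_H1 (B.flip_odd F).1 (B.flip_odd F).2.1

theorem flip_conj (F : Flip B) {h : X} (hh : h ∈ B.H1) : F.r * h * F.r ∈ B.H1 := by
  refine (B.cover_flip hcov F (mul_mem (mul_mem F.r_N (B.H1_N hh)) F.r_N)).resolve_right fun e => ?_
  rw [mul_assoc _ F.r, F.r_sq, mul_one, B.H1.mul_mem_cancel_right hh] at e
  exact B.flip_not_H1 F e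

theorem sq_H1 {x : X} (hx : x ∈ normalizer (B.J : Set X)) : x * x ∈ B.H1 := by
  rcases hcov x hx with h | ⟨F, hF⟩
  · exact mul_mem h h
  · have h2 := mul_mem hF (B.flip_conj hcov F hF)
    rwa [show x * F.r * (F.r * (x * F.r) * F.r) = x * (F.r * F.r) * x * (F.r * F.r) by group, F.r_sq, mul_one,
      mul_one] at h2

theorem three_H1 {x : X} (hx : x ∈ normalizer (B.J : Set X)) {k : ℕ} (h : x ^ 3 ^ k = 1) : x ∈ B.H1 := by
  obtain ⟨m, hm⟩ : Odd (3 ^ k) := Odd.pow (by decide)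
  exact odd_pow_mem (B.sq_H1 hcov hx) (hm ▸ h)

omit hcov

theorem card_J_cent {A : Subgroup X} (hA : A ≤ B.J) {k : ℕ} (hk : k = 1 ∨ k = 2)
    (h : ∀ a ∈ A, B.w ^ k * a = a * B.w ^ k) : Nat.card A ≤ 3 := by
  have hsub : ∀ a ∈ A, ∃ m : ZMod 3, a = B.z1 ^ m.val := fun a ha => by
    refine B.cent_J_w (hA ha) ?_
    have hc : Commute (B.w ^ k) a := h a ha
    rcases hk with rfl | rfl
    · simpa using hc.eq
    · have h' := hc.pow_left 2
      rw [← pow_mul, pow_eq_pow_mod _ B.w_cube, show (2 * 2) % 3 = 1 from rfl, pow_one] at h'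
      exact h'.eq
  choose m hm using hsub
  have hinj : Function.Injective (fun a : A => m a a.2) := fun a b e => Subtype.ext (by
    rw [hm a a.2, hm b b.2]; exact congrArg (fun r : ZMod 3 => B.z1 ^ r.val) e)
  simpa using Nat.card_le_card_of_injective _ hinj

theorem card_T : Nat.card B.T ≤ 81 := by
  let f : B.J × Fin 3 → B.T := fun p => ⟨(p.1 : X) * B.w ^ p.2.val, mul_mem (B.J_T p.1.2) (pow_mem B.w_T _)⟩
  have hf : Function.Surjective f := fun x => by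
    obtain ⟨j, hj, k, hk, e⟩ := B.mem_T.1 x.2
    exact ⟨(⟨j, hj⟩, ⟨k, hk⟩), Subtype.ext e.symm⟩
  have h := Nat.card_le_card_of_surjective f hf
  rw [Nat.card_prod, B.J_card, Nat.card_fin] at h
  omega

theorem T_unique {A : Subgroup X} (hA : A ≤ B.T) (hc : ∀ a ∈ A, ∀ b ∈ A, a * b = b * a) (h27 : Nat.card A = 27) :
    A = B.J := by
  by_contra hne
  obtain ⟨b, hb, hbJ⟩ : ∃ b ∈ A, b ∉ B.J := by
    by_contra hno
    push Not at hno
    exact hne (eq_of_le_of_card_ge hno (by rw [B.J_card, h27]))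
  obtain ⟨j, hj, k, hk, rfl⟩ := B.mem_T.1 (hA hb)
  have hk' : k = 1 ∨ k = 2 := by
    interval_cases k
    · exact absurd (by simpa using hj) hbJ
    · exact Or.inl rfl
    · exact Or.inr rfl
  have hsmall : Nat.card (A ⊓ B.J : Subgroup X) ≤ 3 := by
    refine B.card_J_cent inf_le_right hk' fun a ha => ?_
    have h1 : Commute (j * B.w ^ k) a := hc _ hb a ha.1
    have h2 : Commute j⁻¹ a := B.J_comm _ (inv_mem hj) a ha.2
    have h3 := h2.mul_left h1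
    rw [inv_mul_cancel_left] at h3
    exact h3.eq
  have h1 := CfsgLib.Products.card_mul_card_le A B.J
  rw [h27, B.J_card] at h1
  have h2 := (card_le_of_le (sup_le hA B.J_T)).trans B.card_T
  have := h1.trans (Nat.mul_le_mul h2 hsmall)
  omega

theorem norm_T_N {x : X} (hx : x ∈ normalizer (B.T : Set X)) : x ∈ normalizer (B.J : Set X) := by
  have e := B.T_unique (A := B.J.map (MulAut.conj x).toMonoidHom) (by
      rintro _ ⟨j, hj, rfl⟩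
      exact (Subgroup.mem_normalizer_iff.1 hx j).1 (B.J_T hj)) (by
      rintro _ ⟨a, ha, rfl⟩ _ ⟨b, hb, rfl⟩
      rw [← map_mul, ← map_mul, B.J_comm a ha b hb])
    (by rw [card_map_of_injective (MulEquiv.injective _), B.J_card])
  exact norm_of_conj_le fun j hj => e ▸ mem_map_of_mem _ hj

theorem T_pgroup : IsPGroup 3 B.T := by
  intro x
  obtain ⟨j, hj, k, -, e⟩ := B.mem_T.1 x.2
  have h : ∀ n : ℕ, ∃ j' ∈ B.J, (j * B.w ^ k) ^ n = j' * B.w ^ (k * n) := by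
    intro n
    induction n with
    | zero => exact ⟨1, one_mem _, by simp⟩
    | succ n ih =>
      obtain ⟨j', hj', e'⟩ := ih
      refine ⟨j' * (B.w ^ (k * n) * j * (B.w ^ (k * n))⁻¹),
        mul_mem hj' ((Subgroup.mem_normalizer_iff.1 (pow_mem B.w_N _) j).1 hj), ?_⟩
      rw [pow_succ, e', Nat.mul_succ, pow_add]
      group
  obtain ⟨j', hj', e'⟩ := h 3
  rw [pow_mul', B.w_cube, one_pow, mul_one] at e'
  refine ⟨2, Subtype.ext ?_⟩
  show (x : X) ^ 3 ^ 2 = 1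
  rw [e, show 3 ^ 2 = 3 * 3 from rfl, pow_mul, e', B.J_exp _ hj']

variable (hcov : Covered B)

include hcov

theorem T_sylow {P : Subgroup X} (hP : IsPGroup 3 P) (hT : B.T ≤ P) : P = B.T := by
  haveI : Fact (Nat.Prime 3) := ⟨Nat.prime_three⟩
  by_contra hne
  obtain ⟨x, hx, hxT, hxn⟩ := CfsgLib.McLThree.p_group_grows hP hT (Ne.symm hne)
  obtain ⟨k, hk⟩ := hP ⟨x, hx⟩
  exact hxT (B.H1_norm_T (B.three_H1 hcov (B.norm_T_N hxn) (congrArg Subtype.val hk)) hxn)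

theorem conj_into_T {P : Subgroup X} (hP : IsPGroup 3 P) : ∃ g : X, ∀ x ∈ P, g * x * g⁻¹ ∈ B.T := by
  haveI : Fact (Nat.Prime 3) := ⟨Nat.prime_three⟩
  obtain ⟨S, hS⟩ := hP.exists_le_sylow
  obtain ⟨R, hR⟩ := B.T_pgroup.exists_le_sylow
  have hRT : (R : Subgroup X) = B.T := B.T_sylow hcov R.isPGroup' hR
  obtain ⟨g, hg⟩ := MulAction.exists_smul_eq X S R
  refine ⟨g, fun x hx => ?_⟩
  rw [← hRT, ← hg]
  exact (Subgroup.mem_smul_pointwise_iff_exists _ _ _).2 ⟨x, hS hx, rfl⟩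

theorem J_unique_N {A : Subgroup X} (hA : A ≤ normalizer (B.J : Set X)) (hc : ∀ a ∈ A, ∀ b ∈ A, a * b = b * a)
    (hp : IsPGroup 3 A) (h27 : Nat.card A = 27) : A = B.J := by
  haveI : Fact (Nat.Prime 3) := ⟨Nat.prime_three⟩
  have hJp : IsPGroup 3 B.J := IsPGroup.of_card (n := 3) (by rw [B.J_card]; norm_num)
  obtain ⟨g, hg⟩ := B.conj_into_T hcov (IsPGroup.to_sup_of_normal_right' hp hJp hA)
  have key : ∀ C : Subgroup X, C ≤ A ⊔ B.J → (∀ a ∈ C, ∀ b ∈ C, a * b = b * a) → Nat.card C = 27 →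
      C.map (MulAut.conj g).toMonoidHom = B.J := fun C hC hCc hC27 => B.T_unique
    (by rintro _ ⟨x, hx, rfl⟩; exact hg x (hC hx))
    (by rintro _ ⟨a, ha, rfl⟩ _ ⟨b, hb, rfl⟩; rw [← map_mul, ← map_mul, hCc a ha b hb])
    (by rw [card_map_of_injective (MulEquiv.injective _), hC27])
  exact map_injective (MulEquiv.injective _) ((key A le_sup_left hc h27).trans
    (key B.J le_sup_right B.J_comm B.J_card).symm)

theorem fuse {x g : X} (hx : x ∈ B.J) (hC : centralizer ({g * x * g⁻¹} : Set X) ≤ normalizer (B.J : Set X)) :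
    g ∈ normalizer (B.J : Set X) := by
  haveI : Fact (Nat.Prime 3) := ⟨Nat.prime_three⟩
  have e := B.J_unique_N hcov (A := B.J.map (MulAut.conj g).toMonoidHom) (by
      rintro _ ⟨j, hj, rfl⟩
      refine hC (mem_centralizer_singleton_iff.2 ?_)
      show g * j * g⁻¹ * (g * x * g⁻¹) = g * x * g⁻¹ * (g * j * g⁻¹)
      rw [conj_mul, conj_mul, B.J_comm j hj x hx]) (by
      rintro _ ⟨a, ha, rfl⟩ _ ⟨b, hb, rfl⟩
      rw [← map_mul, ← map_mul, B.J_comm a ha b hb])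
    ((IsPGroup.of_card (n := 3) (by rw [B.J_card]; norm_num) : IsPGroup 3 B.J).map _)
    (by rw [card_map_of_injective (MulEquiv.injective _), B.J_card])
  exact norm_of_conj_le fun j hj => e ▸ mem_map_of_mem _ hj

theorem axes_perm {x : X} (hx : x ∈ normalizer (B.J : Set X)) (i : Fin 3) :
    ∃ k, x * B.a i * x⁻¹ = B.a k ∨ x * B.a i * x⁻¹ = (B.a k)⁻¹ := by
  rcases hcov x hx with h | ⟨F, hF⟩
  · obtain ⟨j, hj, f, hf, k, -, rfl⟩ := B.mem_H1.1 h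
    exact ⟨_, B.H1_axis hj hf k i⟩
  · obtain ⟨j, hj, f, hf, k, -, e⟩ := B.mem_H1.1 hF
    have hxe : x = j * f * B.w ^ k * F.r := by rw [← e, mul_assoc, F.r_sq, mul_one]
    obtain ⟨t, ht⟩ : ∃ t, F.r * B.a i * F.r⁻¹ = B.a t ∨ F.r * B.a i * F.r⁻¹ = (B.a t)⁻¹ := by
      rcases fin3_all i with rfl | rfl | rfl
      · exact ⟨_, (B.flip_odd F).1⟩
      · exact ⟨_, (B.flip_odd F).2.1⟩
      · exact ⟨_, (B.flip_odd F).2.2⟩
    exact ⟨t + (k : Fin 3), by rw [hxe]; exact B.axis_comp ht (B.H1_axis hj hf k t)⟩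

omit hcov in
theorem four_z1 {f : X} (hf : f ∈ B.four) (h : f * B.z1 * f⁻¹ = B.z1) : f = 1 := by
  rcases hf with rfl | ⟨m, rfl⟩
  · rfl
  exfalso
  rw [B.el_conj] at h
  have h' := congrFun (B.el_inj h) (m + 1)
  simp only [flip3, if_neg ((by decide : ∀ m : Fin 3, m + 1 ≠ m) m)] at h'
  exact absurd h' (by decide)

omit hcov in
theorem four_z1_inv {f : X} (hf : f ∈ B.four) : f * B.z1 * f⁻¹ ≠ B.z1⁻¹ := by
  intro h
  rw [← B.el_neg] at h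
  rcases hf with rfl | ⟨m, rfl⟩
  · rw [one_mul, inv_one, mul_one] at h
    exact absurd (congrFun (B.el_inj h) 0) (by decide)
  · rw [B.el_conj] at h
    have h' := congrFun (B.el_inj h) m
    simp [flip3] at h'
    exact absurd h' (by decide)

omit hcov in
theorem w_pow_z1 (k : ℕ) : B.w ^ k * B.z1 * (B.w ^ k)⁻¹ = B.z1 := by
  rw [((show Commute B.w B.z1 from B.z1_w).pow_left k).eq, mul_inv_cancel_right]

theorem cent_z1_T : centralizer ({B.z1} : Set X) ≤ B.T := by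
  intro x hx
  have hxz : x * B.z1 * x⁻¹ = B.z1 := mul_inv_eq_iff_eq_mul.2 (mem_centralizer_singleton_iff.1 hx)
  have hz : ∀ j f : X, j ∈ B.J → f ∈ B.four → ∀ k : ℕ, ∀ u, (u = B.z1 ∨ u = B.z1⁻¹) →
      j * f * B.w ^ k * u * (j * f * B.w ^ k)⁻¹ = f * u * f⁻¹ := by
    intro j f hj hf k u hu
    have hu' : B.w ^ k * u * (B.w ^ k)⁻¹ = u := by
      rcases hu with rfl | rfl
      · exact B.w_pow_z1 k
      · rw [← conj_inv, B.w_pow_z1]
    have huJ : f * u * f⁻¹ ∈ B.J := (Subgroup.mem_normalizer_iff.1 (B.four_norm hf) u).1 (by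
      rcases hu with rfl | rfl
      exacts [B.z1_mem, inv_mem B.z1_mem])
    rw [show j * f * B.w ^ k * u * (j * f * B.w ^ k)⁻¹ = j * (f * (B.w ^ k * u * (B.w ^ k)⁻¹) * f⁻¹) * j⁻¹ by group,
      hu', B.J_comm j hj _ huJ, mul_inv_cancel_right]
  rcases hcov x (B.cent_z hx) with h | ⟨F, hF⟩
  · obtain ⟨j, hj, f, hf, k, -, rfl⟩ := B.mem_H1.1 h
    rw [hz j f hj hf k _ (Or.inl rfl)] at hxz
    rw [B.four_z1 hf hxz, mul_one]
    exact mul_mem (B.J_T hj) (pow_mem B.w_T k)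
  · exfalso
    obtain ⟨j, hj, f, hf, k, -, e⟩ := B.mem_H1.1 hF
    have hxe : x = j * f * B.w ^ k * F.r := by rw [← e, mul_assoc, F.r_sq, mul_one]
    rw [hxe, show j * f * B.w ^ k * F.r * B.z1 * (j * f * B.w ^ k * F.r)⁻¹ =
      j * f * B.w ^ k * (F.r * B.z1 * F.r⁻¹) * (j * f * B.w ^ k)⁻¹ by group, F.r_z, hz j f hj hf k _ (Or.inr rfl),
      ← conj_inv] at hxz
    exact B.four_z1_inv hf (inv_eq_iff_eq_inv.1 hxz)

theorem cent_w_N {x : X} (hx : x ∈ normalizer (B.J : Set X)) (hw : x * B.w * x⁻¹ = B.w) :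
    ∃ m : ZMod 3, ∃ k : ℕ, x = B.z1 ^ m.val * B.w ^ k := by
  rcases hcov x hx with h | ⟨F, hF⟩
  · obtain ⟨j, hj, f, hf, k, -, rfl⟩ := B.mem_H1.1 h
    have hf1 : f = 1 := by
      refine B.four_comm_w hf (k := 1) (Or.inl rfl) ?_
      rw [pow_one]
      have e : f * B.w * f⁻¹ * B.w⁻¹ = j⁻¹ * (B.w * j * B.w⁻¹) := by
        conv_rhs => rw [show B.w * j = j * f * B.w ^ k * B.w * (j * f * B.w ^ k)⁻¹ * j by rw [hw]]
        group
      rw [e]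
      exact mul_mem (inv_mem hj) ((Subgroup.mem_normalizer_iff.1 B.w_N j).1 hj)
    subst hf1
    have hc : B.w * j = j * B.w := by
      rw [mul_one] at hw
      have h2 : j * B.w * j⁻¹ = B.w := by
        calc j * B.w * j⁻¹ = j * B.w ^ k * B.w * (j * B.w ^ k)⁻¹ := by group
          _ = B.w := hw
      exact (mul_inv_eq_iff_eq_mul.1 h2).symm
    obtain ⟨m, rfl⟩ := B.cent_J_w hj hc
    exact ⟨m, k, by rw [mul_one]⟩
  · exfalso
    obtain ⟨j, hj, f, hf, k, -, e⟩ := B.mem_H1.1 hF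
    have hxe : x = j * f * B.w ^ k * F.r := by rw [← e, mul_assoc, F.r_sq, mul_one]
    have hwinv : j * f * B.w⁻¹ * f⁻¹ * j⁻¹ = B.w := by
      calc j * f * B.w⁻¹ * f⁻¹ * j⁻¹ = j * f * B.w ^ k * (F.r * B.w * F.r⁻¹) * (j * f * B.w ^ k)⁻¹ := by
            rw [F.r_w]; group
        _ = x * B.w * x⁻¹ := by rw [hxe]; group
        _ = B.w := hw
    have hJV : B.w * B.w ∈ B.JV := by
      set u := f * B.w⁻¹ * f⁻¹ * B.w
      have hu : u ∈ B.JV := by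
        refine mem_sup_left ?_
        have h1 : u = f * (B.w ^ 2 * f⁻¹ * (B.w ^ 2)⁻¹) := by simp only [u]; rw [← B.w_inv]; group
        rw [h1]
        exact mul_mem hf (B.w_four (inv_mem hf) 2)
      have h2 : B.w * B.w = j * u * (B.w⁻¹ * j⁻¹ * B.w) := by
        nth_rw 1 [← hwinv]; simp only [u]; group
      rw [h2]
      refine mul_mem (mul_mem (mem_sup_right hj) hu) (mem_sup_right ?_)
      have := (Subgroup.mem_normalizer_iff.1 (inv_mem B.w_N) j⁻¹).1 (inv_mem hj)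
      rwa [inv_inv] at this
    obtain ⟨j', hj', f', hf', e'⟩ := B.mem_JV.1 hJV
    have h0 : j'⁻¹ * 1 * B.w ^ 2 ∈ B.JV := by
      rw [mul_one, pow_two, e', inv_mul_cancel_left]; exact mem_sup_left hf'
    have h1 : (1 : X) * f' * B.w ^ 1 ∈ B.J := by
      rw [one_mul, pow_one, show f' = j'⁻¹ * (B.w * B.w) by rw [e', inv_mul_cancel_left],
        show j'⁻¹ * (B.w * B.w) * B.w = j'⁻¹ * B.w ^ 3 by rw [pow_succ, pow_two]; group, B.w_cube, mul_one]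
      exact inv_mem hj'
    exact absurd (B.H1_unique (one_mem _) hf' (by norm_num) h1).2 (by norm_num)

/-- The three-subgroups of the centralizer of the first involution. -/
theorem cent_v0_three {P : Subgroup X} (hP : IsPGroup 3 P) (hPC : P ≤ centralizer ({B.v 0} : Set X))
    (ha : B.a 0 ∈ P) : P = zpowers (B.a 0) := by
  haveI : Fact (Nat.Prime 3) := ⟨Nat.prime_three⟩
  by_contra hne
  obtain ⟨x, hx, hxA, hxn⟩ := CfsgLib.McLThree.p_group_grows hP (zpowers_le.2 ha) (Ne.symm hne)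
  have hsq : x * x ∈ normalizer (B.J : Set X) := by
    refine B.cent_a (mem_centralizer_singleton_iff.2 (mul_inv_eq_iff_eq_mul.1 ?_))
    obtain ⟨n, hn⟩ := mem_powers_iff_mem_zpowers.2 ((Subgroup.mem_normalizer_iff.1 hxn _).1 (mem_zpowers (B.a 0)))
    have hn' : B.a 0 ^ n = x * B.a 0 * x⁻¹ := hn
    have h2 : x * x * B.a 0 * (x * x)⁻¹ = B.a 0 ^ (n * n) := by
      rw [show x * x * B.a 0 * (x * x)⁻¹ = x * (x * B.a 0 * x⁻¹) * x⁻¹ by group, ← hn', ← conj_pow, ← hn', ← pow_mul]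
    rw [h2, pow_eq_pow_mod _ (B.J_exp _ (B.a_J 0))]
    have hn3 : n % 3 ≠ 0 := fun e0 => B.a_ne 0 (by
      rw [pow_eq_pow_mod n (B.J_exp _ (B.a_J 0)), e0, pow_zero, eq_comm, conj_eq_one_iff] at hn'
      exact hn')
    rw [Nat.mul_mod]
    obtain h | h : n % 3 = 1 ∨ n % 3 = 2 := by omega
    all_goals rw [h]; exact pow_one _
  obtain ⟨k, hk⟩ := hP ⟨x, hx⟩
  have hk' : x ^ 3 ^ k = 1 := congrArg Subtype.val hk
  obtain ⟨n, hn⟩ : Odd (3 ^ k) := Odd.pow (by decide)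
  have hxN : x ∈ normalizer (B.J : Set X) := odd_pow_mem hsq (hn ▸ hk')
  obtain ⟨j, hj, f, hf, m, hm, rfl⟩ := B.mem_H1.1 (B.three_H1 hcov hxN hk')
  have hcv : j * f * B.w ^ m * B.v 0 * (j * f * B.w ^ m)⁻¹ = B.v 0 :=
    mul_inv_eq_iff_eq_mul.2 (mem_centralizer_singleton_iff.1 (hPC hx))
  rw [show j * f * B.w ^ m * B.v 0 * (j * f * B.w ^ m)⁻¹ = j * (f * (B.w ^ m * B.v 0 * (B.w ^ m)⁻¹) * f⁻¹) * j⁻¹ by
    group, B.w_pow_v, B.four_v hf, zero_add] at hcv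
  have hm0 : m = 0 := by
    by_contra h0
    have hd : B.v ((m : Fin 3)) * B.v 0 ∈ B.J := by
      have e : B.v (m : Fin 3) * B.v 0 = j⁻¹ * (B.v 0 * j * (B.v 0)⁻¹) := by
        nth_rw 2 [← hcv]
        rw [show j⁻¹ * (j * B.v (m : Fin 3) * j⁻¹ * j * (B.v 0)⁻¹) = B.v (m : Fin 3) * (B.v 0)⁻¹ by group, B.v_inv_eq]
      rw [e]
      exact mul_mem (inv_mem hj) ((Subgroup.mem_normalizer_iff.1 (B.v_N 0) j).1 hj)
    rcases B.v_mul_any (m : Fin 3) 0 with e | ⟨n', e⟩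
    · have hv : B.v (m : Fin 3) = B.v 0 := by rw [eq_inv_of_mul_eq_one_left e, B.v_inv_eq]
      have hm' : (m : Fin 3) ≠ 0 := by interval_cases m <;> first | exact absurd rfl h0 | decide
      have h2 := B.v_inv (m : Fin 3) 0 hm'
      rw [← hv, B.v_a, mul_inv_cancel_right] at h2
      have h4 := B.J_exp _ (B.a_J (m : Fin 3))
      have h5 : B.a (m : Fin 3) * B.a (m : Fin 3) = 1 := by nth_rw 1 [h2]; exact inv_mul_cancel _
      rw [pow_succ, pow_two, h5, one_mul] at h4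
      exact B.a_ne _ h4
    · exact B.v_not_J n' (e ▸ hd)
  subst hm0
  rw [pow_zero, mul_one] at hx hxA hk' hxN hsq
  obtain ⟨p, hp⟩ : ∃ p, B.el p = j * f := by
    refine B.el_surj ?_
    rcases hf with rfl | ⟨i, rfl⟩
    · simpa using hj
    · exfalso
      have h2 : (j * B.v i) * (j * B.v i) ∈ B.J := by
        rw [show j * B.v i * (j * B.v i) = j * (B.v i * j * B.v i) by group]
        nth_rw 2 [← B.v_inv_eq i]
        exact mul_mem hj ((Subgroup.mem_normalizer_iff.1 (B.v_N i) j).1 hj)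
      have h3 := mul_mem (inv_mem hj) (odd_pow_mem h2 (hn ▸ hk') : j * B.v i ∈ B.J)
      rw [inv_mul_cancel_left] at h3
      exact B.v_not_J i h3
  have hp0 : B.v 0 * B.el p * (B.v 0)⁻¹ = B.el p := by
    rw [hp, mul_inv_eq_iff_eq_mul]
    exact (mem_centralizer_singleton_iff.1 (hPC hx)).symm
  rw [B.el_conj] at hp0
  have hf' := B.el_inj hp0
  refine hxA ?_
  have hz : ∀ k, k ≠ (0 : Fin 3) → p k = 0 := fun k hk => by
    have h' := congrFun hf' k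
    simp only [flip3, if_neg hk] at h'
    exact zmod_neg_fix _ h'
  rw [← hp, show p = Pi.single 0 (p 0) from funext fun k => by
    rcases eq_or_ne k 0 with rfl | hk
    · simp
    · rw [Pi.single_eq_of_ne hk, hz k hk], B.el_axis]
  exact pow_mem (mem_zpowers _) _

end Bar

end CfsgLib.McLThree.Weak
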