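import Cfsg.Agent.Lib.McLThree.Five
import Cfsg.Agent.Lib.McLThree.Weak.BarSylow
import Cfsg.Agent.Lib.Components
import Cfsg.Agent.Lib.Basic

/-!
The local data from the generalised Fitting subgroups of the two local groups.
-/

set_option autoImplicit false

namespace CfsgLib.McLThree.Weak

open Subgroup Cfsg

universe u v

theorem extraspecial_of_equiv {X : Type u} {Y : Type v} [Group X] [Group Y] {p : ℕ} (e : X ≃* Y)
    (h : IsExtraspecial p X) : IsExtraspecial p Y := by
  obtain ⟨⟨hp, hf, hd⟩, hc⟩ := h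
  have hcen : (Subgroup.center X).map e.toMonoidHom = Subgroup.center Y := by
    ext y
    rw [Subgroup.mem_map_equiv, Subgroup.mem_center_iff, Subgroup.mem_center_iff]
    constructor
    · intro hh z
      apply e.symm.injective
      rw [map_mul, map_mul]
      exact hh _
    · intro hh z
      apply e.injective
      simp only [map_mul, MulEquiv.apply_symm_apply]
      exact hh _
  have hfr : (frattini X).map e.toMonoidHom = frattini Y := by
    refine le_antisymm (map_le_iff_le_comap.2 (frattini_le_comap_frattini_of_surjective e.surjective)) fun y hy => ?_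
    rw [Subgroup.mem_map_equiv]
    exact frattini_le_comap_frattini_of_surjective (φ := e.symm.toMonoidHom) e.symm.surjective hy
  refine ⟨⟨hp.of_equiv e, ?_, ?_⟩, ?_⟩
  · rw [← hfr, hf, hcen]
  · have h1 : (commutator X).map e.toMonoidHom = commutator Y := by
      rw [commutator_def, commutator_def, map_commutator, map_top_of_surjective _ e.surjective]
    rw [← h1, hd, hcen]
  · rw [← hcen, card_map_of_injective (f := e.toMonoidHom) e.injective, hc]

/-- An element with image of three-power order has a power with the same image and three-power order. -/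
theorem three_lift {G : Type u} {H : Type v} [Group G] [Group H] [Finite G] (f : G →* H) (x : G) {k : ℕ}
    (hk : f x ^ 3 ^ k = 1) : ∃ n a : ℕ, f (x ^ n) = f x ∧ (x ^ n) ^ 3 ^ a = 1 := by
  obtain ⟨a, m, hm, he⟩ := Nat.exists_eq_pow_mul_and_not_dvd (orderOf_pos x).ne' 3 (by norm_num)
  have hcop : (3 ^ k).Coprime m := Nat.Coprime.pow_left k ((Nat.Prime.coprime_iff_not_dvd Nat.prime_three).2 hm)
  obtain ⟨n, h1, h0⟩ := Nat.chineseRemainder hcop 1 0
  refine ⟨n, a, ?_, ?_⟩
  · rw [map_pow, pow_eq_pow_mod n hk, show n % 3 ^ k = 1 % 3 ^ k from h1, ← pow_eq_pow_mod 1 hk, pow_one]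
  · obtain ⟨d, hd⟩ := Nat.modEq_zero_iff_dvd.1 h0
    rw [← pow_mul, hd, show m * d * 3 ^ a = 3 ^ a * m * d by ring, ← he, pow_mul, pow_orderOf_eq_one, one_pow]

theorem three_pow_order {G : Type u} [Group G] {x : G} :
    (∃ k : ℕ, orderOf x = 3 ^ k) ↔ ∃ k : ℕ, x ^ 3 ^ k = 1 := by
  refine ⟨fun ⟨k, hk⟩ => ⟨k, by rw [← hk]; exact pow_orderOf_eq_one x⟩, fun ⟨k, hk⟩ => ?_⟩
  obtain ⟨i, -, hi⟩ := (Nat.dvd_prime_pow Nat.prime_three).1 (orderOf_dvd_of_pow_eq_one hk)
  exact ⟨i, hi⟩

/-- Three-elements acting on a normal copy of SL(2,5) containing its centralizer lie in it. -/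
theorem three_mem_of_copy {H : Type u} [Group H] (E : Subgroup H) [E.Normal] (hc : centralizer (E : Set H) ≤ E)
    (e : E ≃* K5) {y : H} {k : ℕ} (hy : y ^ 3 ^ k = 1) : y ∈ E := by
  set α : MulAut K5 := MulAut.congr e (MulAut.conjNormal y) with hα
  have hα3 : α ^ 3 ^ k = 1 := by rw [hα, ← map_pow, ← map_pow, hy, map_one, map_one]
  have hsign : Equiv.Perm.sign (perm5 α) = 1 := by
    rcases Int.units_eq_one_or (Equiv.Perm.sign (perm5 α)) with h | h
    · exact h
    · exfalso
      have h1 : (Equiv.Perm.sign (perm5 α)) ^ 3 ^ k = 1 := by rw [← map_pow, ← map_pow, hα3, map_one, map_one]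
      rw [h, Odd.neg_one_pow (Odd.pow (by decide))] at h1
      exact absurd h1 (by decide)
  obtain ⟨x, hx⟩ := perm5_even hsign
  have hαx : α = MulAut.conj x := by
    have h := perm5_inj (α := (MulAut.conj x)⁻¹ * α) (by rw [map_mul, map_inv, hx, inv_mul_cancel])
    exact (inv_mul_eq_one.1 h).symm
  set w : E := e.symm x
  have key : ∀ v : E, y * (v : H) * y⁻¹ = (w : H) * v * (w : H)⁻¹ := by
    intro v
    have h1 : α (e v) = e (MulAut.conjNormal y v) := by simp [hα]
    rw [hαx, MulAut.conj_apply, show x = e w from (e.apply_symm_apply x).symm, ← map_inv, ← map_mul, ← map_mul] at h1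
    have h2 := congrArg Subtype.val (e.injective h1)
    simpa using h2.symm
  have hw : (w : H)⁻¹ * y ∈ centralizer (E : Set H) := mem_centralizer_iff.2 fun v hv => by
    have h := key ⟨v, hv⟩
    calc v * ((w : H)⁻¹ * y) = (w : H)⁻¹ * ((w : H) * v * (w : H)⁻¹) * y := by group
      _ = (w : H)⁻¹ * y * v := by rw [← h]; group
  have := mul_mem w.2 (hc hw)
  rwa [mul_inv_cancel_left] at this

/-- The subgroup generated by three-elements modulo a normal subgroup. -/
theorem three_closure_quot {G : Type u} [Group G] [Finite G] (M : Subgroup G) {T : Subgroup M} [T.Normal]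
    {P : Set G} (hP : ∀ g, g ∈ P ↔ g ∈ M ∧ ∃ k : ℕ, g ^ 3 ^ k = 1) (hle : closure P ≤ M) :
    (((QuotientGroup.mk' T).comp (inclusion hle)).range) = closure {x : M ⧸ T | ∃ k : ℕ, orderOf x = 3 ^ k} := by
  refine le_antisymm ?_ ((closure_le _).2 ?_)
  · rintro _ ⟨⟨x, hx⟩, rfl⟩
    induction hx using closure_induction with
    | mem l hl =>
      obtain ⟨hlM, k, hk⟩ := (hP l).1 hl
      refine subset_closure (three_pow_order.2 ⟨k, ?_⟩)
      rw [← map_pow]
      refine (congrArg _ (Subtype.ext ?_)).trans (map_one ((QuotientGroup.mk' T).comp (inclusion hle)))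
      simpa using hk
    | one => exact (map_one ((QuotientGroup.mk' T).comp (inclusion hle))).symm ▸ one_mem _
    | mul a b ha hb iha ihb =>
      exact ((map_mul ((QuotientGroup.mk' T).comp (inclusion hle)) (⟨a, ha⟩ : closure P) ⟨b, hb⟩).symm ▸ mul_mem iha ihb :)
    | inv a ha iha =>
      exact ((map_inv ((QuotientGroup.mk' T).comp (inclusion hle)) (⟨a, ha⟩ : closure P)).symm ▸ inv_mem iha :)
  · intro y hy
    obtain ⟨k, hk⟩ := three_pow_order.1 hy
    obtain ⟨x, rfl⟩ := QuotientGroup.mk'_surjective T y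
    obtain ⟨n, a, hn, ha⟩ := three_lift (QuotientGroup.mk' T) x hk
    exact ⟨⟨((x ^ n : M) : G), subset_closure ((hP _).2 ⟨(x ^ n : M).2, a, by
      rw [← SubmonoidClass.coe_pow, ha]; rfl⟩)⟩, hn⟩

/-- In the quotient the three-elements generate the copy of SL(2,5). -/
theorem closure_three_copy {H : Type u} [Group H] (E : Subgroup H) [E.Normal] (hc : centralizer (E : Set H) ≤ E)
    (e : E ≃* K5) : closure {x : H | ∃ k : ℕ, orderOf x = 3 ^ k} = E := by
  set C := closure {x : H | ∃ k : ℕ, orderOf x = 3 ^ k}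
  refine le_antisymm ((closure_le _).2 fun x hx => ?_) fun x hx => ?_
  · obtain ⟨k, hk⟩ := three_pow_order.1 hx
    exact three_mem_of_copy E hc e hk
  · let P : Subgroup K5 := (C.comap E.subtype).map e.toMonoidHom
    have hmem : ∀ v : K5, v ^ 3 = 1 → v ∈ P := fun v hv => ⟨e.symm v, subset_closure (three_pow_order.2 ⟨1, by
      rw [pow_one]
      have h : (e.symm v) ^ 3 = 1 := by rw [← map_pow, hv, map_one]
      exact congrArg Subtype.val h⟩), e.apply_symm_apply v⟩
    have hP : P = ⊤ := k5_gen (hmem _ k5_basic.1) (hmem _ (by rw [conj_pow, k5_basic.1]; group))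
    obtain ⟨w, hw, he⟩ := (hP.ge (mem_top (e ⟨x, hx⟩)) : e ⟨x, hx⟩ ∈ P)
    have := e.injective he
    rw [this] at hw
    exact hw

section Data

variable {G : Type u} [Group G] [Finite G] {Z : Subgroup G}

/-- The image of the generalised Fitting subgroup of the centralizer. -/
abbrev Qc (Z : Subgroup G) : Subgroup G :=
  (generalizedFittingSubgroup (centralizer (Z : Set G))).map (centralizer (Z : Set G)).subtype

theorem cent_le_norm (Z : Subgroup G) : centralizer (Z : Set G) ≤ normalizer (Z : Set G) := fun x hx =>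
  norm_of_conj_le fun v hv => by rw [← mem_centralizer_iff.1 hx v hv, mul_inv_cancel_right]; exact hv

theorem conj_cent (Z : Subgroup G) {x c : G} (hx : x ∈ normalizer (Z : Set G)) (hc : c ∈ centralizer (Z : Set G)) :
    x * c * x⁻¹ ∈ centralizer (Z : Set G) := by
  refine mem_centralizer_iff.2 fun e he => ?_
  have he' : x⁻¹ * e * x ∈ Z := by
    refine (Subgroup.mem_normalizer_iff.1 hx _).2 ?_
    rw [show x * (x⁻¹ * e * x) * x⁻¹ = e by group]; exact he
  have h := mem_centralizer_iff.1 hc _ he'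
  calc e * (x * c * x⁻¹) = x * (x⁻¹ * e * x * c) * x⁻¹ := by group
    _ = _ := by rw [h]; group

theorem norm_Qc (Z : Subgroup G) : normalizer (Z : Set G) ≤ normalizer (Qc Z : Set G) := by
  intro x hx
  refine norm_of_conj_le ?_
  rintro _ ⟨v, hv, rfl⟩
  let σ : centralizer (Z : Set G) ≃* centralizer (Z : Set G) :=
    { toFun := fun c => ⟨x * c * x⁻¹, conj_cent Z hx c.2⟩
      invFun := fun c => ⟨x⁻¹ * c * x, by simpa using conj_cent Z (inv_mem hx) c.2⟩
      left_inv := fun c => Subtype.ext (by push_cast; group)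
      right_inv := fun c => Subtype.ext (by push_cast; group)
      map_mul' := fun a b => Subtype.ext (by push_cast; group) }
  exact ⟨σ v, (CfsgLib.map_generalizedFittingSubgroup_equiv σ).le ⟨v, hv, rfl⟩, rfl⟩

variable (hZ : Nat.card Z = 3)

include hZ

theorem exists_gen : ∃ z ∈ Z, orderOf z = 3 ∧ Z = zpowers z := by
  haveI : Fact (Nat.Prime 3) := ⟨Nat.prime_three⟩
  obtain ⟨z, hz⟩ := exists_prime_orderOf_dvd_card' (G := Z) 3 (by rw [hZ])
  refine ⟨z, z.2, by rwa [orderOf_submonoid], (eq_of_le_of_card_ge (zpowers_le.2 z.2) ?_).symm⟩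
  rw [hZ, Nat.card_zpowers, orderOf_submonoid, hz]

theorem Z_le_cent : Z ≤ centralizer (Z : Set G) := by
  obtain ⟨z, -, -, rfl⟩ := exists_gen hZ
  intro a ha
  refine mem_centralizer_iff.2 fun b hb => ?_
  obtain ⟨i, rfl⟩ := mem_zpowers_iff.1 ha
  obtain ⟨j, rfl⟩ := mem_zpowers_iff.1 hb
  exact ((Commute.refl z).zpow_zpow j i).eq

/-- Three-elements of the normalizer centralise. -/
theorem three_cent {x : G} (hx : x ∈ normalizer (Z : Set G)) {k : ℕ} (hk : x ^ 3 ^ k = 1) :
    x ∈ centralizer (Z : Set G) := by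
  obtain ⟨m, hm⟩ : Odd (3 ^ k) := Odd.pow (by decide)
  refine odd_pow_mem ?_ (n := m) (by rwa [← hm])
  obtain ⟨z, hzZ, hz, rfl⟩ := exists_gen hZ
  have hz3 : z ^ 3 = 1 := hz ▸ pow_orderOf_eq_one z
  rw [Subgroup.zpowers_eq_closure, centralizer_closure, mem_centralizer_singleton_iff]
  refine mul_inv_eq_iff_eq_mul.1 ?_
  obtain ⟨i, hi⟩ := mem_powers_iff_mem_zpowers.2 ((Subgroup.mem_normalizer_iff.1 hx z).1 (mem_zpowers z))
  have hi' : z ^ i = x * z * x⁻¹ := hi
  rw [show x * x * z * (x * x)⁻¹ = x * (x * z * x⁻¹) * x⁻¹ by group, ← hi', ← conj_pow, ← hi', ← pow_mul,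
    pow_eq_pow_mod _ hz3]
  have h0 : i % 3 ≠ 0 := fun h => by
    rw [pow_eq_pow_mod _ hz3, h, pow_zero, eq_comm, conj_eq_one_iff] at hi'
    rw [hi', orderOf_one] at hz
    omega
  rw [Nat.mul_mod]
  obtain h | h : i % 3 = 1 ∨ i % 3 = 2 := by omega
  all_goals rw [h, pow_one]

variable (hQ : IsExtraspecial 3 (generalizedFittingSubgroup (centralizer (Z : Set G))))

include hQ

theorem Qc_isP : IsPGroup 3 (Qc Z) := hQ.1.1.map _

theorem Z_le_Qc : Z ≤ Qc Z := fun c hc => by
  refine ⟨⟨c, Z_le_cent hZ hc⟩, CfsgLib.centralizer_generalizedFitting_le (mem_centralizer_iff.2 fun w _ => ?_), rfl⟩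
  exact Subtype.ext (mem_centralizer_iff.1 w.2 c hc).symm

theorem cent_Qc : centralizer (Qc Z : Set G) ≤ Qc Z := fun x hx => by
  have hxM : x ∈ centralizer (Z : Set G) := centralizer_le (Z_le_Qc hZ hQ) hx
  exact ⟨⟨x, hxM⟩, CfsgLib.centralizer_generalizedFitting_le (mem_centralizer_iff.2 fun w hw =>
    Subtype.ext (mem_centralizer_iff.1 hx w ⟨w, hw, rfl⟩)), rfl⟩

theorem centre_Qc {q : G} (hq : q ∈ Qc Z) (h : ∀ x ∈ Qc Z, x * q = q * x) : q ∈ Z := by
  set F := generalizedFittingSubgroup (centralizer (Z : Set G))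
  set C : Subgroup G := ((Subgroup.center F).map F.subtype).map (centralizer (Z : Set G)).subtype
  have hC : Nat.card C = 3 := by
    rw [card_map_of_injective Subtype.val_injective, card_map_of_injective Subtype.val_injective, hQ.2]
  have hZC : Z ≤ C := fun c hc => by
    obtain ⟨w, hw, rfl⟩ := Z_le_Qc hZ hQ hc
    refine ⟨w, ⟨⟨w, hw⟩, Subgroup.mem_center_iff.2 fun v => Subtype.ext (Subtype.ext ?_), rfl⟩, rfl⟩
    exact (mem_centralizer_iff.1 (v : centralizer (Z : Set G)).2 _ hc).symm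
  rw [eq_of_le_of_card_ge hZC (by rw [hC, hZ])]
  obtain ⟨w, hw, rfl⟩ := hq
  exact ⟨w, ⟨⟨w, hw⟩, Subgroup.mem_center_iff.2 fun v =>
    Subtype.ext (Subtype.ext (h _ ⟨(v : centralizer (Z : Set G)), v.2, rfl⟩)), rfl⟩, rfl⟩

theorem Qc_eq_pCore : Qc Z = (pCore 3 (normalizer (Z : Set G))).map (normalizer (Z : Set G)).subtype := by
  haveI : Fact (Nat.Prime 3) := ⟨Nat.prime_three⟩
  have hle : Qc Z ≤ normalizer (Z : Set G) := (map_subtype_le _).trans (cent_le_norm Z)
  refine le_antisymm ?_ ?_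
  · haveI : ((Qc Z).subgroupOf (normalizer (Z : Set G))).Normal := (normal_subgroupOf_iff_le_normalizer hle).2 (norm_Qc Z)
    have h := CfsgLib.le_pCore (p := 3) (N := (Qc Z).subgroupOf (normalizer (Z : Set G)))
      ((Qc_isP hZ hQ).of_injective (subgroupOfEquivOfLe hle).toMonoidHom (MulEquiv.injective _))
    exact fun r hr => ⟨⟨r, hle hr⟩, h (mem_subgroupOf.2 hr), rfl⟩
  · set R := (pCore 3 (normalizer (Z : Set G))).map (normalizer (Z : Set G)).subtype
    have hR : IsPGroup 3 R := (CfsgLib.isPGroup_pCore 3).map _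
    have hRM : R ≤ centralizer (Z : Set G) := fun r hr => by
      obtain ⟨k, hk⟩ := hR ⟨r, hr⟩
      exact three_cent hZ (map_subtype_le _ hr) (congrArg Subtype.val hk : r ^ 3 ^ k = 1)
    have hn : normalizer (Z : Set G) ≤ normalizer (R : Set G) := fun x hx => norm_of_conj_le (by
      rintro _ ⟨w, hw, rfl⟩
      exact ⟨⟨x, hx⟩ * w * ⟨x, hx⟩⁻¹,
        (inferInstance : (pCore 3 (normalizer (Z : Set G))).Normal).conj_mem w hw _, rfl⟩)
    haveI : (R.subgroupOf (centralizer (Z : Set G))).Normal :=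
      (normal_subgroupOf_iff_le_normalizer hRM).2 ((cent_le_norm Z).trans hn)
    have h := CfsgLib.le_pCore (p := 3) (N := R.subgroupOf (centralizer (Z : Set G)))
      (hR.of_injective (subgroupOfEquivOfLe hRM).toMonoidHom (MulEquiv.injective _))
    exact fun r hr => ⟨⟨r, hRM hr⟩, CfsgLib.fittingSubgroup_le_generalized
      (CfsgLib.pCore_le_fittingSubgroup Nat.prime_three (h (mem_subgroupOf.2 hr))), rfl⟩

theorem pCore_cent : (pCore 3 (centralizer (Z : Set G))).map (centralizer (Z : Set G)).subtype = Qc Z := by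
  haveI : Fact (Nat.Prime 3) := ⟨Nat.prime_three⟩
  refine congrArg (fun H => Subgroup.map (centralizer (Z : Set G)).subtype H) (le_antisymm ?_ ?_)
  · exact (CfsgLib.pCore_le_fittingSubgroup Nat.prime_three).trans CfsgLib.fittingSubgroup_le_generalized
  · exact CfsgLib.le_pCore hQ.1.1

variable (S : Sylow 3 (centralizer (Z : Set G)))

/-- The Sylow subgroup of the centralizer, in the group. -/
abbrev SG : Subgroup G := (S : Subgroup (centralizer (Z : Set G))).map (centralizer (Z : Set G)).subtype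

theorem Qc_le_SG : Qc Z ≤ SG S := by
  refine Subgroup.map_mono ?_
  have h : IsPGroup 3 (generalizedFittingSubgroup (centralizer (Z : Set G)) ⊔ S : Subgroup (centralizer (Z : Set G))) :=
    IsPGroup.to_sup_of_normal_left hQ.1.1 S.2
  exact le_sup_left.trans_eq (S.3 h le_sup_right)

theorem SG_centre : Z = SG S ⊓ centralizer (SG S : Set G) := by
  refine le_antisymm ?_ ?_
  · intro c hc
    refine ⟨Qc_le_SG hZ hQ S (Z_le_Qc hZ hQ hc), mem_centralizer_iff.2 fun x hx => ?_⟩
    exact (mem_centralizer_iff.1 (map_subtype_le _ hx) c hc).symm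
  · rintro x ⟨hxS, hxc⟩
    have hxQ : x ∈ Qc Z := cent_Qc hZ hQ (centralizer_le (Qc_le_SG hZ hQ S) hxc)
    exact centre_Qc hZ hQ hxQ fun v hv => mem_centralizer_iff.1 hxc v (Qc_le_SG hZ hQ S hv)

theorem SG_max {P : Subgroup G} (hP : IsPGroup 3 P) (hle : SG S ≤ P) : P = SG S := by
  haveI : Fact (Nat.Prime 3) := ⟨Nat.prime_three⟩
  by_contra hne
  obtain ⟨x, hxP, hxS, hxN⟩ := p_group_grows hP hle (Ne.symm hne)
  have hxZ : x ∈ normalizer (Z : Set G) := norm_of_conj_le fun c hc => by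
    have hS := SG_centre hZ hQ S
    rw [hS] at hc ⊢
    refine ⟨(Subgroup.mem_normalizer_iff.1 hxN c).1 hc.1, mem_centralizer_iff.2 fun v hv => ?_⟩
    have hv' : x⁻¹ * v * x ∈ SG S := (Subgroup.mem_normalizer_iff.1 hxN _).2 (by
      rwa [show x * (x⁻¹ * v * x) * x⁻¹ = v by group])
    have h := mem_centralizer_iff.1 hc.2 _ hv'
    calc v * (x * c * x⁻¹) = x * (x⁻¹ * v * x * c) * x⁻¹ := by group
      _ = _ := by rw [h]; group
  obtain ⟨k, hk⟩ := hP ⟨x, hxP⟩
  have hxM : x ∈ centralizer (Z : Set G) := three_cent hZ hxZ (congrArg Subtype.val hk : x ^ 3 ^ k = 1)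
  have h3 : IsPGroup 3 (P.subgroupOf (centralizer (Z : Set G))) := hP.comap_of_injective _ Subtype.val_injective
  have e := S.3 h3 fun s hs => mem_subgroupOf.2 (hle ⟨s, hs, rfl⟩)
  have hx' : (⟨x, hxM⟩ : centralizer (Z : Set G)) ∈ (S : Subgroup (centralizer (Z : Set G))) :=
    e ▸ mem_subgroupOf.2 hxP
  exact hxS ⟨_, hx', rfl⟩

end Data

end CfsgLib.McLThree.Weak
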