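import Cfsg.Agent.Lib.McLThree.ND
import Cfsg.Agent.Lib.CoprimeGen

/-!
An elementary abelian group of order 27 with three axes, normalised by a four-group.
-/

set_option autoImplicit false

namespace CfsgLib.McLThree.Weak

open Subgroup

universe u

/-- The element with the given coordinates. -/
def axEl {Y : Type*} [Group Y] (a : Fin 3 → Y) (p : Fin 3 → ZMod 3) : Y :=
  a 0 ^ (p 0).val * a 1 ^ (p 1).val * a 2 ^ (p 2).val

/-- Coordinates with all signs changed except at the given axis. -/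
def flip3 (i : Fin 3) (p : Fin 3 → ZMod 3) : Fin 3 → ZMod 3 := fun k => if k = i then p k else -p k

/-- The coordinates. -/
structure Coord (Y : Type u) [Group Y] where
  /-- the abelian subgroup -/
  J : Subgroup Y
  /-- abelian -/
  J_comm : ∀ x ∈ J, ∀ y ∈ J, x * y = y * x
  /-- exponent three -/
  J_exp : ∀ x ∈ J, x ^ 3 = 1
  /-- order 27 -/
  J_card : Nat.card J = 27
  /-- the involutions -/
  v : Fin 3 → Y
  /-- squares -/
  v_sq : ∀ i, v i * v i = 1
  /-- products -/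
  v_mul : ∀ i, v i * v (i + 1) = v (i + 2)
  /-- they normalise `J` -/
  v_N : ∀ i, v i ∈ normalizer (J : Set Y)
  /-- the axes -/
  a : Fin 3 → Y
  /-- in `J` -/
  a_J : ∀ i, a i ∈ J
  /-- non-trivial -/
  a_ne : ∀ i, a i ≠ 1
  /-- fixed by their involution -/
  v_a : ∀ i, v i * a i = a i * v i
  /-- inverted by the others -/
  v_inv : ∀ i k, i ≠ k → v k * a i * (v k)⁻¹ = (a i)⁻¹

/-- The data. -/
structure Axes (Y : Type u) [Group Y] extends Coord Y where
  /-- the normalizer -/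
  N_mem : ∀ x ∈ normalizer (J : Set Y), x ∈ J ∨ ∃ i, x * v i ∈ J
  /-- centralizers of axes -/
  cent_a : ∀ i, centralizer ({a i} : Set Y) ≤ normalizer (J : Set Y)
  /-- centralizers of elements with all coordinates non-zero -/
  cent_r : ∀ p : Fin 3 → ZMod 3, (∀ i, p i ≠ 0) → centralizer ({axEl a p} : Set Y) ≤ normalizer (J : Set Y)
  /-- the involutions are not conjugate -/
  non_conj : ∀ i k, i ≠ k → ∀ g : Y, g * v i * g⁻¹ ≠ v k

namespace Coord

variable {Y : Type u} [Group Y] (A : Coord Y)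

include A

/-- Coordinates. -/
abbrev el (p : Fin 3 → ZMod 3) : Y := axEl A.a p

theorem el_mem (p : Fin 3 → ZMod 3) : A.el p ∈ A.J :=
  mul_mem (mul_mem (pow_mem (A.a_J 0) _) (pow_mem (A.a_J 1) _)) (pow_mem (A.a_J 2) _)

theorem pow_val_add (i : Fin 3) (r s : ZMod 3) : A.a i ^ (r + s).val = A.a i ^ r.val * A.a i ^ s.val := by
  rw [← pow_add, ZMod.val_add, pow_eq_pow_mod (r.val + s.val) (A.J_exp _ (A.a_J i))]

theorem el_add (p q : Fin 3 → ZMod 3) : A.el (p + q) = A.el p * A.el q := by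
  have c : ∀ i k : Fin 3, ∀ m n : ℕ, Commute (A.a i ^ m) (A.a k ^ n) := fun i k m n =>
    (show Commute (A.a i) (A.a k) from A.J_comm _ (A.a_J i) _ (A.a_J k)).pow_pow m n
  simp only [el, axEl, Pi.add_apply, A.pow_val_add]
  rw [(c 0 1 _ _).mul_mul_mul_comm, ((c 0 2 _ _).mul_left (c 1 2 _ _)).mul_mul_mul_comm]

theorem el_zero : A.el 0 = 1 := by simp [el, axEl]

theorem el_conj (i : Fin 3) (p : Fin 3 → ZMod 3) : A.v i * A.el p * (A.v i)⁻¹ = A.el (flip3 i p) := by
  have key : ∀ k : Fin 3, ∀ r : ZMod 3,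
      A.v i * A.a k ^ r.val * (A.v i)⁻¹ = A.a k ^ (if k = i then r else -r).val := by
    intro k r
    rw [← conj_pow]
    split_ifs with h
    · rw [h, A.v_a, mul_inv_cancel_right]
    · rw [A.v_inv k i h]
      refine (eq_comm.1 ?_)
      rw [inv_pow, eq_inv_iff_mul_eq_one, ← A.pow_val_add, neg_add_cancel, ZMod.val_zero, pow_zero]
  show A.v i * (_ * _ * _) * (A.v i)⁻¹ = _
  simp only [el, axEl, flip3]
  rw [← key 0, ← key 1, ← key 2]
  group

theorem el_axis (i : Fin 3) (r : ZMod 3) : A.el (Pi.single i r) = A.a i ^ r.val := by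
  fin_cases i <;> simp [el, axEl]

theorem el_kernel {p : Fin 3 → ZMod 3} (h : A.el p = 1) : p = 0 := by
  funext i
  have h1 : A.el (p + flip3 i p) = 1 := by rw [A.el_add, ← A.el_conj, h]; group
  have e : p + flip3 i p = Pi.single i (p i + p i) := by
    funext k
    by_cases hk : k = i
    · subst hk; simp [flip3]
    · simp [flip3, hk]
  rw [e, A.el_axis] at h1
  show p i = 0
  by_contra hne
  have hr : ∀ r : ZMod 3, r ≠ 0 → (r + r).val = 1 ∨ (r + r).val = 2 := by decide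
  rcases hr _ hne with h2 | h2 <;> rw [h2] at h1
  · exact A.a_ne i (by simpa using h1)
  · have h3 := A.J_exp _ (A.a_J i)
    rw [pow_succ, h1, one_mul] at h3
    exact A.a_ne i h3

theorem el_inj {p q : Fin 3 → ZMod 3} (h : A.el p = A.el q) : p = q := by
  have h1 : A.el (p - q) * A.el q = 1 * A.el q := by rw [← A.el_add, sub_add_cancel, h, one_mul]
  exact sub_eq_zero.1 (A.el_kernel (mul_right_cancel h1))

theorem el_surj {x : Y} (hx : x ∈ A.J) : ∃ p, A.el p = x := by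
  haveI : Finite A.J := Nat.finite_of_card_ne_zero (by rw [A.J_card]; norm_num)
  have hf : Function.Bijective (fun p => (⟨A.el p, A.el_mem p⟩ : A.J)) := by
    rw [Nat.bijective_iff_injective_and_card]
    refine ⟨fun p q h => A.el_inj (congrArg Subtype.val h), ?_⟩
    rw [A.J_card, Nat.card_pi]
    simp
  obtain ⟨p, hp⟩ := hf.2 ⟨x, hx⟩
  exact ⟨p, congrArg Subtype.val hp⟩

theorem el_neg (p : Fin 3 → ZMod 3) : A.el (-p) = (A.el p)⁻¹ :=
  eq_inv_of_mul_eq_one_left (by rw [← A.el_add, neg_add_cancel, A.el_zero])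

theorem v_inv_eq (i : Fin 3) : (A.v i)⁻¹ = A.v i := inv_eq_of_mul_eq_one_right (A.v_sq i)

theorem v_not_J (m : Fin 3) : A.v m ∉ A.J := by
  intro h
  have h3 := A.J_exp _ h
  rw [pow_succ, pow_two, A.v_sq, one_mul] at h3
  have hm : m + 1 ≠ m := (by decide : ∀ k : Fin 3, k + 1 ≠ k) m
  have h2 := A.v_inv (m + 1) m hm
  rw [h3, one_mul, inv_one, mul_one] at h2
  have h4 := A.J_exp _ (A.a_J (m + 1))
  have h5 : A.a (m + 1) * A.a (m + 1) = 1 := by nth_rw 1 [h2]; exact inv_mul_cancel _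
  rw [pow_succ, pow_two, h5, one_mul] at h4
  exact A.a_ne _ h4

theorem v_mul_any (m n : Fin 3) : A.v m * A.v n = 1 ∨ ∃ k, A.v m * A.v n = A.v k := by
  rcases (by decide : ∀ i k : Fin 3, k = i ∨ k = i + 1 ∨ k = i + 2) m n with rfl | rfl | rfl
  · exact Or.inl (A.v_sq _)
  · exact Or.inr ⟨_, A.v_mul m⟩
  · refine Or.inr ⟨m + 1, ?_⟩
    have h := A.v_mul (m + 2)
    rw [show m + 2 + 1 = m by rw [add_assoc]; exact add_zero m,
      show m + 2 + 2 = m + 1 by rw [add_assoc]; rfl] at h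
    have h' := congrArg (·⁻¹) h
    simpa [mul_inv_rev, A.v_inv_eq] using h'

/-- The four-group. -/
def four : Subgroup Y where
  carrier := {x | x = 1 ∨ ∃ m, x = A.v m}
  one_mem' := Or.inl rfl
  mul_mem' := by
    rintro _ _ (rfl | ⟨m, rfl⟩) (rfl | ⟨n, rfl⟩)
    · exact Or.inl (one_mul 1)
    · exact Or.inr ⟨n, one_mul _⟩
    · exact Or.inr ⟨m, mul_one _⟩
    · rcases A.v_mul_any m n with h | ⟨k, h⟩
      · exact Or.inl h
      · exact Or.inr ⟨k, h⟩
  inv_mem' := by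
    rintro _ (rfl | ⟨m, rfl⟩)
    · exact Or.inl inv_one
    · exact Or.inr ⟨m, A.v_inv_eq m⟩

end Coord

namespace Axes

variable {Y : Type u} [Group Y] (A : Axes Y)

include A

theorem three_mem_J {x : Y} (hx : x ∈ normalizer (A.J : Set Y)) {k : ℕ} (h : x ^ 3 ^ k = 1) : x ∈ A.J := by
  rcases A.N_mem x hx with hJ | ⟨i, hi⟩
  · exact hJ
  obtain ⟨m, hm⟩ : Odd (3 ^ k) := Odd.pow (by decide)
  have h2 : x * x ∈ A.J := by
    have e : x * x = x * A.v i * (A.v i * (x * A.v i) * (A.v i)⁻¹) := by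
      calc x * x = x * (A.v i * A.v i) * x * (A.v i * (A.v i)⁻¹) := by rw [A.v_sq]; group
        _ = _ := by group
    rw [e]
    exact mul_mem hi ((Subgroup.mem_normalizer_iff.1 (A.v_N i) _).1 hi)
  rw [hm, pow_succ, pow_mul, pow_two] at h
  rw [eq_inv_of_mul_eq_one_right h]
  exact inv_mem (pow_mem h2 m)

theorem J_sylow [Finite Y] {P : Subgroup Y} (hP : IsPGroup 3 P) (hJ : A.J ≤ P) : P = A.J := by
  haveI : Fact (Nat.Prime 3) := ⟨Nat.prime_three⟩
  by_contra hne
  obtain ⟨x, hx, hxJ, hxn⟩ := CfsgLib.McLThree.p_group_grows hP hJ (Ne.symm hne)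
  obtain ⟨k, hk⟩ := hP ⟨x, hx⟩
  exact hxJ (A.three_mem_J hxn (congrArg Subtype.val hk))

theorem cent_J_N {x : Y} (hx : x ∈ normalizer (A.J : Set Y)) (hc : ∀ j ∈ A.J, x * j = j * x) : x ∈ A.J := by
  rcases A.N_mem x hx with hJ | ⟨i, hi⟩
  · exact hJ
  exfalso
  have hk : i + 1 ≠ i := (by decide : ∀ k : Fin 3, k + 1 ≠ k) i
  have h1 : A.v i * A.a (i + 1) = A.a (i + 1) * A.v i := by
    have e : A.v i = x⁻¹ * (x * A.v i) := by group
    rw [e]
    exact ((show Commute x (A.a (i + 1)) from hc _ (A.a_J _)).inv_left.mul_left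
      (show Commute (x * A.v i) (A.a (i + 1)) from A.J_comm _ hi _ (A.a_J _))).eq
  have h2 := A.v_inv (i + 1) i hk
  rw [h1, mul_inv_cancel_right] at h2
  have h3 := A.J_exp _ (A.a_J (i + 1))
  have h4 : A.a (i + 1) * A.a (i + 1) = 1 := by nth_rw 1 [h2]; exact inv_mul_cancel _
  rw [pow_succ, pow_two, h4, one_mul] at h3
  exact A.a_ne _ h3

/-- A subgroup of order prime to three normalised by `J` meets the good centralizers trivially. -/
theorem signal_cent [Finite Y] {M : Subgroup Y} (h3 : ¬ 3 ∣ Nat.card M) (hn : A.J ≤ normalizer (M : Set Y)) {m : Y}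
    (hm : m ∈ M) (hN : m ∈ normalizer (A.J : Set Y)) : m = 1 := by
  have hdisj : ∀ w ∈ M, w ∈ A.J → w = 1 := by
    intro w hw hwJ
    by_contra hne
    refine h3 ?_
    rw [← orderOf_eq_prime (p := 3) (A.J_exp _ hwJ) hne]
    exact Subgroup.orderOf_dvd_natCard M hw
  refine hdisj m hm (A.cent_J_N hN fun j hj => mul_inv_eq_iff_eq_mul.1 (mul_inv_eq_one.1 (hdisj _ ?_ ?_)))
  · rw [show m * j * m⁻¹ * j⁻¹ = m * (j * m⁻¹ * j⁻¹) by group]
    exact mul_mem hm ((Subgroup.mem_normalizer_iff.1 (hn hj) _).1 (inv_mem hm))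
  · exact mul_mem ((Subgroup.mem_normalizer_iff.1 hN _).1 hj) (inv_mem hj)

end Axes

end CfsgLib.McLThree.Weak
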