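import Cfsg.Agent.Lib.McLThree.Weak.AxesBasic
import Mathlib.GroupTheory.Transfer

/-!
All centralizers of non-trivial elements of `J` lie in its normalizer.
-/

set_option autoImplicit false

namespace CfsgLib.McLThree.Weak

open Subgroup

universe u

theorem zmod_pick : ∀ x p : ZMod 3, x ≠ 0 → p ≠ 0 → ∃ n : ZMod 3, n ≠ 0 ∧ x + n * p ≠ 0 := by decide

theorem zmod_neg_self : ∀ s : ZMod 3, s = -s → s = 0 := by decide

theorem zmod_sq_val : ∀ s : ZMod 3, s ≠ 0 → s.val * s.val % 3 = 1 := by decide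

theorem fin_three_cover : ∀ i k : Fin 3, k = i ∨ k = i + 1 ∨ k = i + 2 := by decide

theorem fin_three_ne : ∀ i : Fin 3, i + 1 ≠ i ∧ i + 2 ≠ i ∧ i + 1 ≠ i + 2 := by decide

theorem burnside_split {Y : Type u} [Group Y] [Finite Y] (C J : Subgroup Y) (hJC : J ≤ C) (hJp : IsPGroup 3 J)
    (hmax : ∀ Q : Subgroup Y, Q ≤ C → IsPGroup 3 Q → J ≤ Q → Q = J)
    (hNC : ∀ x ∈ C, x ∈ normalizer (J : Set Y) → ∀ w ∈ J, x * w = w * x) :
    ∃ M ≤ C, ¬ 3 ∣ Nat.card M ∧ C ≤ normalizer (M : Set Y) ∧ ∀ x ∈ C, ∃ m ∈ M, ∃ w ∈ J, m * w = x := by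
  haveI : Fact (Nat.Prime 3) := ⟨Nat.prime_three⟩
  have hp : IsPGroup 3 (J.subgroupOf C) :=
    hJp.of_injective (subgroupOfEquivOfLe hJC).toMonoidHom (MulEquiv.injective _)
  obtain ⟨P, hPJ⟩ : ∃ P : Sylow 3 C, (P : Subgroup C) = J.subgroupOf C := by
    refine ⟨⟨J.subgroupOf C, hp, fun {Q} hQ hle => le_antisymm (fun x hx => ?_) hle⟩, rfl⟩
    have e := hmax (Q.map C.subtype) (map_subtype_le Q) (hQ.map _) (fun z hz => ⟨⟨z, hJC hz⟩, hle hz, rfl⟩)
    exact e.le ⟨x, hx, rfl⟩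
  have hP : normalizer ((P : Subgroup C) : Set C) ≤ centralizer ((P : Subgroup C) : Set C) := by
    rw [hPJ]
    intro x hx
    have hN : (x : Y) ∈ normalizer (J : Set Y) := norm_of_conj_le fun w hw =>
      (Subgroup.mem_normalizer_iff.1 hx ⟨w, hJC hw⟩).1 hw
    exact mem_centralizer_iff.2 fun w hw => Subtype.ext (hNC x x.2 hN _ hw).symm
  have hc := MonoidHom.ker_transferSylow_isComplement' P hP
  have hK3 := MonoidHom.not_dvd_card_ker_transferSylow P hP
  obtain ⟨K, hKn, hK3', hKc⟩ : ∃ K : Subgroup C, K.Normal ∧ ¬ 3 ∣ Nat.card K ∧ IsComplement' K (P : Subgroup C) :=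
    ⟨_, inferInstance, hK3, hc⟩
  refine ⟨K.map C.subtype, map_subtype_le K, by rwa [card_map_of_injective Subtype.val_injective],
    fun x hx => norm_of_conj_le ?_, fun x hx => ?_⟩
  · rintro _ ⟨w, hw, rfl⟩
    exact ⟨⟨x, hx⟩ * w * ⟨x, hx⟩⁻¹, hKn.conj_mem w hw _, rfl⟩
  obtain ⟨⟨k, w⟩, e, -⟩ := (Subgroup.isComplement'_def.1 hKc).existsUnique (⟨x, hx⟩ : C)
  exact ⟨_, ⟨k, k.2, rfl⟩, _, hPJ.le w.2, congrArg Subtype.val e⟩

namespace Axes

variable {Y : Type u} [Group Y] (A : Axes Y)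

include A

theorem centralizer_pow_axis (i : Fin 3) {r : ZMod 3} (hr : r ≠ 0) :
    centralizer ({A.a i ^ r.val} : Set Y) ≤ normalizer (A.J : Set Y) := by
  intro x hx
  refine A.cent_a i (mem_centralizer_singleton_iff.2 ?_)
  have h : Commute x ((A.a i ^ r.val) ^ r.val) :=
    (show Commute x (A.a i ^ r.val) from mem_centralizer_singleton_iff.1 hx).pow_right _
  have hr2 : r.val * r.val % 3 = 1 := zmod_sq_val r hr
  rw [← pow_mul, pow_eq_pow_mod _ (A.J_exp _ (A.a_J i)), hr2, pow_one] at h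
  exact h.eq

theorem el_two_axes (i : Fin 3) {p : Fin 3 → ZMod 3} (h1 : p (i + 1) = 0) (h2 : p (i + 2) = 0) :
    A.el p = A.a i ^ (p i).val := by
  rw [← A.el_axis]
  congr 1
  funext k
  rcases fin_three_cover i k with e | e | e <;> subst e
  · simp
  · rw [Pi.single_eq_of_ne (fin_three_ne i).1, h1]
  · rw [Pi.single_eq_of_ne (fin_three_ne i).2.1, h2]

theorem cent_ext_mem {p : Fin 3 → ZMod 3} {i : Fin 3} (h1 : p (i + 1) ≠ 0) (h2 : p (i + 2) ≠ 0) {x : Y}
    (hx : x * A.el p = A.el p * x) (hN : x ∈ normalizer (A.J : Set Y)) : x ∈ A.J := by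
  rcases A.N_mem x hN with hJ | ⟨m, hm⟩
  · exact hJ
  exfalso
  have e : A.v m = x⁻¹ * (x * A.v m) := by group
  have hc : Commute (A.v m) (A.el p) := by
    rw [e]
    exact (show Commute x (A.el p) from hx).inv_left.mul_left (A.J_comm _ hm _ (A.el_mem p))
  have h := A.el_conj m p
  rw [hc.eq, mul_inv_cancel_right] at h
  have hf := A.el_inj h
  have key : ∀ k, k ≠ m → p k = 0 := fun k hk => by
    have h' := congrFun hf k
    simp only [flip3, if_neg hk] at h'
    exact zmod_neg_self _ h'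
  by_cases hmi : i + 1 = m
  · exact h2 (key _ (hmi ▸ (fin_three_ne i).2.2.symm))
  · exact h1 (key _ hmi)

/-- The plane with last coordinate zero. -/
def plane (i : Fin 3) : Subgroup Y where
  carrier := {x | ∃ q : Fin 3 → ZMod 3, q (i + 2) = 0 ∧ A.el q = x}
  one_mem' := ⟨0, rfl, A.el_zero⟩
  mul_mem' := by
    rintro _ _ ⟨q, hq, rfl⟩ ⟨q', hq', rfl⟩
    exact ⟨q + q', by simp [hq, hq'], A.el_add q q'⟩
  inv_mem' := by
    rintro _ ⟨q, hq, rfl⟩
    exact ⟨-q, by simp [hq], A.el_neg q⟩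

theorem plane_le (i : Fin 3) : A.plane i ≤ A.J := by
  rintro _ ⟨q, -, rfl⟩
  exact A.el_mem q

theorem plane_not_cyclic [Finite Y] (i : Fin 3) : ¬ IsCyclic (A.plane i) := fun h => by
  obtain ⟨d, hd⟩ := IsCyclic.exists_generator (α := A.plane i)
  have h1' : orderOf d ∣ 3 := orderOf_dvd_of_pow_eq_one (Subtype.ext (A.J_exp _ (A.plane_le i d.2)))
  rw [orderOf_eq_card_of_forall_mem_zpowers hd] at h1'
  let g : ZMod 3 × ZMod 3 → A.plane i := fun r => ⟨A.el (Pi.single i r.1 + Pi.single (i + 1) r.2),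
    Pi.single i r.1 + Pi.single (i + 1) r.2, by
      rw [Pi.add_apply, Pi.single_eq_of_ne (fin_three_ne i).2.1, Pi.single_eq_of_ne (fin_three_ne i).2.2.symm,
        add_zero], rfl⟩
  have hg : Function.Injective g := fun r s e => by
    have e' := A.el_inj (congrArg Subtype.val e)
    refine Prod.ext ?_ ?_
    · simpa [Pi.single_eq_of_ne (fin_three_ne i).1.symm] using congrFun e' i
    · simpa [Pi.single_eq_of_ne (fin_three_ne i).1] using congrFun e' (i + 1)
  have h9 := Nat.card_le_card_of_injective g hg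
  rw [Nat.card_prod, Nat.card_zmod] at h9
  have := Nat.le_of_dvd (by norm_num) h1'
  omega

theorem plane_cent {p : Fin 3 → ZMod 3} {i : Fin 3} (h0 : p i = 0) (h1 : p (i + 1) ≠ 0) (h2 : p (i + 2) ≠ 0)
    {b m : Y} (hb : b ∈ A.plane i) (hb1 : b ≠ 1) (hmb : Commute m b) (hmp : Commute m (A.el p)) :
    m ∈ normalizer (A.J : Set Y) := by
  obtain ⟨q, hq2, rfl⟩ := hb
  by_cases hqk : q (i + 1) = 0
  · rw [A.el_two_axes i hqk hq2] at hmb
    refine A.centralizer_pow_axis i (r := q i) (fun e => hb1 ?_) (mem_centralizer_singleton_iff.2 hmb.eq)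
    rw [A.el_two_axes i hqk hq2, e, ZMod.val_zero, pow_zero]
  by_cases hqi : q i = 0
  · have e : A.el q = A.a (i + 1) ^ (q (i + 1)).val := A.el_two_axes (i + 1)
      (by rw [show i + 1 + 1 = i + 2 by rw [add_assoc]; rfl]; exact hq2)
      (by rw [show i + 1 + 2 = i by rw [add_assoc]; exact add_zero i]; exact hqi)
    rw [e] at hmb
    exact A.centralizer_pow_axis (i + 1) hqk (mem_centralizer_singleton_iff.2 hmb.eq)
  obtain ⟨n, hn, hn'⟩ := zmod_pick _ _ hqk h1
  refine A.cent_r (q + n • p) (fun k => ?_) (mem_centralizer_singleton_iff.2 ?_)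
  · rcases fin_three_cover i k with e | e | e <;> subst e
    · rw [Pi.add_apply, Pi.smul_apply, smul_eq_mul, h0, mul_zero, add_zero]; exact hqi
    · rw [Pi.add_apply, Pi.smul_apply, smul_eq_mul]; exact hn'
    · rw [Pi.add_apply, Pi.smul_apply, smul_eq_mul, hq2, zero_add]; exact mul_ne_zero hn h2
  · have hpow : ∀ k : ℕ, A.el ((k : ZMod 3) • p) = A.el p ^ k := by
      intro k
      induction k with
      | zero => simp [A.el_zero]
      | succ k ih => rw [pow_succ, ← ih, ← A.el_add]; push_cast; rw [add_smul, one_smul]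
    show m * A.el (q + n • p) = A.el (q + n • p) * m
    rw [A.el_add, ← ZMod.natCast_rightInverse n, hpow]
    exact (hmb.mul_right (hmp.pow_right _)).eq

theorem plane_signal [Finite Y] {p : Fin 3 → ZMod 3} {i : Fin 3} (h0 : p i = 0) (h1 : p (i + 1) ≠ 0)
    (h2 : p (i + 2) ≠ 0) {M : Subgroup Y} (h3 : ¬ 3 ∣ Nat.card M) (hn : A.J ≤ normalizer (M : Set Y))
    (hMC : M ≤ centralizer ({A.el p} : Set Y)) : M = ⊥ := by
  haveI : IsMulCommutative (A.plane i) := ⟨⟨fun x y => Subtype.ext (A.J_comm _ (A.plane_le i x.2) _ (A.plane_le i y.2))⟩⟩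
  have hcop : (Nat.card (A.plane i)).Coprime (Nat.card M) := by
    have hd : Nat.card (A.plane i) ∣ 3 ^ 3 := by
      have := card_dvd_of_le (A.plane_le i)
      rwa [A.J_card] at this
    exact Nat.Coprime.coprime_dvd_left hd (Nat.Coprime.pow_left 3 ((Nat.Prime.coprime_iff_not_dvd Nat.prime_three).2 h3))
  rw [← le_bot_iff, ← CfsgLib.coprime_generated_by_centralizers (A.plane_not_cyclic i) ((A.plane_le i).trans hn) hcop]
  refine iSup₂_le fun b hb => ?_
  intro m hm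
  rw [Subgroup.mem_bot]
  exact A.signal_cent h3 hn hm.1 (A.plane_cent h0 h1 h2 hb.1 hb.2 (mem_centralizer_singleton_iff.1 hm.2)
    (mem_centralizer_singleton_iff.1 (hMC hm.1)))

theorem cent_ext [Finite Y] {p : Fin 3 → ZMod 3} {i : Fin 3} (h0 : p i = 0) (h1 : p (i + 1) ≠ 0)
    (h2 : p (i + 2) ≠ 0) : centralizer ({A.el p} : Set Y) ≤ normalizer (A.J : Set Y) := by
  have hJC : A.J ≤ centralizer ({A.el p} : Set Y) := fun x hx =>
    mem_centralizer_singleton_iff.2 (A.J_comm x hx _ (A.el_mem p))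
  obtain ⟨M, hMC, hM3, hMn, hsplit⟩ := burnside_split (centralizer ({A.el p} : Set Y)) A.J hJC
    (IsPGroup.of_card (p := 3) (n := 3) (by rw [A.J_card]; norm_num)) (fun Q _ hQ hle => A.J_sylow hQ hle)
    (fun x hx hN w hw => A.J_comm _ (A.cent_ext_mem h1 h2 (mem_centralizer_singleton_iff.1 hx) hN) _ hw)
  have hMbot := A.plane_signal h0 h1 h2 hM3 (hJC.trans hMn) hMC
  intro x hx
  obtain ⟨m, hm, w, hw, rfl⟩ := hsplit x hx
  rw [hMbot, Subgroup.mem_bot] at hm
  rw [hm, one_mul]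
  exact le_normalizer hw

/-- All centralizers. -/
theorem cent_all [Finite Y] {x : Y} (hx : x ∈ A.J) (h1 : x ≠ 1) :
    centralizer ({x} : Set Y) ≤ normalizer (A.J : Set Y) := by
  obtain ⟨p, rfl⟩ := A.el_surj hx
  by_cases hall : ∀ i, p i ≠ 0
  · exact A.cent_r p hall
  push Not at hall
  obtain ⟨i, hi⟩ := hall
  have e12 : i + 1 + 1 = i + 2 := by rw [add_assoc]; rfl
  have e21 : i + 2 + 1 = i := by rw [add_assoc]; exact add_zero i
  have e3 : i + 1 + 2 = i := by rw [add_assoc]; exact add_zero i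
  have e4 : i + 2 + 2 = i + 1 := by rw [add_assoc]; rfl
  by_cases h2 : p (i + 1) = 0
  · rw [A.el_two_axes (i + 2) (by rw [e21]; exact hi) (by rw [e4]; exact h2)] at h1 ⊢
    exact A.centralizer_pow_axis _ fun e => h1 (by rw [e, ZMod.val_zero, pow_zero])
  by_cases h3 : p (i + 2) = 0
  · rw [A.el_two_axes (i + 1) (by rw [e12]; exact h3) (by rw [e3]; exact hi)] at h1 ⊢
    exact A.centralizer_pow_axis _ fun e => h1 (by rw [e, ZMod.val_zero, pow_zero])
  exact A.cent_ext hi h2 h3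

/-- Trivial intersection. -/
theorem ti [Finite Y] {x g : Y} (hx : x ∈ A.J) (h1 : x ≠ 1) (hg : g * x * g⁻¹ ∈ normalizer (A.J : Set Y)) :
    g ∈ normalizer (A.J : Set Y) := by
  have h3 : ∀ w ∈ A.J, (g * w * g⁻¹) ^ 3 ^ 1 = 1 := fun w hw => by
    rw [pow_one, conj_pow, A.J_exp w hw, mul_one, mul_inv_cancel]
  have hx' : g * x * g⁻¹ ∈ A.J := A.three_mem_J hg (h3 x hx)
  refine norm_of_conj_le fun w hw => A.three_mem_J ?_ (h3 w hw)
  refine A.cent_all hx' (fun e => h1 (conj_eq_one_iff.1 e)) (mem_centralizer_singleton_iff.2 ?_)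
  rw [conj_mul, conj_mul, A.J_comm w hw x hx]

/-- No non-trivial signalizer. -/
theorem signal [Finite Y] {M : Subgroup Y} (h3 : ¬ 3 ∣ Nat.card M) (hn : A.J ≤ normalizer (M : Set Y)) : M = ⊥ := by
  haveI : IsMulCommutative A.J := ⟨⟨fun x y => Subtype.ext (A.J_comm _ x.2 _ y.2)⟩⟩
  have hcyc : ¬ IsCyclic A.J := fun h => by
    obtain ⟨d, hd⟩ := IsCyclic.exists_generator (α := A.J)
    have h1' : orderOf d ∣ 3 := orderOf_dvd_of_pow_eq_one (Subtype.ext (A.J_exp _ d.2))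
    rw [orderOf_eq_card_of_forall_mem_zpowers hd, A.J_card] at h1'
    norm_num at h1'
  have hcop : (Nat.card A.J).Coprime (Nat.card M) := by
    rw [A.J_card, show 27 = 3 ^ 3 from rfl]
    exact Nat.Coprime.pow_left 3 ((Nat.Prime.coprime_iff_not_dvd Nat.prime_three).2 h3)
  rw [← le_bot_iff, ← CfsgLib.coprime_generated_by_centralizers hcyc hn hcop]
  refine iSup₂_le fun b hb => ?_
  intro m hm
  rw [Subgroup.mem_bot]
  exact A.signal_cent h3 hn hm.1 (A.cent_all hb.1 hb.2 hm.2)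

end Axes

end CfsgLib.McLThree.Weak
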