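import Cfsg.Agent.Lib.ThreeCC.Chars
import Cfsg.Agent.Lib.ThreeTrans.M22.ThirteenChar
import Cfsg.Agent.Lib.CharTheory.Schur

/-!
A class function of norm three vanishing at an involution and on all products of two of its conjugates puts the
involution in the kernels of two irreducible characters.
-/

set_option autoImplicit false

namespace CfsgLib.McLThree.Weak

open Cfsg CfsgLib.CharTheory
open scoped ComplexConjugate

universe u

variable {G : Type u} [Group G] [Fintype G]

/-- The kernel lemma. -/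
theorem two_kernels {F : G → ℂ} (hF : IsClassFunction G F)
    (hint : ∀ χ : IrrCharacter G, ∃ n : ℤ, classInner F (χ : G → ℂ) = n)
    (hnorm : classInner F F = 3) (hone : classInner F (fun _ => 1) = 1) (h1 : F 1 = 0) {b : G} (hb : F b = 0)
    (hpair : ∀ g : G, F (g * b * g⁻¹ * b) = 0) :
    ∃ K L : Subgroup G, K.Normal ∧ L.Normal ∧ b ∈ K ∧ b ∈ L ∧ ∀ g, g ∈ K → g ∈ L → F g = 0 := by
  classical
  choose c hc using hint
  let triv : IrrCharacter G := ⟨fun _ => 1, isIrrCharacter_one⟩
  have h1t : c triv = 1 := by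
    have h := hc triv
    rw [show classInner F (triv : G → ℂ) = 1 from hone] at h
    exact_mod_cast h.symm
  have h3 : ∑ χ, c χ ^ 2 = 3 := by
    have h := classInner_eq_sum_irr (b := F) hF
    rw [hnorm] at h
    have e : ∀ χ : IrrCharacter G, classInner F (χ : G → ℂ) * classInner (χ : G → ℂ) F = ((c χ ^ 2 : ℤ) : ℂ) :=
      fun χ => by
        rw [← classInner_comm F (χ : G → ℂ), hc χ, map_intCast]
        push_cast; ring
    rw [Finset.sum_congr rfl fun χ _ => e χ] at h
    exact_mod_cast h.symm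
  obtain ⟨hle, p, q, hp, hq, hpq, hsupp⟩ := CfsgThreeTrans.M22.ThirteenChar.support_three c triv h3 h1t
  have hsum : ∀ Φ : IrrCharacter G → ℂ,
      ∑ χ, (c χ : ℂ) * Φ χ = Φ triv + (c p : ℂ) * Φ p + (c q : ℂ) * Φ q := fun Φ => by
    rw [← Finset.sum_subset (Finset.subset_univ ({triv, p, q} : Finset (IrrCharacter G))) (fun χ _ hχ => by
      have h0 : c χ = 0 := by
        by_contra h
        exact hχ (by simpa using (hsupp χ).1 h)
      rw [h0]; simp)]
    rw [Finset.sum_insert (by simp [hp.symm, hq.symm]), Finset.sum_pair hpq, h1t]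
    push_cast; ring
  have hval : ∀ g, F g = 1 + (c p : ℂ) * (p : G → ℂ) g + (c q : ℂ) * (q : G → ℂ) g := fun g => by
    have h := congrFun (eq_sum_irr hF) g
    rw [Finset.sum_apply] at h
    simp only [Pi.smul_apply, smul_eq_mul, hc] at h
    rw [h, hsum fun χ => (χ : G → ℂ) g]
  have hd : ∀ χ : IrrCharacter G, c χ ≠ 0 → (c χ : ℂ) * (c χ : ℂ) = 1 := fun χ hχ => by
    rcases hle χ with e | e | e
    · exact absurd e hχ
    all_goals rw [e]; norm_num
  have hp2 := hd p ((hsupp p).2 (Or.inr (Or.inl rfl)))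
  have hq2 := hd q ((hsupp q).2 (Or.inr (Or.inr rfl)))
  have hpd := irr_ne_zero p.2
  have hqd := irr_ne_zero q.2
  have e0 : (1 : ℂ) + (c p : ℂ) * ((p : G → ℂ) b * (p : G → ℂ) b) / (p : G → ℂ) 1 +
      (c q : ℂ) * ((q : G → ℂ) b * (q : G → ℂ) b) / (q : G → ℂ) 1 = 0 := by
    have h : ∑ g : G, F (g * b * g⁻¹ * b) = 0 := Finset.sum_eq_zero fun g _ => hpair g
    simp only [hval, Finset.sum_add_distrib, ← Finset.mul_sum, sum_conj_mul_char p.2, sum_conj_mul_char q.2,
      Finset.sum_const, Finset.card_univ, nsmul_eq_mul, mul_one, ← Nat.card_eq_fintype_card] at h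
    apply mul_left_cancel₀ (show (Nat.card G : ℂ) ≠ 0 from Nat.cast_ne_zero.mpr Nat.card_pos.ne')
    rw [mul_zero]
    linear_combination h
  have v1 := hval 1
  have v2 := hval b
  rw [h1] at v1
  rw [hb] at v2
  set P1 := (p : G → ℂ) 1
  set P2 := (p : G → ℂ) b
  set Q1 := (q : G → ℂ) 1
  set Q2 := (q : G → ℂ) b
  set ep := (c p : ℂ)
  set eq' := (c q : ℂ)
  have e1 : P1 * Q1 + ep * (P2 * P2) * Q1 + eq' * (Q2 * Q2) * P1 = 0 := by
    field_simp at e0
    linear_combination e0
  have e2 : (ep * P2 - ep * P1) ^ 2 = 0 := by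
    linear_combination -(ep * eq') * e1 - (ep * P1 + (ep * P2) ^ 2) * v1 -
      ep * P1 * (eq' * Q2 - 1 - ep * P2) * v2 + ep ^ 2 * P1 * Q2 ^ 2 * 0
  have hep : ep ≠ 0 := fun e => by rw [e, mul_zero] at hp2; exact zero_ne_one hp2
  have heq : eq' ≠ 0 := fun e => by rw [e, mul_zero] at hq2; exact zero_ne_one hq2
  have hP : P2 = P1 := mul_left_cancel₀ hep (sub_eq_zero.mp (sq_eq_zero_iff.mp e2))
  have hQ : Q2 = Q1 := mul_left_cancel₀ heq (by linear_combination -v2 + v1 - ep * hP)
  refine ⟨charKernel _ (isCharacter_of_irr p.2), charKernel _ (isCharacter_of_irr q.2), inferInstance, inferInstance,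
    (mem_charKernel _ b).2 hP, (mem_charKernel _ b).2 hQ, fun g hgp hgq => ?_⟩
  rw [hval g, (mem_charKernel _ g).1 hgp, (mem_charKernel _ g).1 hgq]
  exact v1.symm

/-- Products of two conjugates of an involution invert themselves. -/
theorem pair_inverts {H : Type*} [Group H] {b : H} (hb : b * b = 1) (g : H) :
    b * (g * b * g⁻¹ * b) * b⁻¹ = (g * b * g⁻¹ * b)⁻¹ := by
  rw [mul_inv_rev, mul_inv_rev, mul_inv_rev, inv_inv, inv_eq_of_mul_eq_one_right hb]
  calc b * (g * b * g⁻¹ * b) * b = b * (g * b * g⁻¹) * (b * b) := by group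
    _ = b * (g * (b * g⁻¹)) := by rw [hb]; group

end CfsgLib.McLThree.Weak
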