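import Cfsg.Agent.Lib.McLThree.Weak.AxesCent
import Cfsg.Agent.Lib.McLThree.Weak.Kernels
import Cfsg.Agent.Lib.CharTheory.TI
import Mathlib.GroupTheory.GroupAction.Quotient

/-!
The normalizer of `J` maps onto the symmetric group on three points; each involution lies in a proper normal
subgroup avoiding its axis.
-/

set_option autoImplicit false

namespace CfsgLib.McLThree.Weak

open Subgroup Cfsg CfsgLib.CharTheory
open scoped ComplexConjugate

universe u

theorem zmod_val_one_or_two : ∀ r : ZMod 3, r ≠ 0 → r.val = 1 ∨ r.val = 2 := by decide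

theorem perm_three_swap : ∀ σ : Equiv.Perm (Fin 3), σ 0 = 0 → σ 1 = 2 → Equiv.Perm.sign σ = -1 := by
  decide +kernel

theorem perm_three_even : ∀ σ : Equiv.Perm (Fin 3), σ ^ 3 = 1 → Equiv.Perm.sign σ = 1 := by
  decide +kernel

namespace Axes

variable {Y : Type u} [Group Y] [Finite Y] (A : Axes Y)

include A

/-- Elements of `J` with vanishing coordinate. -/
def face (i : Fin 3) : Subgroup Y where
  carrier := {x | ∃ q : Fin 3 → ZMod 3, q i = 0 ∧ A.el q = x}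
  one_mem' := ⟨0, rfl, A.el_zero⟩
  mul_mem' := by
    rintro _ _ ⟨q, hq, rfl⟩ ⟨q', hq', rfl⟩
    exact ⟨q + q', by simp [hq, hq'], A.el_add q q'⟩
  inv_mem' := by
    rintro _ ⟨q, hq, rfl⟩
    exact ⟨-q, by simp [hq], A.el_neg q⟩

theorem face_le (i : Fin 3) : A.face i ≤ A.J := by
  rintro _ ⟨q, -, rfl⟩
  exact A.el_mem q

theorem four_norm_face (i : Fin 3) : A.four ≤ normalizer (A.face i : Set Y) := by
  rintro x (rfl | ⟨m, rfl⟩)
  · exact one_mem _
  refine norm_of_conj_le ?_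
  rintro _ ⟨q, hq, rfl⟩
  exact ⟨flip3 m q, by simp [flip3, hq], (A.el_conj m q).symm⟩

theorem pow_mem_face_four {i : Fin 3} {r : ZMod 3} (h : A.a i ^ r.val ∈ A.four ⊔ A.face i) : r = 0 := by
  rw [← SetLike.mem_coe, Subgroup.coe_mul_of_left_le_normalizer_right _ _ (A.four_norm_face i), Set.mem_mul] at h
  obtain ⟨w, hw, e, he, hwe⟩ := h
  have hwJ : w ∈ A.J := by
    rw [eq_mul_inv_of_mul_eq hwe]
    exact mul_mem (pow_mem (A.a_J i) _) (inv_mem (A.face_le i he))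
  obtain ⟨q, hq, rfl⟩ := he
  rcases hw with rfl | ⟨m, rfl⟩
  · rw [one_mul, ← A.el_axis] at hwe
    have h1 := congrFun (A.el_inj hwe) i
    rwa [hq, Pi.single_eq_same, eq_comm] at h1
  · exact absurd hwJ (A.v_not_J m)

/-- The subgroup of index three in the normalizer. -/
abbrev faceFour (i : Fin 3) : Subgroup (normalizer (A.J : Set Y)) :=
  (A.four ⊔ A.face i).subgroupOf (normalizer (A.J : Set Y))

/-- The coset of a power of the axis. -/
def pt (i : Fin 3) (r : ZMod 3) : (normalizer (A.J : Set Y)) ⧸ A.faceFour i :=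
  QuotientGroup.mk ⟨A.a i ^ r.val, le_normalizer (pow_mem (A.a_J i) _)⟩

theorem mk_eq_pt (i : Fin 3) {x : normalizer (A.J : Set Y)} {r : ZMod 3}
    (h : (A.a i ^ r.val)⁻¹ * (x : Y) ∈ A.four ⊔ A.face i) :
    (QuotientGroup.mk x : _ ⧸ A.faceFour i) = A.pt i r := by
  refine (QuotientGroup.eq.2 ?_).symm
  exact h

theorem pt_bij (i : Fin 3) : Function.Bijective (A.pt i) := by
  constructor
  · intro r s h
    have h' := QuotientGroup.eq.1 h
    have h'' : (A.a i ^ r.val)⁻¹ * A.a i ^ s.val ∈ A.four ⊔ A.face i := h'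
    have e : (A.a i ^ r.val)⁻¹ * A.a i ^ s.val = A.a i ^ (s - r).val := by
      rw [inv_mul_eq_iff_eq_mul, ← A.pow_val_add, add_sub_cancel]
    rw [e] at h''
    exact (sub_eq_zero.1 (A.pow_mem_face_four h'')).symm
  · intro c
    induction c using QuotientGroup.induction_on with
    | _ x =>
      obtain ⟨j, hj, w, hw, e⟩ : ∃ j ∈ A.J, ∃ w ∈ A.four, (x : Y) = j * w := by
        rcases A.N_mem x x.2 with h | ⟨m, hm⟩
        · exact ⟨x, h, 1, Or.inl rfl, (mul_one _).symm⟩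
        · exact ⟨_, hm, A.v m, Or.inr ⟨m, rfl⟩, by rw [mul_assoc, A.v_sq, mul_one]⟩
      obtain ⟨p, hp⟩ : ∃ p, A.el p = j := A.el_surj hj
      refine ⟨p i, (A.mk_eq_pt i ?_).symm⟩
      rw [e, ← mul_assoc, ← hp, ← A.el_axis, ← A.el_neg, ← A.el_add]
      exact mul_mem (mem_sup_right ⟨_, by simp, rfl⟩) (mem_sup_left hw)

/-- The points. -/
noncomputable def pts (i : Fin 3) : Fin 3 ≃ (normalizer (A.J : Set Y)) ⧸ A.faceFour i :=
  Equiv.ofBijective (A.pt i) (A.pt_bij i)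

/-- The action on three points. -/
noncomputable def hom3 (i : Fin 3) : normalizer (A.J : Set Y) →* Equiv.Perm (Fin 3) :=
  ((A.pts i).symm.permCongrHom).toMonoidHom.comp (MulAction.toPermHom _ _)

theorem hom3_apply (i : Fin 3) (x : normalizer (A.J : Set Y)) {r s : ZMod 3}
    (h : (A.a i ^ s.val)⁻¹ * ((x : Y) * A.a i ^ r.val) ∈ A.four ⊔ A.face i) :
    A.hom3 i x r = s := by
  show (A.pts i).symm (x • A.pt i r) = (s : Fin 3)
  refine (Equiv.symm_apply_eq (A.pts i)).2 ?_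
  exact A.mk_eq_pt i (x := x * _) h

theorem hom3_v_self (i : Fin 3) : A.hom3 i ⟨A.v i, A.v_N i⟩ = 1 := by
  ext r : 1
  refine A.hom3_apply i _ ?_
  show (A.a i ^ r.val)⁻¹ * (A.v i * A.a i ^ r.val) ∈ _
  rw [((show Commute (A.v i) (A.a i) from A.v_a i).pow_right _).eq, inv_mul_cancel_left]
  exact mem_sup_left (Or.inr ⟨i, rfl⟩)

theorem hom3_v_other (i m : Fin 3) (h : i ≠ m) :
    Equiv.Perm.sign (A.hom3 i ⟨A.v m, A.v_N m⟩) = -1 := by
  have hv : A.v m ∈ A.four ⊔ A.face i := mem_sup_left (Or.inr ⟨m, rfl⟩)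
  refine perm_three_swap _ (A.hom3_apply i _ (r := (0 : ZMod 3)) (s := 0) ?_)
    (A.hom3_apply i _ (r := (1 : ZMod 3)) (s := 2) ?_)
  · simpa using hv
  · show (A.a i ^ 2)⁻¹ * (A.v m * A.a i ^ 1) ∈ _
    rw [pow_one, show A.v m * A.a i = (A.a i)⁻¹ * A.v m by rw [← A.v_inv i m h]; group]
    rw [← mul_assoc, show (A.a i ^ 2)⁻¹ * (A.a i)⁻¹ = 1 by rw [← mul_inv_rev, ← pow_succ', A.J_exp _ (A.a_J i), inv_one],
      one_mul]
    exact hv

theorem hom3_a (i : Fin 3) : A.hom3 i ⟨A.a i, le_normalizer (A.a_J i)⟩ ≠ 1 := by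
  intro e
  have h := A.hom3_apply i ⟨A.a i, le_normalizer (A.a_J i)⟩ (r := (0 : ZMod 3)) (s := 1)
    (by simp [ZMod.val_one])
  rw [e] at h
  exact absurd h (by decide)

theorem hom3_J (i : Fin 3) {x : normalizer (A.J : Set Y)} (hx : (x : Y) ∈ A.J) : A.hom3 i x ^ 3 = 1 := by
  rw [← map_pow, show x ^ 3 = 1 from Subtype.ext (A.J_exp _ hx), map_one]

theorem hom3_surj (i : Fin 3) : Function.Surjective (A.hom3 i) := by
  rw [← MonoidHom.range_eq_top]
  apply Subgroup.eq_top_of_card_eq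
  have h3 : 3 ∣ Nat.card (A.hom3 i).range := by
    have h := Subgroup.orderOf_dvd_natCard (A.hom3 i).range
      (MonoidHom.mem_range.2 ⟨⟨A.a i, le_normalizer (A.a_J i)⟩, rfl⟩)
    rwa [orderOf_eq_prime (A.hom3_J i (x := ⟨A.a i, _⟩) (A.a_J i)) (A.hom3_a i)] at h
  have h2 : 2 ∣ Nat.card (A.hom3 i).range := by
    have h := Subgroup.orderOf_dvd_natCard (A.hom3 i).range
      (MonoidHom.mem_range.2 ⟨⟨A.v (i + 1), A.v_N _⟩, rfl⟩)
    have e : A.hom3 i ⟨A.v (i + 1), A.v_N _⟩ ≠ 1 := fun e => by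
      have := A.hom3_v_other i (i + 1) (fin_three_ne i).1.symm
      rw [e, map_one] at this
      exact absurd this (by decide)
    rwa [orderOf_eq_prime (p := 2) (by rw [← map_pow, show (⟨A.v (i + 1), A.v_N _⟩ : normalizer (A.J : Set Y)) ^ 2 = 1
      from Subtype.ext (by rw [SubgroupClass.coe_pow, pow_two]; exact A.v_sq _), map_one]) e] at h
  have h6 : Nat.card (A.hom3 i).range ∣ 6 := by
    have := Subgroup.card_subgroup_dvd_card (A.hom3 i).range
    rwa [Nat.card_perm, Nat.card_fin] at this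
  rw [Nat.card_perm, Nat.card_fin]
  exact Nat.dvd_antisymm h6 (show 2 * 3 ∣ Nat.card (A.hom3 i).range from
    Nat.Coprime.mul_dvd_of_dvd_of_dvd (by norm_num : Nat.Coprime 2 3) h2 h3)

/-- The elements of the support square into `J`. -/
theorem supp_sq (i : Fin 3) {s : normalizer (A.J : Set Y)} (h3 : A.hom3 i s ^ 3 = 1) (h1 : A.hom3 i s ≠ 1) :
    (s : Y) * s ∈ A.J ∧ (s : Y) * s ≠ 1 := by
  have hne : (s : Y) * s ≠ 1 := fun e => by
    have e' : A.hom3 i s * A.hom3 i s = 1 := by rw [← map_mul, show s * s = 1 from Subtype.ext e, map_one]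
    rw [pow_succ, pow_two, e', one_mul] at h3
    exact h1 h3
  refine ⟨?_, hne⟩
  rcases A.N_mem s s.2 with h | ⟨m, hm⟩
  · exact mul_mem h h
  · have e : (s : Y) * s = s * A.v m * (A.v m * (s * A.v m) * (A.v m)⁻¹) := by
      calc (s : Y) * s = s * (A.v m * A.v m) * s * (A.v m * (A.v m)⁻¹) := by rw [A.v_sq]; group
        _ = _ := by group
    rw [e]
    exact mul_mem hm ((Subgroup.mem_normalizer_iff.1 (A.v_N m) _).1 hm)

/-- Involutions of the normalizer are conjugate to one of the given ones. -/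
theorem inv_conj {x : Y} (hx : x ∈ normalizer (A.J : Set Y)) (h : x * x = 1) (hne : x ≠ 1) :
    ∃ m, ∃ k ∈ A.J, x = k * A.v m * k⁻¹ := by
  rcases A.N_mem x hx with hJ | ⟨m, hm⟩
  · exfalso
    have h3 := A.J_exp _ hJ
    rw [pow_succ, pow_two, h, one_mul] at h3
    exact hne h3
  refine ⟨m, (x * A.v m)⁻¹, inv_mem hm, ?_⟩
  have e3 := A.J_exp _ hm
  have e : A.v m * (x * A.v m) = (x * A.v m)⁻¹ * A.v m := by
    rw [mul_inv_rev, inv_eq_of_mul_eq_one_right h, A.v_inv_eq]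
    calc A.v m * (x * A.v m) = A.v m * x * A.v m := by group
      _ = _ := rfl
  rw [inv_inv, mul_assoc _ (A.v m), e, ← mul_assoc,
    show (x * A.v m)⁻¹ * (x * A.v m)⁻¹ = x * A.v m by
      rw [← mul_inv_rev, inv_eq_iff_mul_eq_one, ← pow_two, ← pow_succ, e3],
    mul_assoc, A.v_sq, mul_one]

/-- A normal subgroup containing an involution and avoiding its axis. -/
theorem exists_kernel [Fintype Y] (i : Fin 3) : ∃ K : Subgroup Y, K.Normal ∧ A.v i ∈ K ∧ A.a i ∉ K := by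
  classical
  set N := normalizer (A.J : Set Y)
  set π := A.hom3 i
  let f : N → ℂ := fun h => CfsgLib.ThreeCC.s3Fun (π h)
  have hgen : IsGeneralizedCharacter N f := CfsgLib.ThreeCC.isGenChar_s3Fun_comp π
  have hfcl : IsClassFunction N f := (isGenChar_iff_coeff_int.mp hgen).1
  have hf0 : ∀ h : N, ¬ (π h ^ 3 = 1 ∧ π h ≠ 1) → f h = 0 := fun h hh => by
    simp only [f, CfsgLib.ThreeCC.s3Fun]; rw [if_neg hh]
  have hf1 : f 1 = 0 := hf0 1 fun h => h.2 (map_one π)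
  let S : Set Y := {g | ∃ hg : g ∈ N, π ⟨g, hg⟩ ^ 3 = 1 ∧ π ⟨g, hg⟩ ≠ 1}
  have hfS : ∀ x : N, (x : Y) ∉ S → f x = 0 := fun x hx => hf0 x fun h => hx ⟨x.2, h⟩
  have hTI : ∀ g : Y, g ∉ N → ∀ s ∈ S, g * s * g⁻¹ ∈ S → s = 1 := by
    rintro g hg s ⟨hs, h1, h2⟩ ⟨hs', -, -⟩
    obtain ⟨hJ, hne⟩ := A.supp_sq i h1 h2
    exact absurd (A.ti hJ hne (by rw [← conj_mul]; exact mul_mem hs' hs')) hg
  have hcard : (Nat.card (Equiv.Perm (Fin 3)) : ℂ) = 6 := by
    rw [Nat.card_perm, Nat.card_fin]; norm_num [Nat.factorial]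
  have hN : (Nat.card N : ℂ) ≠ 0 := Nat.cast_ne_zero.mpr Nat.card_pos.ne'
  have htwo : ((Finset.univ : Finset (Equiv.Perm (Fin 3))).filter fun σ => σ ^ 3 = 1 ∧ σ ≠ 1).card = 2 := by
    decide +kernel
  have hnorm : classInner (indFun N f) (indFun N f) = 3 := by
    rw [classInner_indFun_of_TI N S hTI hfcl hfS hfS hf1]
    have key := CfsgLib.ThreeCC.sum_comp π (A.hom3_surj i)
      (fun σ => CfsgLib.ThreeCC.s3Fun σ * conj (CfsgLib.ThreeCC.s3Fun σ))
    have hval : ∑ σ : Equiv.Perm (Fin 3), CfsgLib.ThreeCC.s3Fun σ * conj (CfsgLib.ThreeCC.s3Fun σ) = 18 := by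
      rw [Finset.sum_congr rfl (fun σ _ => show CfsgLib.ThreeCC.s3Fun σ * conj (CfsgLib.ThreeCC.s3Fun σ) =
        if σ ^ 3 = 1 ∧ σ ≠ 1 then (9 : ℂ) else 0 by unfold CfsgLib.ThreeCC.s3Fun; split <;> norm_num [map_ofNat]),
        ← Finset.sum_filter, Finset.sum_const, htwo]
      norm_num
    rw [hval, hcard] at key
    show (Nat.card N : ℂ)⁻¹ * ∑ h : N, f h * conj (f h) = 3
    rw [show ∑ h : N, f h * conj (f h) = 3 * (Nat.card N : ℂ) from
      mul_left_cancel₀ (show (6 : ℂ) ≠ 0 by norm_num) (by rw [key]; ring)]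
    field_simp
  have hone : classInner (indFun N f) (fun _ => 1) = 1 := by
    rw [frobenius_reciprocity N f (isClassFunction_irr isIrrCharacter_one)]
    have key := CfsgLib.ThreeCC.sum_comp π (A.hom3_surj i) CfsgLib.ThreeCC.s3Fun
    have hval : ∑ σ : Equiv.Perm (Fin 3), CfsgLib.ThreeCC.s3Fun σ = 6 := by
      simp only [CfsgLib.ThreeCC.s3Fun]
      rw [← Finset.sum_filter, Finset.sum_const, htwo]
      norm_num
    rw [hval, hcard] at key
    show (Nat.card N : ℂ)⁻¹ * ∑ h : N, f h * conj (1 : ℂ) = 1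
    simp only [map_one, mul_one]
    rw [show ∑ h : N, f h = (Nat.card N : ℂ) from mul_left_cancel₀ (show (6 : ℂ) ≠ 0 by norm_num) (by rw [key]; ring)]
    exact inv_mul_cancel₀ hN
  have hind : ∀ g : Y, (∀ x : Y, ∀ h : x⁻¹ * g * x ∈ N, ¬ (π ⟨_, h⟩ ^ 3 = 1 ∧ π ⟨_, h⟩ ≠ 1)) → indFun N f g = 0 := by
    intro g hg
    have : ∀ x : Y, extendByZero N f (x⁻¹ * g * x) = 0 := fun x => by
      by_cases hm : x⁻¹ * g * x ∈ N
      · rw [extendByZero_of_mem _ _ hm]; exact hf0 _ (hg x hm)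
      · exact extendByZero_of_not_mem _ _ hm
    simp [indFun, this]
  have hb : indFun N f (A.v i) = 0 := hind _ fun x hx hh => by
    have := (A.supp_sq i hh.1 hh.2).2
    exact this (by show x⁻¹ * A.v i * x * (x⁻¹ * A.v i * x) = 1; rw [show x⁻¹ * A.v i * x * (x⁻¹ * A.v i * x) = x⁻¹ * (A.v i * A.v i) * x by group, A.v_sq]; group)
  have hpair : ∀ g : Y, indFun N f (g * A.v i * g⁻¹ * A.v i) = 0 := by
    intro g
    refine hind _ fun x hx hh => ?_
    set c := x⁻¹ * A.v i * x with hc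
    set s := x⁻¹ * (g * A.v i * g⁻¹ * A.v i) * x with hs
    obtain ⟨hJ, hne⟩ := A.supp_sq i hh.1 hh.2
    have hinv : c * s * c⁻¹ = s⁻¹ := by
      have := pair_inverts (A.v_sq i) g
      rw [hc, hs]
      calc _ = x⁻¹ * (A.v i * (g * A.v i * g⁻¹ * A.v i) * (A.v i)⁻¹) * x := by group
        _ = _ := by rw [this]; group
    have hcN : c ∈ N := by
      refine A.ti hJ hne ?_
      rw [← conj_mul, hinv]
      exact le_normalizer (by rw [← mul_inv_rev]; exact inv_mem hJ)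
    have hconj1 : ∀ (w y : Y) (hw : w ∈ N), w = y * A.v i * y⁻¹ → π ⟨w, hw⟩ = 1 := by
      intro w y hw e
      have hww : w * w = 1 := by
        rw [e, show y * A.v i * y⁻¹ * (y * A.v i * y⁻¹) = y * (A.v i * A.v i) * y⁻¹ by group, A.v_sq]; group
      have hw1 : w ≠ 1 := fun e1 => by
        rw [e1, eq_comm, conj_eq_one_iff] at e
        exact A.v_not_J i (e ▸ one_mem _)
      obtain ⟨m, k, hk, e2⟩ := A.inv_conj hw hww hw1
      have hmi : i = m := by
        by_contra hmi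
        refine A.non_conj i m hmi (k⁻¹ * y) ?_
        calc k⁻¹ * y * A.v i * (k⁻¹ * y)⁻¹ = k⁻¹ * (y * A.v i * y⁻¹) * k := by group
          _ = k⁻¹ * (k * A.v m * k⁻¹) * k := by rw [← e, ← e2]
          _ = _ := by group
      subst hmi
      rw [show (⟨w, hw⟩ : N) = ⟨k, le_normalizer hk⟩ * ⟨A.v i, A.v_N i⟩ * ⟨k, le_normalizer hk⟩⁻¹ from Subtype.ext e2,
        map_mul, map_mul, A.hom3_v_self, mul_one, map_inv, mul_inv_cancel]
    have hc1 := hconj1 c x⁻¹ hcN (by rw [hc, inv_inv])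
    have hscN : s * c ∈ N := mul_mem hx hcN
    have hsc := hconj1 (s * c) (x⁻¹ * g) hscN (by
      rw [hs, hc, mul_inv_rev, inv_inv]
      calc _ = x⁻¹ * (g * A.v i * g⁻¹ * (A.v i * A.v i)) * x := by group
        _ = _ := by rw [A.v_sq]; group)
    rw [show (⟨s * c, hscN⟩ : N) = ⟨s, hx⟩ * ⟨c, hcN⟩ from rfl, map_mul, hc1, mul_one] at hsc
    exact hh.2 hsc
  have h1 : indFun N f 1 = 0 := hind _ fun x hx hh => by
    exact (A.supp_sq i hh.1 hh.2).2 (by show x⁻¹ * 1 * x * (x⁻¹ * 1 * x) = 1; group)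
  obtain ⟨K, L, hK, hL, hbK, hbL, hzero⟩ := two_kernels (indFun_isClassFunction N f)
    (fun χ => (isGenChar_iff_coeff_int.mp (isGenChar_indFun N hgen)).2 _ χ.2) hnorm hone h1 hb hpair
  by_contra hno
  push Not at hno
  have h := hzero (A.a i) (hno K hK hbK) (hno L hL hbL)
  have haS : A.a i ∈ S := ⟨le_normalizer (A.a_J i), A.hom3_J i (A.a_J i), A.hom3_a i⟩
  rw [indFun_apply_of_TI N S hTI hfcl hfS hf1 ⟨A.a i, le_normalizer (A.a_J i)⟩ haS] at h
  simp only [f, CfsgLib.ThreeCC.s3Fun] at h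
  rw [if_pos ⟨A.hom3_J i (x := ⟨A.a i, _⟩) (A.a_J i), A.hom3_a i⟩] at h
  norm_num at h

end Axes

end CfsgLib.McLThree.Weak
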