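import Cfsg.Agent.Lib.McLThree.Weak.AxesKernel
import Mathlib.GroupTheory.Sylow

/-!
The subgroup `J` is normal.
-/

set_option autoImplicit false

namespace CfsgLib.McLThree.Weak

open Subgroup

universe u

namespace Axes

variable {Y : Type u} [Group Y] [Finite Y] (A : Axes Y)

include A

theorem mem_kernel_axes {i k : Fin 3} {K : Subgroup Y} (hK : K.Normal) (hv : A.v i ∈ K) (hk : k ≠ i) : A.a k ∈ K := by
  have h : A.v i * A.a k * (A.v i)⁻¹ * (A.a k)⁻¹ ∈ K := by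
    rw [mul_assoc, mul_assoc]
    refine K.mul_mem hv ?_
    rw [← mul_assoc]
    exact hK.conj_mem _ (K.inv_mem hv) _
  rw [A.v_inv k i hk, ← mul_inv_rev] at h
  have e : A.a k = (A.a k * A.a k)⁻¹ := by
    rw [eq_inv_iff_mul_eq_one, ← pow_two, ← pow_succ', A.J_exp _ (A.a_J k)]
  rwa [← e] at h

theorem kernel_inter {i : Fin 3} {K : Subgroup Y} (hK : K.Normal) (hv : A.v i ∈ K) (ha : A.a i ∉ K)
    {p : Fin 3 → ZMod 3} (hp : A.el p ∈ K) : p i = 0 := by
  by_contra hne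
  have hface : A.el (p - Pi.single i (p i)) ∈ K := by
    have hz : (p - Pi.single i (p i) : Fin 3 → ZMod 3) i = 0 := by simp
    have hall : ∀ k, A.a k ^ ((p - Pi.single i (p i) : Fin 3 → ZMod 3) k).val ∈ K := fun k => by
      rcases eq_or_ne k i with rfl | hk
      · rw [hz, ZMod.val_zero, pow_zero]; exact one_mem _
      · exact pow_mem (A.mem_kernel_axes hK hv hk) _
    exact mul_mem (mul_mem (hall 0) (hall 1)) (hall 2)
  have h : A.a i ^ (p i).val ∈ K := by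
    rw [← A.el_axis, show Pi.single i (p i) = p + -(p - Pi.single i (p i)) by abel, A.el_add, A.el_neg]
    exact mul_mem hp (inv_mem hface)
  have h2 : A.a i = (A.a i ^ (p i).val) ^ (p i).val := by
    rw [← pow_mul, pow_eq_pow_mod _ (A.J_exp _ (A.a_J i)), zmod_sq_val _ hne, pow_one]
  exact ha (h2 ▸ pow_mem h _)

theorem exists_conj_mem {Q : Subgroup Y} (hQ : IsPGroup 3 Q) : ∃ g : Y, ∀ x ∈ Q, g * x * g⁻¹ ∈ A.J := by
  haveI : Fact (Nat.Prime 3) := ⟨Nat.prime_three⟩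
  obtain ⟨P, hP⟩ := hQ.exists_le_sylow
  obtain ⟨R, hR⟩ :=
    (IsPGroup.of_card (p := 3) (n := 3) (by rw [A.J_card]; norm_num) : IsPGroup 3 A.J).exists_le_sylow
  have hRJ : (R : Subgroup Y) = A.J := A.J_sylow R.isPGroup' hR
  obtain ⟨g, hg⟩ := MulAction.exists_smul_eq Y P R
  refine ⟨g, fun x hx => ?_⟩
  rw [← hRJ, ← hg]
  exact (Subgroup.mem_smul_pointwise_iff_exists _ _ _).2 ⟨x, hP hx, rfl⟩

theorem sup_normal {i : Fin 3} {K : Subgroup Y} (hK : K.Normal) (hv : A.v i ∈ K) : (A.J ⊔ K).Normal := by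
  haveI : Fact (Nat.Prime 3) := ⟨Nat.prime_three⟩
  haveI := hK
  have hBp : IsPGroup 3 (A.J.subgroupOf K) := fun x =>
    ⟨1, Subtype.ext (Subtype.ext (by simpa using A.J_exp _ (Subgroup.mem_subgroupOf.1 x.2)))⟩
  obtain ⟨P, hP⟩ := hBp.exists_le_sylow
  have hki : i + 1 ≠ i := (fin_three_ne i).1
  have haK := A.mem_kernel_axes hK hv hki
  have haP : (⟨A.a (i + 1), haK⟩ : K) ∈ (P : Subgroup K) := hP (Subgroup.mem_subgroupOf.2 (A.a_J _))
  obtain ⟨g, hg⟩ := A.exists_conj_mem (Q := (P : Subgroup K).map K.subtype) (P.isPGroup'.map _)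
  have hgN : g ∈ normalizer (A.J : Set Y) :=
    A.ti (A.a_J (i + 1)) (A.a_ne _) (le_normalizer (hg _ ⟨_, haP, rfl⟩))
  have hPJ : ∀ w : Y, w ∈ (P : Subgroup K).map K.subtype → w ∈ A.J := fun w hw =>
    (Subgroup.mem_normalizer_iff.1 hgN w).2 (hg w hw)
  have hN : normalizer (((P : Subgroup K).map K.subtype : Subgroup Y) : Set Y) ≤ normalizer (A.J : Set Y) :=
    fun x hx => A.ti (A.a_J (i + 1)) (A.a_ne _)
      (le_normalizer (hPJ _ ((Subgroup.mem_normalizer_iff.1 hx _).1 ⟨_, haP, rfl⟩)))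
  have htop := Sylow.normalizer_sup_eq_top P
  have h2 : normalizer (A.J : Set Y) ⊔ K = ⊤ := top_le_iff.1 (htop ▸ sup_le_sup_right hN K)
  rw [← Subgroup.normalizer_eq_top_iff, ← top_le_iff, ← h2]
  refine sup_le ?_ (le_sup_right.trans le_normalizer)
  intro x hx
  refine norm_of_conj_le ?_
  intro w hw
  have : w ∈ A.J ⊔ K := hw
  rw [← SetLike.mem_coe, Subgroup.mul_normal, Set.mem_mul] at this
  obtain ⟨j, hj, n, hn, rfl⟩ := this
  rw [← conj_mul]
  exact mul_mem (mem_sup_left ((Subgroup.mem_normalizer_iff.1 hx _).1 hj)) (mem_sup_right (hK.conj_mem _ hn _))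

theorem cube_mem {K : Subgroup Y} (hK : K.Normal) {x : Y} (hx : x ∈ A.J ⊔ K) : x ^ 3 ∈ K := by
  haveI := hK
  rw [← SetLike.mem_coe, Subgroup.mul_normal, Set.mem_mul] at hx
  obtain ⟨j, hj, n, hn, rfl⟩ := hx
  rw [← QuotientGroup.eq_one_iff, QuotientGroup.mk_pow, QuotientGroup.mk_mul, (QuotientGroup.eq_one_iff n).2 hn,
    mul_one, ← QuotientGroup.mk_pow, A.J_exp _ hj, QuotientGroup.mk_one]

/-- The subgroup is normal. -/
theorem normal [Fintype Y] : A.J.Normal := by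
  haveI : Fact (Nat.Prime 3) := ⟨Nat.prime_three⟩
  choose K hK hv ha using A.exists_kernel
  set L := ⨅ i, K i with hL
  haveI hLn : L.Normal := Subgroup.normal_iInf_normal hK
  have hLJ : ∀ x ∈ L, x ∈ A.J → x = 1 := by
    intro x hx hxJ
    obtain ⟨p, rfl⟩ := A.el_surj hxJ
    rw [Subgroup.mem_iInf] at hx
    rw [show p = 0 from funext fun i => A.kernel_inter (hK i) (hv i) (ha i) (hx i), A.el_zero]
  have h3 : ¬ 3 ∣ Nat.card L := by
    intro h
    obtain ⟨x, hx⟩ := exists_prime_orderOf_dvd_card' (G := L) 3 h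
    have hxY : orderOf (x : Y) = 3 := by rwa [Subgroup.orderOf_coe]
    obtain ⟨g, hg⟩ := A.exists_conj_mem (Q := Subgroup.zpowers (x : Y))
      (IsPGroup.of_card (n := 1) (by rw [Nat.card_zpowers, hxY, pow_one]))
    have hgx := hg _ (Subgroup.mem_zpowers _)
    have := hLJ _ (hLn.conj_mem _ x.2 g) hgx
    rw [conj_eq_one_iff] at this
    rw [this, orderOf_one] at hxY
    norm_num at hxY
  have hLbot : L = ⊥ := A.signal h3 (le_top.trans (Subgroup.normalizer_eq_top_iff.2 hLn).ge)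
  set D := ⨅ i, A.J ⊔ K i with hD
  haveI hDn : D.Normal := Subgroup.normal_iInf_normal fun i => A.sup_normal (hK i) (hv i)
  have hDJ : A.J ≤ D := le_iInf fun i => le_sup_left
  have hDp : IsPGroup 3 D := by
    intro x
    refine ⟨1, Subtype.ext ?_⟩
    have h : ((x : Y) ^ 3) ∈ L := Subgroup.mem_iInf.2 fun i => A.cube_mem (hK i) (Subgroup.mem_iInf.1 x.2 i)
    rw [hLbot, Subgroup.mem_bot] at h
    simpa using h
  rw [← A.J_sylow hDp hDJ]
  exact hDn

end Axes

end CfsgLib.McLThree.Weak
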