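import Cfsg.Agent.Lib.McLThree.Weak.AxesBasic

/-!
The centralizer of the diagonal element modulo it: normal forms in the normalizer of `J`, the Sylow subgroup, fusion.
-/

set_option autoImplicit false

namespace CfsgLib.McLThree.Weak

open Subgroup Fin.NatCast

universe u

/-- The data. -/
structure Bar (X : Type u) [Group X] extends Coord X where
  /-- the element permuting the axes -/
  w : X
  /-- of order three -/
  w_cube : w ^ 3 = 1
  /-- on the involutions -/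
  w_v : ∀ i, w * v i * w⁻¹ = v (i + 1)
  /-- on the axes -/
  w_a : ∀ i, w * a i * w⁻¹ = a (i + 1)
  /-- normalises `J` -/
  w_N : w ∈ normalizer (J : Set X)
  /-- centralizer of the first axis -/
  cent_a : centralizer ({a 0} : Set X) ≤ normalizer (J : Set X)
  /-- centralizer of the product of the axes -/
  cent_z : centralizer ({axEl a (fun _ => 1)} : Set X) ≤ normalizer (J : Set X)
  /-- a representative of order three of the coset of `w` -/
  w0 : X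
  /-- in the coset -/
  w0_J : w0 * w⁻¹ ∈ J
  /-- of order three -/
  w0_cube : w0 ^ 3 = 1
  /-- not conjugate to the product of the axes -/
  nr : ∀ g : X, g * axEl a (fun _ => 1) * g⁻¹ ≠ w0 ∧ g * axEl a (fun _ => 1) * g⁻¹ ≠ w0⁻¹

/-- An element inducing a transposition of the axes. -/
structure Turn {X : Type u} [Group X] (B : Bar X) where
  /-- the element -/
  r : X
  /-- normalises `J` -/
  r_N : r ∈ normalizer (B.J : Set X)
  /-- its square -/
  r_sq : r * r ∈ B.J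
  /-- on the first involution -/
  r_v0 : r * B.v 0 * r⁻¹ = B.v 0
  /-- on the second involution -/
  r_v1 : r * B.v 1 * r⁻¹ * B.v 2 ∈ B.J
  /-- on the first axis -/
  r_a : r * B.a 0 * r⁻¹ = (B.a 0)⁻¹

theorem fin3_all : ∀ i : Fin 3, i = 0 ∨ i = 1 ∨ i = 2 := by decide

theorem fin3_shift1 : ∀ m : Fin 3, m + ((1 : ℕ) : Fin 3) ≠ m := by decide

theorem fin3_shift2 : ∀ m : Fin 3, m + ((2 : ℕ) : Fin 3) ≠ m := by decide

theorem zmod_val_cast : ∀ r : ZMod 3, (r.val : ZMod 3) = r := by decide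

namespace Bar

variable {X : Type u} [Group X] [Finite X] (B : Bar X)

include B

/-- The product of the axes. -/
abbrev z1 : X := B.el (fun _ => 1)

theorem z1_mem : B.z1 ∈ B.J := B.el_mem _

theorem z1_ne : B.z1 ≠ 1 := fun e => one_ne_zero (congrFun (B.el_kernel e) 0)

theorem el_smul (p : Fin 3 → ZMod 3) (k : ℕ) : B.el p ^ k = B.el ((k : ZMod 3) • p) := by
  induction k with
  | zero => simp [B.el_zero]
  | succ k ih => rw [pow_succ, ih, ← B.el_add]; push_cast; rw [add_smul, one_smul]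

theorem el_const (r : ZMod 3) : B.el (fun _ => r) = B.z1 ^ r.val := by
  rw [B.el_smul, zmod_val_cast]
  congr 1
  funext i
  simp

theorem el_w (p : Fin 3 → ZMod 3) : B.w * B.el p * B.w⁻¹ = B.el (fun i => p (i + 2)) := by
  have c : ∀ i k : Fin 3, ∀ m n : ℕ, Commute (B.a i ^ m) (B.a k ^ n) := fun i k m n =>
    (show Commute (B.a i) (B.a k) from B.J_comm _ (B.a_J i) _ (B.a_J k)).pow_pow m n
  simp only [Coord.el, axEl]
  rw [conj_mul' B.w, conj_mul' B.w, ← conj_pow, ← conj_pow, ← conj_pow, B.w_a, B.w_a, B.w_a]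
  show B.a 1 ^ (p 0).val * B.a 2 ^ (p 1).val * B.a 0 ^ (p 2).val = B.a 0 ^ (p 2).val * B.a 1 ^ (p 0).val * B.a 2 ^ (p 1).val
  rw [((c 1 0 _ (p 2).val).mul_left (c 2 0 _ _)).eq, mul_assoc]
where
  conj_mul' (x : X) {a b : X} : x * (a * b) * x⁻¹ = (x * a * x⁻¹) * (x * b * x⁻¹) := (conj_mul).symm

theorem z1_w : B.w * B.z1 = B.z1 * B.w :=
  mul_inv_eq_iff_eq_mul.1 (B.el_w _)

theorem w_pow_v (k : ℕ) (i : Fin 3) : B.w ^ k * B.v i * (B.w ^ k)⁻¹ = B.v (i + (k : Fin 3)) := by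
  induction k with
  | zero => simp
  | succ k ih =>
    rw [pow_succ', show B.w * B.w ^ k * B.v i * (B.w * B.w ^ k)⁻¹ =
      B.w * (B.w ^ k * B.v i * (B.w ^ k)⁻¹) * B.w⁻¹ by group, ih, B.w_v]
    congr 1
    push_cast
    rw [add_assoc]

theorem w_pow_a (k : ℕ) (i : Fin 3) : B.w ^ k * B.a i * (B.w ^ k)⁻¹ = B.a (i + (k : Fin 3)) := by
  induction k with
  | zero => simp
  | succ k ih =>
    rw [pow_succ', show B.w * B.w ^ k * B.a i * (B.w * B.w ^ k)⁻¹ =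
      B.w * (B.w ^ k * B.a i * (B.w ^ k)⁻¹) * B.w⁻¹ by group, ih, B.w_a]
    congr 1
    push_cast
    rw [add_assoc]

theorem w_inv : B.w⁻¹ = B.w ^ 2 := inv_eq_of_mul_eq_one_left (by rw [← pow_succ]; exact B.w_cube)

theorem four_v {f : X} (hf : f ∈ B.four) (i : Fin 3) : f * B.v i * f⁻¹ = B.v i := by
  rcases hf with rfl | ⟨m, rfl⟩
  · group
  have hc : B.v m * B.v i = B.v i * B.v m := by
    have h2 : B.v m * B.v i * (B.v m * B.v i) = 1 := by
      rcases B.v_mul_any m i with h | ⟨k, h⟩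
      · rw [h, one_mul]
      · rw [h, B.v_sq]
    rw [eq_inv_of_mul_eq_one_left h2, mul_inv_rev, B.v_inv_eq, B.v_inv_eq]
  rw [hc, mul_inv_cancel_right]

theorem four_sq {f : X} (hf : f ∈ B.four) : f * f = 1 := by
  rcases hf with rfl | ⟨m, rfl⟩
  · exact one_mul 1
  · exact B.v_sq m

theorem w_four {f : X} (hf : f ∈ B.four) (k : ℕ) : B.w ^ k * f * (B.w ^ k)⁻¹ ∈ B.four := by
  rcases hf with rfl | ⟨m, rfl⟩
  · rw [mul_one, mul_inv_cancel]; exact one_mem _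
  · exact Or.inr ⟨_, B.w_pow_v k m⟩

theorem four_norm : B.four ≤ normalizer (B.J : Set X) := by
  rintro x (rfl | ⟨m, rfl⟩)
  · exact one_mem _
  · exact B.v_N m

theorem w_norm_four : zpowers B.w ≤ normalizer (B.four : Set X) := zpowers_le.2 (norm_of_conj_le fun f hf => by
  simpa using B.w_four hf 1)

/-- The subgroup `J` extended by the four-group. -/
abbrev JV : Subgroup X := B.four ⊔ B.J

theorem mem_JV {x : X} : x ∈ B.JV ↔ ∃ j ∈ B.J, ∃ f ∈ B.four, x = j * f := by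
  constructor
  · intro h
    rw [← SetLike.mem_coe, coe_mul_of_left_le_normalizer_right _ _ B.four_norm, Set.mem_mul] at h
    obtain ⟨f, hf, j, hj, rfl⟩ := h
    exact ⟨f * j * f⁻¹, (Subgroup.mem_normalizer_iff.1 (B.four_norm hf) _).1 hj, f, hf, by group⟩
  · rintro ⟨j, hj, f, hf, rfl⟩
    exact mul_mem (mem_sup_right hj) (mem_sup_left hf)

/-- The Sylow subgroup. -/
abbrev T : Subgroup X := zpowers B.w ⊔ B.J

theorem mem_T {x : X} : x ∈ B.T ↔ ∃ j ∈ B.J, ∃ k < 3, x = j * B.w ^ k := by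
  constructor
  · intro h
    rw [← SetLike.mem_coe, coe_mul_of_left_le_normalizer_right _ _ (zpowers_le.2 B.w_N), Set.mem_mul] at h
    obtain ⟨_, hf, j, hj, rfl⟩ := h
    obtain ⟨k, rfl⟩ := mem_powers_iff_mem_zpowers.2 hf
    refine ⟨B.w ^ k * j * (B.w ^ k)⁻¹, (Subgroup.mem_normalizer_iff.1 (pow_mem B.w_N k) _).1 hj, k % 3,
      Nat.mod_lt _ (by norm_num), ?_⟩
    rw [← pow_eq_pow_mod k B.w_cube]
    group
  · rintro ⟨j, hj, k, -, rfl⟩
    exact mul_mem (mem_sup_right hj) (mem_sup_left (pow_mem (mem_zpowers _) k))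

theorem w_T : B.w ∈ B.T := mem_sup_left (mem_zpowers _)

theorem J_T : B.J ≤ B.T := le_sup_right

/-- The subgroup generated by both. -/
abbrev H1 : Subgroup X := zpowers B.w ⊔ B.JV

theorem w_norm_JV : zpowers B.w ≤ normalizer (B.JV : Set X) := zpowers_le.2 (norm_of_conj_le fun x hx => by
  obtain ⟨j, hj, f, hf, rfl⟩ := B.mem_JV.1 hx
  rw [← conj_mul]
  exact mul_mem (mem_sup_right ((Subgroup.mem_normalizer_iff.1 B.w_N j).1 hj))
    (mem_sup_left (by simpa using B.w_four hf 1)))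

theorem mem_H1 {x : X} : x ∈ B.H1 ↔ ∃ j ∈ B.J, ∃ f ∈ B.four, ∃ k < 3, x = j * f * B.w ^ k := by
  constructor
  · intro h
    rw [← SetLike.mem_coe, coe_mul_of_left_le_normalizer_right _ _ B.w_norm_JV, Set.mem_mul] at h
    obtain ⟨_, hf, y, hy, rfl⟩ := h
    obtain ⟨k, rfl⟩ := mem_powers_iff_mem_zpowers.2 hf
    have hy' : B.w ^ k * y * (B.w ^ k)⁻¹ ∈ B.JV :=
      (Subgroup.mem_normalizer_iff.1 (B.w_norm_JV (pow_mem (mem_zpowers _) k)) y).1 hy
    obtain ⟨j, hj, f, hf, e⟩ := B.mem_JV.1 hy'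
    refine ⟨j, hj, f, hf, k % 3, Nat.mod_lt _ (by norm_num), ?_⟩
    rw [← pow_eq_pow_mod k B.w_cube, ← e]
    group
  · rintro ⟨j, hj, f, hf, k, -, rfl⟩
    exact mul_mem (mem_sup_right (mul_mem (mem_sup_right hj) (mem_sup_left hf)))
      (mem_sup_left (pow_mem (mem_zpowers _) k))

theorem H1_N : B.H1 ≤ normalizer (B.J : Set X) :=
  sup_le (zpowers_le.2 B.w_N) (sup_le B.four_norm le_normalizer)

theorem T_H1 : B.T ≤ B.H1 := sup_le le_sup_left (le_sup_right.trans le_sup_right)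

theorem four_a {f : X} (hf : f ∈ B.four) (i : Fin 3) : f * B.a i * f⁻¹ = B.a i ∨ f * B.a i * f⁻¹ = (B.a i)⁻¹ := by
  rcases hf with rfl | ⟨m, rfl⟩
  · exact Or.inl (by group)
  rcases eq_or_ne i m with rfl | h
  · exact Or.inl (by rw [B.v_a, mul_inv_cancel_right])
  · exact Or.inr (B.v_inv i m h)

theorem a_sep {i k : Fin 3} (h : B.a i = B.a k ∨ B.a i = (B.a k)⁻¹) : i = k := by
  by_contra hne
  have h1 := B.v_a i
  have h2 : B.v i * B.a k * (B.v i)⁻¹ = (B.a k)⁻¹ := B.v_inv k i (Ne.symm hne)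
  have h3 : B.v i * B.a k * (B.v i)⁻¹ = B.a k := by
    rcases h with e | e
    · rw [← e, h1, mul_inv_cancel_right]
    · have e' : B.a k = (B.a i)⁻¹ := by rw [e, inv_inv]
      rw [e', ← conj_inv, h1, mul_inv_cancel_right]
  rw [h3] at h2
  have h4 := B.J_exp _ (B.a_J k)
  have h5 : B.a k * B.a k = 1 := by nth_rw 1 [h2]; exact inv_mul_cancel _
  rw [pow_succ, pow_two, h5, one_mul] at h4
  exact B.a_ne k h4

theorem H1_axis {j f : X} (hj : j ∈ B.J) (hf : f ∈ B.four) (k : ℕ) (i : Fin 3) :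
    j * f * B.w ^ k * B.a i * (j * f * B.w ^ k)⁻¹ = B.a (i + (k : Fin 3)) ∨
      j * f * B.w ^ k * B.a i * (j * f * B.w ^ k)⁻¹ = (B.a (i + (k : Fin 3)))⁻¹ := by
  rw [show j * f * B.w ^ k * B.a i * (j * f * B.w ^ k)⁻¹ = j * (f * (B.w ^ k * B.a i * (B.w ^ k)⁻¹) * f⁻¹) * j⁻¹ by
    group, B.w_pow_a]
  rcases B.four_a hf (i + (k : Fin 3)) with e | e <;> rw [e]
  · exact Or.inl (by rw [B.J_comm j hj _ (B.a_J _), mul_inv_cancel_right])
  · exact Or.inr (by rw [B.J_comm j hj _ (inv_mem (B.a_J _)), mul_inv_cancel_right])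

/-- The normal form is unique. -/
theorem H1_unique {j f : X} (hj : j ∈ B.J) (hf : f ∈ B.four) {k : ℕ} (hk : k < 3)
    (h : j * f * B.w ^ k ∈ B.J) : f = 1 ∧ k = 0 := by
  have h2 : k = 0 := by
    have h1 := B.H1_axis hj hf k 0
    rw [B.J_comm _ h _ (B.a_J 0), mul_inv_cancel_right, zero_add] at h1
    have e := B.a_sep h1
    interval_cases k
    · rfl
    · exact absurd e (by decide)
    · exact absurd e (by decide)
  subst h2
  refine ⟨?_, rfl⟩
  rw [pow_zero, mul_one] at h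
  have hfJ : f ∈ B.J := by
    have := mul_mem (inv_mem hj) h
    rwa [inv_mul_cancel_left] at this
  rcases hf with rfl | ⟨m, rfl⟩
  · rfl
  · exact absurd hfJ (B.v_not_J m)

theorem four_comm_w {f : X} (hf : f ∈ B.four) {k : ℕ} (hk : k = 1 ∨ k = 2)
    (h : f * B.w ^ k * f⁻¹ * (B.w ^ k)⁻¹ ∈ B.J) : f = 1 := by
  rcases hf with rfl | ⟨m, rfl⟩
  · rfl
  exfalso
  rw [show B.v m * B.w ^ k * (B.v m)⁻¹ * (B.w ^ k)⁻¹ = B.v m * (B.w ^ k * (B.v m)⁻¹ * (B.w ^ k)⁻¹) by group,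
    B.v_inv_eq, B.w_pow_v] at h
  rcases B.v_mul_any m (m + (k : Fin 3)) with e | ⟨n, e⟩
  · have h' : B.v m = B.v (m + (k : Fin 3)) := by rw [eq_inv_of_mul_eq_one_left e, B.v_inv_eq]
    have h2 := B.v_inv (m + (k : Fin 3)) m (by rcases hk with rfl | rfl; exacts [fin3_shift1 m, fin3_shift2 m])
    rw [h', B.v_a, mul_inv_cancel_right] at h2
    have h4 := B.J_exp _ (B.a_J (m + (k : Fin 3)))
    have h5 : B.a (m + (k : Fin 3)) * B.a (m + (k : Fin 3)) = 1 := by nth_rw 1 [h2]; exact inv_mul_cancel _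
    rw [pow_succ, pow_two, h5, one_mul] at h4
    exact B.a_ne _ h4
  · exact B.v_not_J n (e ▸ h)

/-- Elements of `H1` normalising `T` lie in `T`. -/
theorem H1_norm_T {x : X} (hx : x ∈ B.H1) (hn : x ∈ normalizer (B.T : Set X)) : x ∈ B.T := by
  obtain ⟨j, hj, f, hf, k, -, rfl⟩ := B.mem_H1.1 hx
  have h : f * B.w ^ 1 * f⁻¹ ∈ B.T := by
    have h1 : j * f * B.w ^ k * B.w * (j * f * B.w ^ k)⁻¹ ∈ B.T := (Subgroup.mem_normalizer_iff.1 hn _).1 B.w_T
    have h2 := mul_mem (mul_mem (inv_mem (B.J_T hj)) h1) (B.J_T hj)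
    rw [pow_one]
    rwa [show j⁻¹ * (j * f * B.w ^ k * B.w * (j * f * B.w ^ k)⁻¹) * j = f * B.w * f⁻¹ by group] at h2
  obtain ⟨j', hj', k', hk', e⟩ := B.mem_T.1 h
  have hf1 : f = 1 := by
    refine B.four_comm_w hf (Or.inl rfl) ?_
    have hu : f * (B.w ^ 1 * f⁻¹ * (B.w ^ 1)⁻¹) ∈ B.four := mul_mem hf (B.w_four (inv_mem hf) 1)
    have e' : f * (B.w ^ 1 * f⁻¹ * (B.w ^ 1)⁻¹) = j' * 1 * B.w ^ ((k' + 2) % 3) := by
      rw [← pow_eq_pow_mod (k' + 2) B.w_cube, pow_add, ← B.w_inv, mul_one, ← mul_assoc j', ← e]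
      group
    have hdiff : 1 * (f * (B.w ^ 1 * f⁻¹ * (B.w ^ 1)⁻¹)) * B.w ^ ((3 - (k' + 2) % 3) % 3) ∈ B.J := by
      rw [one_mul, e', mul_one, mul_assoc, ← pow_add, pow_eq_pow_mod _ B.w_cube,
        show ((k' + 2) % 3 + (3 - (k' + 2) % 3) % 3) % 3 = 0 by omega, pow_zero, mul_one]
      exact hj'
    obtain ⟨h1, -⟩ := B.H1_unique (one_mem _) hu (Nat.mod_lt _ (by norm_num)) hdiff
    rw [show f * B.w ^ 1 * f⁻¹ * (B.w ^ 1)⁻¹ = f * (B.w ^ 1 * f⁻¹ * (B.w ^ 1)⁻¹) by group, h1]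
    exact one_mem _
  rw [hf1, mul_one]
  exact mul_mem (B.J_T hj) (pow_mem B.w_T k)

end Bar

end CfsgLib.McLThree.Weak
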