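import Cfsg.Agent.Lib.McLThree.Weak.BarSylow
import Cfsg.Agent.Lib.McLThree.Weak.AxesNormal

/-!
A normal subgroup meeting the normalizer of `J` in `J` extended by the four-group forces `J` to be normal.
-/

set_option autoImplicit false

namespace CfsgLib.McLThree.Weak

open Subgroup Fin.NatCast

universe u

theorem all_nonzero_shape : ∀ p : Fin 3 → ZMod 3, (∀ i, p i ≠ 0) →
    ∃ c : ZMod 3, c ≠ 0 ∧ (p = (fun _ => c) ∨ ∃ m, p = flip3 m (fun _ => c)) := by decide +kernel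

namespace Bar

variable {X : Type u} [Group X] [Finite X] (B : Bar X) (hcov : Covered B)

include hcov

theorem v0_three_conj {y : X} (hy : y * B.v 0 = B.v 0 * y) {k : ℕ} (h3 : y ^ 3 ^ k = 1) :
    ∃ c, c * B.v 0 = B.v 0 * c ∧ c * y * c⁻¹ ∈ zpowers (B.a 0) := by
  haveI : Fact (Nat.Prime 3) := ⟨Nat.prime_three⟩
  have hA : IsPGroup 3 (zpowers (B.a 0)) := by
    intro x
    obtain ⟨n, hn⟩ := mem_powers_iff_mem_zpowers.2 x.2
    have hn' : B.a 0 ^ n = (x : X) := hn
    exact ⟨1, Subtype.ext (by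
      show (x : X) ^ 3 ^ 1 = 1
      rw [← hn', pow_one, ← pow_mul, mul_comm, pow_mul, B.J_exp _ (B.a_J 0), one_pow])⟩
  have hY : IsPGroup 3 (zpowers y) := by
    intro x
    obtain ⟨n, hn⟩ := mem_powers_iff_mem_zpowers.2 x.2
    have hn' : y ^ n = (x : X) := hn
    exact ⟨k, Subtype.ext (by
      show (x : X) ^ 3 ^ k = 1
      rw [← hn', ← pow_mul, mul_comm, pow_mul, h3, one_pow])⟩
  obtain ⟨c, hc, R, hR, hRC, hAR, hYR⟩ := CfsgLib.Local.exists_conj_isPGroup
    (C := centralizer ({B.v 0} : Set X)) hA hY (zpowers_le.2 (mem_centralizer_singleton_iff.2 (B.v_a 0).symm))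
    (zpowers_le.2 (mem_centralizer_singleton_iff.2 hy))
  refine ⟨c, mem_centralizer_singleton_iff.1 hc, ?_⟩
  rw [← B.cent_v0_three hcov hR hRC (hAR (mem_zpowers _))]
  exact hYR ⟨y, mem_zpowers y, rfl⟩

omit hcov in
theorem cent_axis (i : Fin 3) : centralizer ({B.a i} : Set X) ≤ normalizer (B.J : Set X) := by
  intro x hx
  have hW : B.w ^ i.val * B.a 0 * (B.w ^ i.val)⁻¹ = B.a i := by
    rw [B.w_pow_a, zero_add, Fin.cast_val_eq_self]
  have h : (B.w ^ i.val)⁻¹ * x * B.w ^ i.val ∈ normalizer (B.J : Set X) := by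
    refine B.cent_a (mem_centralizer_singleton_iff.2 ?_)
    have hc : x * B.a i = B.a i * x := mem_centralizer_singleton_iff.1 hx
    rw [← hW] at hc
    calc (B.w ^ i.val)⁻¹ * x * B.w ^ i.val * B.a 0
        = (B.w ^ i.val)⁻¹ * (x * (B.w ^ i.val * B.a 0 * (B.w ^ i.val)⁻¹)) * B.w ^ i.val := by group
      _ = _ := by rw [hc]; group
  have := mul_mem (mul_mem (pow_mem B.w_N i.val) h) (inv_mem (pow_mem B.w_N i.val))
  rwa [show B.w ^ i.val * ((B.w ^ i.val)⁻¹ * x * B.w ^ i.val) * (B.w ^ i.val)⁻¹ = x by group] at this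

omit hcov in
theorem cent_all_nonzero (p : Fin 3 → ZMod 3) (hp : ∀ i, p i ≠ 0) :
    centralizer ({B.el p} : Set X) ≤ normalizer (B.J : Set X) := by
  obtain ⟨c, hc, hshape⟩ := all_nonzero_shape p hp
  obtain ⟨f, hf, hfp⟩ : ∃ f ∈ B.four, f * B.z1 ^ c.val * f⁻¹ = B.el p := by
    rcases hshape with rfl | ⟨m, rfl⟩
    · exact ⟨1, one_mem _, by rw [B.el_const]; group⟩
    · exact ⟨B.v m, Or.inr ⟨m, rfl⟩, by rw [← B.el_const, B.el_conj]⟩
  intro x hx
  have hc' : Commute (f⁻¹ * x * f) (B.z1 ^ c.val) := by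
    have h : x * B.el p = B.el p * x := mem_centralizer_singleton_iff.1 hx
    rw [← hfp] at h
    calc f⁻¹ * x * f * B.z1 ^ c.val = f⁻¹ * (x * (f * B.z1 ^ c.val * f⁻¹)) * f := by group
      _ = B.z1 ^ c.val * (f⁻¹ * x * f) := by rw [h]; group
  have h1 : f⁻¹ * x * f ∈ normalizer (B.J : Set X) := by
    refine B.cent_z (mem_centralizer_singleton_iff.2 ?_)
    have h := hc'.pow_right c.val
    rw [← pow_mul, pow_eq_pow_mod _ (B.J_exp _ B.z1_mem), zmod_sq_val c hc, pow_one] at h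
    exact h.eq
  have := mul_mem (mul_mem (B.four_norm hf) h1) (inv_mem (B.four_norm hf))
  rwa [show f * (f⁻¹ * x * f) * f⁻¹ = x by group] at this

theorem no_v_fusion {K : Subgroup X} (hK : K.Normal) (hJK : B.J ≤ K) (hw : B.w ∉ K) {i k : Fin 3} (hik : i ≠ k)
    {g : X} (hg : g ∈ K) (h : g * B.v i * g⁻¹ = B.v k) : False := by
  haveI := hK
  set x := (B.w ^ k.val)⁻¹ * g * B.w ^ i.val
  have hx : x * B.v 0 = B.v 0 * x := by
    refine mul_inv_eq_iff_eq_mul.1 ?_
    rw [show x * B.v 0 * x⁻¹ = (B.w ^ k.val)⁻¹ * (g * (B.w ^ i.val * B.v 0 * (B.w ^ i.val)⁻¹) * g⁻¹) *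
      (B.w ^ k.val) by simp only [x]; group, B.w_pow_v, zero_add, Fin.cast_val_eq_self, h]
    have hk := B.w_pow_v k.val 0
    rw [zero_add, Fin.cast_val_eq_self] at hk
    rw [← hk]; group
  set d := i.val + 2 * k.val
  have hd : d % 3 ≠ 0 := by
    have h1 := i.2
    have h2 := k.2
    have h3 : i.val ≠ k.val := fun e => hik (Fin.ext e)
    omega
  have hxd : (x : X ⧸ K) = ((B.w : X ⧸ K)) ^ d := by
    have e : ((B.w ^ k.val : X) : X ⧸ K)⁻¹ = (B.w : X ⧸ K) ^ (2 * k.val) := by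
      rw [← QuotientGroup.mk_inv, ← QuotientGroup.mk_pow]
      congr 1
      exact inv_eq_of_mul_eq_one_left (by
        rw [← pow_add, show 2 * k.val + k.val = 3 * k.val by ring, pow_mul, B.w_cube, one_pow])
    simp only [x, QuotientGroup.mk_mul, QuotientGroup.mk_inv, (QuotientGroup.eq_one_iff g).2 hg, mul_one, e,
      QuotientGroup.mk_pow]
    rw [← QuotientGroup.mk_pow K B.w k.val, e, ← pow_add, add_comm]
  obtain ⟨a, m, hm, he⟩ := Nat.exists_eq_pow_mul_and_not_dvd (orderOf_pos x).ne' 3 (by norm_num)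
  have hy3 : (x ^ m) ^ 3 ^ a = 1 := by rw [← pow_mul, mul_comm, ← he, pow_orderOf_eq_one]
  obtain ⟨c, -, hc⟩ := B.v0_three_conj hcov ((show Commute x (B.v 0) from hx).pow_left m).eq hy3
  have hyK : x ^ m ∈ K := by
    have h1 : c * x ^ m * c⁻¹ ∈ K := (zpowers_le.2 (hJK (B.a_J 0))) hc
    have := hK.conj_mem _ h1 c⁻¹
    rwa [show c⁻¹ * (c * x ^ m * c⁻¹) * c⁻¹⁻¹ = x ^ m by group] at this
  refine hw ((QuotientGroup.eq_one_iff B.w).1 ?_)
  have h1 : ((B.w : X ⧸ K)) ^ (d * m) = 1 := by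
    rw [pow_mul, ← hxd, ← QuotientGroup.mk_pow]
    exact (QuotientGroup.eq_one_iff _).2 hyK
  have h3 : ((B.w : X ⧸ K)) ^ 3 = 1 := by rw [← QuotientGroup.mk_pow, B.w_cube, QuotientGroup.mk_one]
  rw [pow_eq_pow_mod _ h3] at h1
  have hdm : (d * m) % 3 = 1 ∨ (d * m) % 3 = 2 := by
    have : ¬ 3 ∣ d * m := fun h => (Nat.Prime.dvd_mul Nat.prime_three).1 h |>.elim
      (fun h => hd (Nat.dvd_iff_mod_eq_zero.1 h)) hm
    omega
  rcases hdm with e | e <;> rw [e] at h1
  · simpa using h1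
  · rwa [pow_succ, h1, one_mul] at h3

/-- The normalizer of `J` is everything. -/
theorem top_of_kernel {K : Subgroup X} (hK : K.Normal) (hJV : B.JV ≤ K) (hw : B.w ∉ K)
    (hmeet : ∀ x ∈ K, x ∈ normalizer (B.J : Set X) → x ∈ B.JV) :
    normalizer (B.J : Set X) = ⊤ := by
  have hJK : B.J ≤ K := le_sup_right.trans hJV
  have hvK : ∀ i, B.v i ∈ K := fun i => hJV (mem_sup_left (Or.inr ⟨i, rfl⟩))
  have hNN : ∀ x : K, x ∈ normalizer ((B.J.subgroupOf K : Subgroup K) : Set K) → (x : X) ∈ normalizer (B.J : Set X) :=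
    fun x hx => norm_of_conj_le fun j hj =>
      mem_subgroupOf.1 ((Subgroup.mem_normalizer_iff.1 hx ⟨j, hJK hj⟩).1 (mem_subgroupOf.2 hj))
  have hback : ∀ x : K, (x : X) ∈ normalizer (B.J : Set X) → x ∈ normalizer ((B.J.subgroupOf K : Subgroup K) : Set K) :=
    fun x hx => norm_of_conj_le fun j hj => mem_subgroupOf.2 (by
      simpa using (Subgroup.mem_normalizer_iff.1 hx (j : X)).1 (mem_subgroupOf.1 hj))
  let A : Axes K :=
    { J := B.J.subgroupOf K
      J_comm := fun x hx y hy => Subtype.ext (B.J_comm _ (mem_subgroupOf.1 hx) _ (mem_subgroupOf.1 hy))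
      J_exp := fun x hx => Subtype.ext (by simpa using B.J_exp _ (mem_subgroupOf.1 hx))
      J_card := by rw [Nat.card_congr (subgroupOfEquivOfLe hJK).toEquiv]; exact B.J_card
      v := fun i => ⟨B.v i, hvK i⟩
      v_sq := fun i => Subtype.ext (B.v_sq i)
      v_mul := fun i => Subtype.ext (B.v_mul i)
      v_N := fun i => hback _ (B.v_N i)
      a := fun i => ⟨B.a i, hJK (B.a_J i)⟩
      a_J := fun i => mem_subgroupOf.2 (B.a_J i)
      a_ne := fun i e => B.a_ne i (congrArg Subtype.val e)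
      v_a := fun i => Subtype.ext (B.v_a i)
      v_inv := fun i k h => Subtype.ext (B.v_inv i k h)
      N_mem := fun x hx => by
        obtain ⟨j, hj, f, hf, e⟩ := B.mem_JV.1 (hmeet x x.2 (hNN x hx))
        rcases hf with rfl | ⟨m, rfl⟩
        · exact Or.inl (mem_subgroupOf.2 (by rw [e, mul_one]; exact hj))
        · exact Or.inr ⟨m, mem_subgroupOf.2 (by
            show (x : X) * B.v m ∈ B.J
            rw [e, mul_assoc, B.v_sq, mul_one]; exact hj)⟩
      cent_a := fun i x hx => hback x (B.cent_axis i (mem_centralizer_singleton_iff.2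
        (congrArg Subtype.val (mem_centralizer_singleton_iff.1 hx))))
      cent_r := fun p hp x hx => hback x (B.cent_all_nonzero p hp (mem_centralizer_singleton_iff.2 (by
        have h := congrArg Subtype.val (mem_centralizer_singleton_iff.1 hx)
        simpa [axEl, Coord.el] using h)))
      non_conj := fun i k hik g e => B.no_v_fusion hcov hK hJK hw hik g.2 (congrArg Subtype.val e) }
  haveI := Fintype.ofFinite K
  have hn : (B.J.subgroupOf K).Normal := A.normal
  have hJn : K ≤ normalizer (B.J : Set X) := fun x hx =>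
    hNN ⟨x, hx⟩ ((Subgroup.normalizer_eq_top_iff.2 hn).ge (mem_top _))
  rw [eq_top_iff]
  intro g _
  haveI : Fact (Nat.Prime 3) := ⟨Nat.prime_three⟩
  have e := B.J_unique_N hcov (A := B.J.map (MulAut.conj g).toMonoidHom) (by
      rintro _ ⟨j, hj, rfl⟩
      exact hJn (hK.conj_mem j (hJK hj) g)) (by
      rintro _ ⟨a, ha, rfl⟩ _ ⟨b, hb, rfl⟩
      rw [← map_mul, ← map_mul, B.J_comm a ha b hb])
    ((IsPGroup.of_card (n := 3) (by rw [B.J_card]; norm_num) : IsPGroup 3 B.J).map _)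
    (by rw [card_map_of_injective (MulEquiv.injective _), B.J_card])
  exact norm_of_conj_le fun j hj => e ▸ mem_map_of_mem _ hj

end Bar

end CfsgLib.McLThree.Weak
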