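import Cfsg.Agent.Lib.McLThree.Weak.Bar

/-!
The normalizer of `J`: the involution inverting the element permuting the axes.
-/

set_option autoImplicit false

namespace CfsgLib.McLThree.Weak

open Subgroup Fin.NatCast

universe u

/-- An involution inverting `w` and the product of the axes. -/
structure Flip {X : Type u} [Group X] (B : Bar X) where
  /-- the element -/
  r : X
  /-- normalises `J` -/
  r_N : r ∈ normalizer (B.J : Set X)
  /-- an involution -/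
  r_sq : r * r = 1
  /-- inverts `w` -/
  r_w : r * B.w * r⁻¹ = B.w⁻¹
  /-- inverts the product -/
  r_z : r * axEl B.a (fun _ => 1) * r⁻¹ = (axEl B.a (fun _ => 1))⁻¹
  /-- inverts the first axis -/
  r_a0 : r * B.a 0 * r⁻¹ = (B.a 0)⁻¹
  /-- exchanges the other two -/
  r_a1 : r * B.a 1 * r⁻¹ = B.a 2 ∨ r * B.a 1 * r⁻¹ = (B.a 2)⁻¹

theorem zmod_one_or : ∀ r : ZMod 3, r = 0 ∨ r = 1 ∨ r = 2 := by decide

theorem fin3_other : ∀ i k : Fin 3, k ≠ i → (k = i + 1 ∨ k = i + 2) := by decide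

namespace Bar

variable {X : Type u} [Group X] [Finite X] (B : Bar X)

include B

theorem cent_J_w {x : X} (hx : x ∈ B.J) (h : B.w * x = x * B.w) : ∃ m : ZMod 3, x = B.z1 ^ m.val := by
  obtain ⟨p, rfl⟩ := B.el_surj hx
  have h1 := B.el_w p
  rw [h, mul_inv_cancel_right] at h1
  have h2 := B.el_inj h1
  refine ⟨p 0, ?_⟩
  rw [← B.el_const]
  congr 1
  funext i
  have e0 := congrFun h2 0
  have e1 := congrFun h2 1
  simp only [show (0 : Fin 3) + 2 = 2 from rfl, show (1 : Fin 3) + 2 = 0 from rfl] at e0 e1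
  rcases fin3_all i with rfl | rfl | rfl
  · rfl
  · exact e1
  · exact e0.symm

/-- Elements of order three in the coset of `w` are conjugate to it under `J`. -/
theorem conj_w {x : X} (hx : x ^ 3 = 1) (hJ : x * B.w⁻¹ ∈ B.J) : ∃ j ∈ B.J, j * B.w * j⁻¹ = x := by
  obtain ⟨p, hp⟩ := B.el_surj hJ
  have e : x = B.el p * B.w := by rw [hp, inv_mul_cancel_right]
  have h3 : x ^ 3 = B.el (p + (fun i => p (i + 2)) + fun i => p (i + 2 + 2)) := by
    rw [B.el_add, B.el_add]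
    have e2 : B.el (fun i => p (i + 2 + 2)) = B.w * B.el (fun i => p (i + 2)) * B.w⁻¹ := (B.el_w fun i => p (i + 2)).symm
    rw [e2, ← B.el_w p, e, pow_succ, pow_two]
    calc B.el p * B.w * (B.el p * B.w) * (B.el p * B.w)
        = B.el p * (B.w * B.el p * B.w⁻¹) * (B.w * (B.w * B.el p * B.w⁻¹) * B.w⁻¹) * B.w ^ 3 := by
          rw [pow_succ, pow_two]; group
      _ = _ := by rw [B.w_cube, mul_one]
  rw [hx] at h3
  have hs := congrFun (B.el_kernel h3.symm) 0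
  simp only [Pi.add_apply, Pi.zero_apply, show (0 : Fin 3) + 2 = 2 from rfl, show (2 : Fin 3) + 2 = 1 from rfl] at hs
  set q : Fin 3 → ZMod 3 := fun i => if i = 0 then 0 else if i = 1 then p 1 else p 1 + p 2
  refine ⟨B.el q, B.el_mem q, ?_⟩
  have hq : q + -(fun i => q (i + 2)) = p := by
    funext i
    simp only [Pi.add_apply, Pi.neg_apply]
    rcases fin3_all i with rfl | rfl | rfl
    · show q 0 + -q 2 = p 0
      simp [q]
      linear_combination -hs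
    · show q 1 + -q 0 = p 1
      simp [q]
    · show q 2 + -q 1 = p 2
      simp [q]
  rw [e, ← hq, B.el_add, B.el_neg, ← B.el_w]
  group

theorem turn_a (R : Turn B) (i : Fin 3) (hi : i = 1 ∨ i = 2) :
    R.r * B.a i * R.r⁻¹ = B.a (i + i) ∨ R.r * B.a i * R.r⁻¹ = (B.a (i + i))⁻¹ := by
  set s : X := B.v (i + i) with hs
  -- the conjugate is fixed by the involution of the other axis
  obtain ⟨j, hj, hjs⟩ : ∃ j ∈ B.J, R.r * B.v i * R.r⁻¹ = j * s := by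
    have h1 : R.r * B.v 1 * R.r⁻¹ = R.r * B.v 1 * R.r⁻¹ * B.v 2 * B.v 2 := by rw [mul_assoc _ (B.v 2), B.v_sq, mul_one]
    rcases hi with rfl | rfl
    · exact ⟨_, R.r_v1, h1⟩
    · refine ⟨B.v 0 * (R.r * B.v 1 * R.r⁻¹ * B.v 2) * (B.v 0)⁻¹,
        (Subgroup.mem_normalizer_iff.1 (B.v_N 0) _).1 R.r_v1, ?_⟩
      rw [show B.v 2 = B.v 0 * B.v 1 from (B.v_mul 0).symm, ← conj_mul, R.r_v0]
      rw [hs, show (2 : Fin 3) + 2 = 1 from rfl, B.v_inv_eq]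
      have hv21 : B.v 2 * B.v 0 * B.v 1 = 1 := by
        rw [show B.v 2 * B.v 0 = B.v 1 from B.v_mul 2, B.v_sq]
      calc B.v 0 * (R.r * B.v 1 * R.r⁻¹) = B.v 0 * (R.r * B.v 1 * R.r⁻¹) * (B.v 2 * B.v 0 * B.v 1) := by
            rw [hv21, mul_one]
        _ = _ := by rw [show B.v 0 * B.v 1 = B.v 2 from B.v_mul 0]; group
  obtain ⟨p, hp⟩ := B.el_surj (Subgroup.mem_normalizer_iff.1 R.r_N _ |>.1 (B.a_J i))
  have hfix : s * B.el p * s⁻¹ = B.el p := by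
    have hc : j * s * B.el p * (j * s)⁻¹ = B.el p := by
      rw [← hjs, hp]
      calc R.r * B.v i * R.r⁻¹ * (R.r * B.a i * R.r⁻¹) * (R.r * B.v i * R.r⁻¹)⁻¹
          = R.r * (B.v i * B.a i * (B.v i)⁻¹) * R.r⁻¹ := by group
        _ = _ := by rw [B.v_a, mul_inv_cancel_right]
    have hm : s * B.el p * s⁻¹ ∈ B.J := (Subgroup.mem_normalizer_iff.1 (B.v_N (i + i)) _).1 (B.el_mem p)
    conv_rhs => rw [← hc]
    calc s * B.el p * s⁻¹ = s * B.el p * s⁻¹ * j * j⁻¹ := by group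
      _ = j * (s * B.el p * s⁻¹) * j⁻¹ := by rw [B.J_comm _ hm _ hj]
      _ = j * s * B.el p * (j * s)⁻¹ := by group
  rw [hs, B.el_conj] at hfix
  have hf := B.el_inj hfix
  have hz : ∀ k, k ≠ i + i → p k = 0 := fun k hk => by
    have h' := congrFun hf k
    simp only [flip3, if_neg hk] at h'
    have key : ∀ z : ZMod 3, -z = z → z = 0 := by decide
    exact key _ h'
  have hsingle : p = Pi.single (i + i) (p (i + i)) := by
    funext k
    rcases eq_or_ne k (i + i) with rfl | hk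
    · simp
    · rw [Pi.single_eq_of_ne hk, hz k hk]
  rw [← hp, hsingle, B.el_axis]
  rcases zmod_one_or (p (i + i)) with e | e | e
  · exfalso
    have h1 : R.r * B.a i * R.r⁻¹ = 1 := by rw [← hp, hsingle, e, Pi.single_zero, B.el_zero]
    exact B.a_ne i (conj_eq_one_iff.1 h1)
  · exact Or.inl (by rw [e]; exact pow_one _)
  · refine Or.inr ?_
    rw [e]
    exact eq_inv_of_mul_eq_one_left (by
      rw [show ((2 : ZMod 3).val) = 2 from rfl, ← pow_succ]; exact B.J_exp _ (B.a_J _))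

/-- Elements exchanging the last two axes and fixing the first do not lie in `H1`. -/
theorem odd_not_H1 {x : X} (h0 : x * B.a 0 * x⁻¹ = B.a 0 ∨ x * B.a 0 * x⁻¹ = (B.a 0)⁻¹)
    (h1 : x * B.a 1 * x⁻¹ = B.a 2 ∨ x * B.a 1 * x⁻¹ = (B.a 2)⁻¹) : x ∉ B.H1 := by
  intro hx
  obtain ⟨j, hj, f, hf, k, -, rfl⟩ := B.mem_H1.1 hx
  have hh : ∀ i t : Fin 3, (j * f * B.w ^ k * B.a i * (j * f * B.w ^ k)⁻¹ = B.a t ∨
      j * f * B.w ^ k * B.a i * (j * f * B.w ^ k)⁻¹ = (B.a t)⁻¹) → i + (k : Fin 3) = t := by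
    intro i t h
    rcases B.H1_axis hj hf k i with e | e <;> rw [e] at h
    · exact B.a_sep h
    · refine B.a_sep (h.elim (fun e' => Or.inr ?_) fun e' => Or.inl (inv_injective e'))
      rw [← e', inv_inv]
  have e0 := hh 0 0 h0
  have e1 := hh 1 2 h1
  rw [zero_add] at e0
  rw [e0, add_zero] at e1
  exact absurd e1 (by decide)

theorem axis_pow {x : X} {i t : Fin 3} (h : x * B.a i * x⁻¹ = B.a t ∨ x * B.a i * x⁻¹ = (B.a t)⁻¹) :
    x * (B.a i)⁻¹ * x⁻¹ = B.a t ∨ x * (B.a i)⁻¹ * x⁻¹ = (B.a t)⁻¹ := by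
  rw [← conj_inv]
  rcases h with e | e <;> rw [e]
  · exact Or.inr rfl
  · exact Or.inl (inv_inv _)

theorem axis_comp {x y : X} {i t s : Fin 3} (h : y * B.a i * y⁻¹ = B.a t ∨ y * B.a i * y⁻¹ = (B.a t)⁻¹)
    (h' : x * B.a t * x⁻¹ = B.a s ∨ x * B.a t * x⁻¹ = (B.a s)⁻¹) :
    x * y * B.a i * (x * y)⁻¹ = B.a s ∨ x * y * B.a i * (x * y)⁻¹ = (B.a s)⁻¹ := by
  rw [show x * y * B.a i * (x * y)⁻¹ = x * (y * B.a i * y⁻¹) * x⁻¹ by group]
  rcases h with e | e <;> rw [e]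
  · exact h'
  · exact B.axis_pow h'

theorem axis_inv {x : X} {i t : Fin 3} (h : x * B.a i * x⁻¹ = B.a t ∨ x * B.a i * x⁻¹ = (B.a t)⁻¹) :
    x⁻¹ * B.a t * x⁻¹⁻¹ = B.a i ∨ x⁻¹ * B.a t * x⁻¹⁻¹ = (B.a i)⁻¹ := by
  rcases h with e | e
  · exact Or.inl (by rw [← e]; group)
  · refine Or.inr ?_
    rw [show B.a t = (x * B.a i * x⁻¹)⁻¹ by rw [e, inv_inv]]
    group

/-- A turn gives a flip. -/
theorem exists_flip (cover : ∀ x ∈ normalizer (B.J : Set X), x ∈ B.H1 ∨ ∃ R : Turn B, x * R.r ∈ B.H1)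
    (R : Turn B) : Nonempty (Flip B) := by
  have hr0 : R.r * B.a 0 * R.r⁻¹ = B.a 0 ∨ R.r * B.a 0 * R.r⁻¹ = (B.a 0)⁻¹ := Or.inr R.r_a
  have hr1 := B.turn_a R 1 (Or.inl rfl)
  have hr2 := B.turn_a R 2 (Or.inr rfl)
  rw [show (1 : Fin 3) + 1 = 2 from rfl] at hr1
  rw [show (2 : Fin 3) + 2 = 1 from rfl] at hr2
  set y := R.r * B.w * R.r⁻¹ with hy
  have hwi : ∀ i : Fin 3, B.w * B.a i * B.w⁻¹ = B.a (i + 1) ∨ B.w * B.a i * B.w⁻¹ = (B.a (i + 1))⁻¹ :=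
    fun i => Or.inl (B.w_a i)
  have hy0 : y * B.a 0 * y⁻¹ = B.a 2 ∨ y * B.a 0 * y⁻¹ = (B.a 2)⁻¹ :=
    B.axis_comp (B.axis_inv hr0) (B.axis_comp (hwi 0) hr1)
  have hy1 : y * B.a 1 * y⁻¹ = B.a 0 ∨ y * B.a 1 * y⁻¹ = (B.a 0)⁻¹ :=
    B.axis_comp (B.axis_inv hr2) (B.axis_comp (hwi 2) hr0)
  have hyN : y ∈ normalizer (B.J : Set X) := mul_mem (mul_mem R.r_N B.w_N) (inv_mem R.r_N)
  have hyH : y ∈ B.H1 := by
    refine (cover y hyN).resolve_right ?_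
    rintro ⟨S, hS⟩
    have hs2 := B.turn_a S 2 (Or.inr rfl)
    rw [show (2 : Fin 3) + 2 = 1 from rfl] at hs2
    obtain ⟨j, hj, f, hf, k, -, e⟩ := B.mem_H1.1 hS
    have hh : ∀ i t : Fin 3, (y * S.r * B.a i * (y * S.r)⁻¹ = B.a t ∨ y * S.r * B.a i * (y * S.r)⁻¹ = (B.a t)⁻¹) →
        i + (k : Fin 3) = t := by
      intro i t h
      rw [e] at h
      rcases B.H1_axis hj hf k i with e' | e' <;> rw [e'] at h
      · exact B.a_sep h
      · refine B.a_sep (h.elim (fun e'' => Or.inr ?_) fun e'' => Or.inl (inv_injective e''))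
        rw [← e'', inv_inv]
    have e0 := hh 0 2 (B.axis_comp (Or.inr S.r_a) hy0)
    have e1 := hh 2 0 (B.axis_comp hs2 hy1)
    rw [zero_add] at e0
    rw [e0] at e1
    exact absurd e1 (by decide)
  obtain ⟨j, hj, f, hf, k, hk, e⟩ := B.mem_H1.1 hyH
  have hk2 : k = 2 := by
    have h := B.H1_axis hj hf k 0
    rw [← e, zero_add] at h
    have : (k : Fin 3) = 2 := by
      rcases h with e1 | e1 <;> rcases hy0 with e2 | e2 <;> rw [e1] at e2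
      · exact B.a_sep (Or.inl e2)
      · exact B.a_sep (Or.inr e2)
      · exact B.a_sep (Or.inr (by rw [← e2, inv_inv]))
      · exact B.a_sep (Or.inl (inv_injective e2))
    interval_cases k
    · exact absurd this (by decide)
    · exact absurd this (by decide)
    · rfl
  subst hk2
  obtain ⟨f1, hf1, hff⟩ : ∃ f1 ∈ B.four, f1 * f * (B.w ^ 2 * f1 * (B.w ^ 2)⁻¹) = 1 := by
    rcases hf with rfl | ⟨k, rfl⟩
    · exact ⟨1, one_mem _, by group⟩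
    refine ⟨B.v (k + 2), Or.inr ⟨_, rfl⟩, ?_⟩
    rw [B.w_pow_v, mul_assoc, show k + 2 + ((2 : ℕ) : Fin 3) = k + 1 by rw [add_assoc]; rfl, B.v_mul k, B.v_sq]
  set r1 := f1 * R.r with hr1def
  have hr1N : r1 ∈ normalizer (B.J : Set X) := mul_mem (B.four_norm hf1) R.r_N
  have hw2 : r1 * B.w * r1⁻¹ * B.w ∈ B.J := by
    have e1 : r1 * B.w * r1⁻¹ = f1 * j * f1⁻¹ * (f1 * f * (B.w ^ 2 * f1⁻¹ * (B.w ^ 2)⁻¹)) * B.w ^ 2 := by
      rw [hr1def, show f1 * R.r * B.w * (f1 * R.r)⁻¹ = f1 * y * f1⁻¹ by rw [hy]; group, e]; group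
    rw [show f1⁻¹ = f1 from inv_eq_of_mul_eq_one_right (B.four_sq hf1)] at e1
    rw [e1, hff, mul_one, mul_assoc, ← pow_succ, B.w_cube, mul_one]
    have := (Subgroup.mem_normalizer_iff.1 (B.four_norm hf1) j).1 hj
    rwa [show f1⁻¹ = f1 from inv_eq_of_mul_eq_one_right (B.four_sq hf1)] at this
  have hsqJV : r1 * r1 ∈ B.JV := by
    have h1 : R.r * f1 * R.r⁻¹ ∈ B.JV := by
      rcases hf1 with rfl | ⟨m, rfl⟩
      · rw [mul_one, mul_inv_cancel]; exact one_mem _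
      have hv1 : R.r * B.v 1 * R.r⁻¹ ∈ B.JV := B.mem_JV.2 ⟨_, R.r_v1, B.v 2, Or.inr ⟨2, rfl⟩, by
        rw [mul_assoc _ (B.v 2), B.v_sq, mul_one]⟩
      have hv0 : R.r * B.v 0 * R.r⁻¹ ∈ B.JV := by rw [R.r_v0]; exact mem_sup_left (Or.inr ⟨0, rfl⟩)
      rcases fin3_all m with rfl | rfl | rfl
      · exact hv0
      · exact hv1
      · rw [show B.v 2 = B.v 0 * B.v 1 from (B.v_mul 0).symm, ← conj_mul]
        exact mul_mem hv0 hv1
    rw [hr1def, show f1 * R.r * (f1 * R.r) = f1 * (R.r * f1 * R.r⁻¹) * (R.r * R.r) by group]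
    exact mul_mem (mul_mem (mem_sup_left hf1) h1) (mem_sup_right R.r_sq)
  have hsqJ : r1 * r1 ∈ B.J := by
    obtain ⟨j', hj', f', hf', e'⟩ := B.mem_JV.1 hsqJV
    have hcw : r1 * r1 * B.w * (r1 * r1)⁻¹ * B.w⁻¹ ∈ B.J := by
      set c := r1 * B.w * r1⁻¹ * B.w
      have hc1 : r1 * B.w * r1⁻¹ = c * B.w⁻¹ := by simp [c]
      rw [show r1 * r1 * B.w * (r1 * r1)⁻¹ * B.w⁻¹ = r1 * (r1 * B.w * r1⁻¹) * r1⁻¹ * B.w⁻¹ by group, hc1,
        show r1 * (c * B.w⁻¹) * r1⁻¹ * B.w⁻¹ = r1 * c * r1⁻¹ * (r1 * B.w * r1⁻¹)⁻¹ * B.w⁻¹ by group,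
        mul_assoc, ← mul_inv_rev, hc1, ← mul_assoc B.w]
      exact mul_mem ((Subgroup.mem_normalizer_iff.1 hr1N c).1 hw2) (inv_mem
        ((Subgroup.mem_normalizer_iff.1 B.w_N c).1 hw2))
    have hf1' : f' = 1 := by
      refine B.four_comm_w hf' (k := 1) (Or.inl rfl) ?_
      rw [pow_one]
      rw [e'] at hcw
      have h2 := mul_mem (mul_mem (inv_mem hj') hcw) ((Subgroup.mem_normalizer_iff.1 B.w_N j').1 hj')
      rwa [show j'⁻¹ * (j' * f' * B.w * (j' * f')⁻¹ * B.w⁻¹) * (B.w * j' * B.w⁻¹) = f' * B.w * f'⁻¹ * B.w⁻¹ by group] at h2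
    rw [e', hf1', mul_one]
    exact hj'
  have hf1a : f1 * B.a 0 * f1⁻¹ = B.a 0 := by
    rcases hf1 with rfl | ⟨m, rfl⟩
    · group
    have hkey : ∀ m : Fin 3, m ≠ 0 → B.v m * (R.r * B.v m * R.r⁻¹) * (R.r * R.r) ∈ B.J → False := by
      intro m hm h
      have h' : B.v m * (R.r * B.v m * R.r⁻¹) ∈ B.J := by
        have := mul_mem h (inv_mem R.r_sq)
        rwa [mul_inv_cancel_right] at this
      set c := R.r * B.v 1 * R.r⁻¹ * B.v 2
      have h1 : R.r * B.v 1 * R.r⁻¹ = c * B.v 2 := by simp [c, mul_assoc, B.v_sq]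
      rcases fin3_all m with rfl | rfl | rfl
      · exact hm rfl
      · rw [h1, show B.v 1 * (c * B.v 2) = B.v 1 * c * (B.v 1)⁻¹ * (B.v 1 * B.v 2) by group,
          show B.v 1 * B.v 2 = B.v 0 from B.v_mul 1] at h'
        exact B.v_not_J 0 ((B.J.mul_mem_cancel_left ((Subgroup.mem_normalizer_iff.1 (B.v_N 1) c).1 R.r_v1)).1 h')
      · rw [show R.r * B.v 2 * R.r⁻¹ = R.r * B.v 0 * R.r⁻¹ * (R.r * B.v 1 * R.r⁻¹) by
          rw [← show B.v 0 * B.v 1 = B.v 2 from B.v_mul 0, conj_mul], R.r_v0, h1, ← mul_assoc,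
          show B.v 2 * B.v 0 = B.v 1 from B.v_mul 2,
          show B.v 1 * (c * B.v 2) = B.v 1 * c * (B.v 1)⁻¹ * (B.v 1 * B.v 2) by group,
          show B.v 1 * B.v 2 = B.v 0 from B.v_mul 1] at h'
        exact B.v_not_J 0 ((B.J.mul_mem_cancel_left ((Subgroup.mem_normalizer_iff.1 (B.v_N 1) c).1 R.r_v1)).1 h')
    rcases eq_or_ne m 0 with rfl | hm
    · rw [B.v_a, mul_inv_cancel_right]
    · refine (hkey m hm ?_).elim
      rwa [hr1def, show B.v m * R.r * (B.v m * R.r) = B.v m * (R.r * B.v m * R.r⁻¹) * (R.r * R.r) by group] at hsqJ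
  obtain ⟨j0, hj0, ej0⟩ := B.conj_w (x := (r1 * B.w * r1⁻¹)⁻¹)
    (by rw [inv_pow, conj_pow, B.w_cube, mul_one, mul_inv_cancel, inv_one])
    (by
      rw [show (r1 * B.w * r1⁻¹)⁻¹ * B.w⁻¹ = (B.w * (r1 * B.w * r1⁻¹ * B.w) * B.w⁻¹)⁻¹ by group]
      exact inv_mem ((Subgroup.mem_normalizer_iff.1 B.w_N _).1 hw2))
  set r2 := j0⁻¹ * r1
  have hr2N : r2 ∈ normalizer (B.J : Set X) := mul_mem (inv_mem (le_normalizer hj0)) hr1N
  have hr2w : r2 * B.w * r2⁻¹ = B.w⁻¹ := by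
    rw [show r2 * B.w * r2⁻¹ = j0⁻¹ * ((r1 * B.w * r1⁻¹)⁻¹)⁻¹ * j0 by simp only [r2]; group, ← ej0]
    group
  have hax : ∀ i t : Fin 3, (R.r * B.a i * R.r⁻¹ = B.a t ∨ R.r * B.a i * R.r⁻¹ = (B.a t)⁻¹) →
      (r2 * B.a i * r2⁻¹ = B.a t ∨ r2 * B.a i * r2⁻¹ = (B.a t)⁻¹) := by
    intro i t h
    refine B.axis_comp (y := r1) (t := t) (B.axis_comp h (B.four_a hf1 t)) ?_
    exact Or.inl (by rw [B.J_comm _ (inv_mem hj0) _ (B.a_J t), mul_inv_cancel_right])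
  have hr2a0 : r2 * B.a 0 * r2⁻¹ = (B.a 0)⁻¹ := by
    rw [show r2 * B.a 0 * r2⁻¹ = j0⁻¹ * (f1 * (R.r * B.a 0 * R.r⁻¹) * f1⁻¹) * j0⁻¹⁻¹ by
      simp only [r2, r1]; group, R.r_a, ← conj_inv, hf1a, B.J_comm _ (inv_mem hj0) _ (inv_mem (B.a_J 0)),
      mul_inv_cancel_right]
  have hz : r2 * B.z1 * r2⁻¹ = B.z1⁻¹ := by
    have hc : B.w * (r2 * B.z1 * r2⁻¹) = r2 * B.z1 * r2⁻¹ * B.w := by
      have h1 : Commute (r2 * B.w * r2⁻¹) (r2 * B.z1 * r2⁻¹) := by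
        show _ = _
        rw [conj_mul, conj_mul, B.z1_w]
      rw [hr2w] at h1
      have h2 := h1.inv_left
      rw [inv_inv] at h2
      exact h2.eq
    obtain ⟨m, hm⟩ := B.cent_J_w ((Subgroup.mem_normalizer_iff.1 hr2N _).1 B.z1_mem) hc
    -- compare the first coordinates
    obtain ⟨t1, ht1⟩ : ∃ t : ZMod 3, r2 * B.a 1 * r2⁻¹ = B.a 2 ^ t.val := by
      rcases hax 1 2 hr1 with e | e
      · exact ⟨1, by rw [e]; simp [ZMod.val_one]⟩
      · refine ⟨2, ?_⟩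
        rw [e]
        exact (eq_inv_of_mul_eq_one_left (by
          rw [show ((2 : ZMod 3).val) = 2 from rfl, ← pow_succ]; exact B.J_exp _ (B.a_J _))).symm
    obtain ⟨t2, ht2⟩ : ∃ t : ZMod 3, r2 * B.a 2 * r2⁻¹ = B.a 1 ^ t.val := by
      rcases hax 2 1 hr2 with e | e
      · exact ⟨1, by rw [e]; simp [ZMod.val_one]⟩
      · refine ⟨2, ?_⟩
        rw [e]
        exact (eq_inv_of_mul_eq_one_left (by
          rw [show ((2 : ZMod 3).val) = 2 from rfl, ← pow_succ]; exact B.J_exp _ (B.a_J _))).symm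
    have himg : r2 * B.z1 * r2⁻¹ = B.el (fun i => if i = 0 then -1 else if i = 1 then t2 else t1) := by
      have ez : B.z1 = B.a 0 * B.a 1 * B.a 2 := by simp [z1, Coord.el, axEl, ZMod.val_one]
      have e0 : (B.a 0)⁻¹ = B.a 0 ^ (-1 : ZMod 3).val := inv_eq_of_mul_eq_one_right (by
        rw [show ((-1 : ZMod 3).val) = 2 from rfl, ← pow_succ']; exact B.J_exp _ (B.a_J 0))
      rw [ez, show r2 * (B.a 0 * B.a 1 * B.a 2) * r2⁻¹ =
        r2 * B.a 0 * r2⁻¹ * (r2 * B.a 1 * r2⁻¹) * (r2 * B.a 2 * r2⁻¹) by group, hr2a0, ht1, ht2, e0]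
      show _ = B.a 0 ^ _ * B.a 1 ^ _ * B.a 2 ^ _
      simp only [show (1 : Fin 3) ≠ 0 from by decide, show (2 : Fin 3) ≠ 0 from by decide,
        show (2 : Fin 3) ≠ 1 from by decide, if_true, if_false]
      rw [mul_assoc, B.J_comm _ (pow_mem (B.a_J 2) _) _ (pow_mem (B.a_J 1) _), ← mul_assoc]
    rw [hm, ← B.el_const] at himg
    have h0 := congrFun (B.el_inj himg) 0
    simp only [if_true] at h0
    rw [hm, h0, ← B.el_const, show (fun _ : Fin 3 => (-1 : ZMod 3)) = -(fun _ : Fin 3 => (1 : ZMod 3)) from rfl,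
      B.el_neg]
  have hsq2 : r2 * r2 = 1 := by
    have hJ2 : r2 * r2 ∈ B.J := by
      rw [show r2 * r2 = j0⁻¹ * (r1 * j0⁻¹ * r1⁻¹) * (r1 * r1) by simp only [r2]; group]
      exact mul_mem (mul_mem (inv_mem hj0) ((Subgroup.mem_normalizer_iff.1 hr1N _).1 (inv_mem hj0))) hsqJ
    have hcw : B.w * (r2 * r2) = r2 * r2 * B.w := by
      have h1 : r2 * r2 * B.w * (r2 * r2)⁻¹ = B.w := by
        rw [show r2 * r2 * B.w * (r2 * r2)⁻¹ = r2 * (r2 * B.w * r2⁻¹) * r2⁻¹ by group, hr2w, ← conj_inv, hr2w, inv_inv]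
      exact (mul_inv_eq_iff_eq_mul.1 h1).symm
    obtain ⟨m, hm⟩ := B.cent_J_w hJ2 hcw
    have h1 : r2 * (r2 * r2) * r2⁻¹ = r2 * r2 := by group
    rw [hm, ← conj_pow, hz, inv_pow] at h1
    have h2 : B.z1 ^ m.val * B.z1 ^ m.val = 1 := by nth_rw 1 [← h1]; exact inv_mul_cancel _
    have h3 : (B.z1 ^ m.val) ^ 3 = 1 := B.J_exp _ (pow_mem B.z1_mem _)
    rw [pow_succ, pow_two, h2, one_mul] at h3
    rw [hm, h3]
  exact ⟨⟨r2, hr2N, hsq2, hr2w, hz, hr2a0, hax 1 2 hr1⟩⟩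

end Bar

end CfsgLib.McLThree.Weak
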