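import Cfsg.Agent.Lib.McLThree.ND

/-!
Elements commuting with `t` and the diagonal element and normalising `J`.
-/

set_option autoImplicit false

namespace CfsgLib.McLThree

open Subgroup

universe u

namespace Full

variable {G : Type u} [Group G] {D : Setting G} (U : Full D)

include U

theorem cent_yp_t_of_norm [Finite G] {x : G} (hJ : x ∈ normalizer (D.J : Set G))
    (hx : x * U.yp = U.yp * x) (ht : x * U.F.t = U.F.t * x) :
    x ∈ U.CD ∨ (U.g : G)⁻¹ * x ∈ U.CD := by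
  have hxN : x ∈ U.ND := U.J_ND hJ ht
  obtain ⟨a, b, c, d, hd, e⟩ := U.ND_split hxN
  obtain ⟨hdz, hdy, -⟩ := U.mem_CD.1 hd
  have hkz : ∀ c : Fin 2, U.k' ^ c.val * D.z * (U.k' ^ c.val)⁻¹ = D.z ^ (if c = 0 then 1 else 2) := by
    intro c; fin_cases c
    · simp
    · simp only [pow_one, Fin.reduceEq, if_false, U.k'_z]
      exact inv_eq_of_mul_eq_one_left (by rw [← pow_succ]; exact D.z_cube)
  have hky : ∀ b : Fin 2, U.F.k ^ b.val * U.F.y * (U.F.k ^ b.val)⁻¹ = U.F.y ^ (if b = 0 then 1 else 2) := by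
    intro b; fin_cases b
    · simp
    · simp only [pow_one, Fin.reduceEq, if_false, U.F.k_y]
      exact inv_eq_of_mul_eq_one_left (by rw [← pow_succ]; exact U.F.y_cube)
  set i := (if c = 0 then 1 else 2 : ℕ)
  set j := (if b = 0 then 1 else 2 : ℕ)
  have h1 : (U.g : G) ^ a.val * (D.z ^ i * U.F.y ^ j) * ((U.g : G) ^ a.val)⁻¹ = U.yp := by
    rw [← mul_inv_eq_iff_eq_mul.2 hx, e]
    have hbz : Commute (U.F.k ^ b.val) D.z := (show Commute U.F.k D.z from U.F.k_z).pow_left _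
    have hcy : Commute (U.k' ^ c.val) U.F.y :=
      (show Commute U.k' U.F.y from mul_inv_eq_iff_eq_mul.1 U.k'_y).pow_left _
    have e1 : D.z ^ i = U.F.k ^ b.val * (U.k' ^ c.val * D.z * (U.k' ^ c.val)⁻¹) * (U.F.k ^ b.val)⁻¹ := by
      rw [hkz, (hbz.pow_right _).eq, mul_inv_cancel_right]
    have e2 : U.F.y ^ j = U.F.k ^ b.val * (U.k' ^ c.val * U.F.y * (U.k' ^ c.val)⁻¹) * (U.F.k ^ b.val)⁻¹ := by
      rw [hcy.eq, mul_inv_cancel_right, hky]
    have e3 : d * U.yp * d⁻¹ = U.yp := by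
      rw [((show Commute d D.z from hdz).mul_right (show Commute d U.F.y from hdy)).eq, mul_inv_cancel_right]
    rw [e1, e2]
    conv_rhs =>
      rw [show (U.g : G) ^ a.val * U.F.k ^ b.val * U.k' ^ c.val * d * U.yp *
        ((U.g : G) ^ a.val * U.F.k ^ b.val * U.k' ^ c.val * d)⁻¹ = (U.g : G) ^ a.val * (U.F.k ^ b.val *
          (U.k' ^ c.val * (d * U.yp * d⁻¹) * (U.k' ^ c.val)⁻¹) * (U.F.k ^ b.val)⁻¹) * ((U.g : G) ^ a.val)⁻¹ by group,
        e3]
    group
  have h2 : D.z ^ i * U.F.y ^ j = D.z ^ 1 * U.F.y ^ 1 := by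
    rw [pow_one, pow_one]
    have hg : Commute ((U.g : G) ^ a.val) U.yp := (show Commute (U.g : G) U.yp from U.g_yp).pow_left _
    calc D.z ^ i * U.F.y ^ j = ((U.g : G) ^ a.val)⁻¹ *
          ((U.g : G) ^ a.val * (D.z ^ i * U.F.y ^ j) * ((U.g : G) ^ a.val)⁻¹) * (U.g : G) ^ a.val := by group
      _ = U.yp := by rw [h1, mul_assoc, ← hg.eq, inv_mul_cancel_left]
  obtain ⟨hi, hj⟩ := U.coord_inj h2
  have hb : b = 0 := by by_contra h; simp only [j, h, if_false] at hj; omega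
  have hc0 : c = 0 := by by_contra h; simp only [i, h, if_false] at hi; omega
  subst hb hc0
  simp only [Fin.val_zero, pow_zero, mul_one] at e
  fin_cases a
  · left; rw [e]; simpa using hd
  · right; rw [e]; simpa using hd

end Full

end CfsgLib.McLThree
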