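import Cfsg.Agent.Lib.McLThree.Aut
import Cfsg.Agent.Lib.ElationSpace.FromNormal
import Cfsg.Agent.Lib.Leech.StabSimple

/-!
The generalised Fitting subgroups of McL and of its automorphism group.
-/

set_option autoImplicit false

namespace CfsgLib.McLThree.Weak

open Subgroup

universe u

theorem mcl_data : IsSimpleGroup Cfsg.Spor.McL ∧ Finite Cfsg.Spor.McL ∧
    Subgroup.center Cfsg.Spor.McL = ⊥ := by
  obtain ⟨e⟩ := CfsgLeech.spor_mcl_equiv
  haveI := CfsgLeech.mcl_simple
  have hcard := (Nat.card_congr e.toEquiv).trans CfsgLeech.card_mcl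
  haveI : Finite Cfsg.Spor.McL := Nat.finite_of_card_ne_zero (by rw [hcard]; norm_num)
  haveI : Nontrivial Cfsg.Spor.McL := e.toEquiv.nontrivial
  have hs : IsSimpleGroup Cfsg.Spor.McL :=
    IsSimpleGroup.isSimpleGroup_of_surjective (H := Cfsg.Spor.McL) e.symm.toMonoidHom e.symm.surjective
  haveI := hs
  refine ⟨hs, inferInstance, (IsSimpleGroup.eq_bot_or_eq_top_of_normal _ inferInstance).resolve_right fun h => ?_⟩
  have hcomm : ∀ a b : Cfsg.Spor.McL, a * b = b * a := fun a b =>
    (Subgroup.mem_center_iff.1 (h.ge (mem_top b)) a)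
  letI : CommGroup Cfsg.Spor.McL := { (inferInstance : Group Cfsg.Spor.McL) with mul_comm := hcomm }
  have hp := IsSimpleGroup.prime_card (α := Cfsg.Spor.McL)
  rw [hcard] at hp
  norm_num at hp

theorem fstar_of_iso {G : Type u} [Group G] [Finite G]
    (h : Nonempty (G ≃* Cfsg.Spor.McL) ∨ Nonempty (G ≃* MulAut Cfsg.Spor.McL)) :
    Cfsg.Spor.IsoMcL (Cfsg.generalizedFittingSubgroup G) := by
  obtain ⟨hs, hf, hZ⟩ := mcl_data
  haveI := hs
  haveI := hf
  rcases h with ⟨⟨e⟩⟩ | ⟨⟨e⟩⟩
  · haveI : Nontrivial (⊤ : Subgroup Cfsg.Spor.McL) :=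
      (Subgroup.topEquiv (G := Cfsg.Spor.McL)).toEquiv.nontrivial
    have htop : IsSimpleGroup (⊤ : Subgroup Cfsg.Spor.McL) :=
      IsSimpleGroup.isSimpleGroup_of_surjective (f := (Subgroup.topEquiv (G := Cfsg.Spor.McL)).symm.toMonoidHom)
        (Subgroup.topEquiv (G := Cfsg.Spor.McL)).symm.surjective
    have h1 : Cfsg.generalizedFittingSubgroup Cfsg.Spor.McL = ⊤ :=
      CfsgLib.ElSp.fstar_eq (⊤ : Subgroup Cfsg.Spor.McL)
        htop
        (by rw [Subgroup.coe_top, Subgroup.centralizer_univ, hZ])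
    have h2 := CfsgLib.map_generalizedFittingSubgroup_equiv e
    rw [h1] at h2
    exact ⟨((Subgroup.equivMapOfInjective _ e.toMonoidHom e.injective).trans (MulEquiv.subgroupCongr h2)).trans
      Subgroup.topEquiv⟩
  · haveI : Finite (MulAut Cfsg.Spor.McL) := Finite.of_injective (fun a => ⇑a) DFunLike.coe_injective
    set c : Cfsg.Spor.McL →* MulAut Cfsg.Spor.McL := MulAut.conj
    have hinj : Function.Injective c := (injective_iff_map_eq_one _).2 fun v hv => by
      refine Subgroup.mem_bot.1 (hZ.le (Subgroup.mem_center_iff.2 fun w => ?_))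
      have h : v * w * v⁻¹ = w := DFunLike.congr_fun hv w
      exact (mul_inv_eq_iff_eq_mul.1 h).symm
    haveI : c.range.Normal := ⟨by
      rintro _ ⟨v, rfl⟩ α
      exact ⟨α v, MulEquiv.ext fun w => by
        show α v * w * (α v)⁻¹ = α (v * α⁻¹ w * v⁻¹)
        rw [map_mul, map_mul, map_inv, MulAut.apply_inv_self]⟩⟩
    have hsr : IsSimpleGroup c.range := by
      haveI : Nontrivial c.range := (MonoidHom.ofInjective hinj).symm.toEquiv.nontrivial
      exact IsSimpleGroup.isSimpleGroup_of_surjective (H := c.range) (MonoidHom.ofInjective hinj).toMonoidHom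
        (MonoidHom.ofInjective hinj).surjective
    have hcen : centralizer (c.range : Set (MulAut Cfsg.Spor.McL)) = ⊥ := by
      refine eq_bot_iff.2 fun α hα => Subgroup.mem_bot.2 (MulEquiv.ext fun v => ?_)
      show α v = v
      refine hinj ?_
      have h := mem_centralizer_iff.1 hα (c v) ⟨v, rfl⟩
      calc c (α v) = α * c v * α⁻¹ := MulEquiv.ext fun w => by
            show α v * w * (α v)⁻¹ = α (v * α⁻¹ w * v⁻¹)
            rw [map_mul, map_mul, map_inv, MulAut.apply_inv_self]
        _ = c v := by rw [← h, mul_inv_cancel_right]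
    have h2 := CfsgLib.map_generalizedFittingSubgroup_equiv e
    rw [CfsgLib.ElSp.fstar_eq c.range hsr hcen] at h2
    exact ⟨((Subgroup.equivMapOfInjective _ e.toMonoidHom e.injective).trans (MulEquiv.subgroupCongr h2)).trans
      (MonoidHom.ofInjective hinj).symm⟩

end CfsgLib.McLThree.Weak
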