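import Cfsg.Agent.Lib.McLThree.NJ

/-!
Finite facts about the alternating group of degree six and about SL(2,5).
-/

set_option autoImplicit false
set_option maxRecDepth 100000
set_option maxHeartbeats 4000000
set_option synthInstance.maxSize 8000
set_option synthInstance.maxHeartbeats 200000

namespace CfsgLib.McLThree.Weak

open Equiv Equiv.Perm

/-- `(0 2 3)(1 5 4)` -/
def s6 : A6 := ⟨swap 0 2 * swap 2 3 * (swap 1 5 * swap 5 4), Perm.mem_alternatingGroup.2 (by decide)⟩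

/-- The four-group containing `t6` and `g6`. -/
def four6 (i : Fin 4) : A6 := ![1, t6, g6, t6 * g6] i

/-- The alternating group of degree four containing `t6`, `g6`. -/
def InFour (x : A6) : Prop := ∃ i : Fin 4, ∃ k : Fin 3, x = four6 i * s6 ^ k.val

instance : DecidablePred InFour := fun x => inferInstanceAs (Decidable (∃ i : Fin 4, ∃ k : Fin 3, x = _))

theorem s6_basic : s6 * t6 * s6⁻¹ = g6 ∧ s6 * g6 * s6⁻¹ = t6 * g6 ∧ s6 ^ 3 = 1 ∧ s6 ≠ 1 ∧
    InFour t6 ∧ InFour g6 ∧ InFour s6 := by decide +kernel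

theorem four_escape : ∀ x : A6, ¬ InFour x → ∃ i : Fin 4, ∃ k : Fin 3,
    x * (four6 i * s6 ^ k.val) = p6 ∨
      ((x * (four6 i * s6 ^ k.val)) ^ 5 = 1 ∧ x * (four6 i * s6 ^ k.val) ≠ 1) := by decide +kernel

theorem four_invol : ∀ x : A6, InFour x → x * x = 1 → x ≠ 1 → x = t6 ∨ x = g6 ∨ x = t6 * g6 := by decide +kernel

theorem four_cent : ∀ x : A6, InFour x → x * s6 = s6 * x → ∃ k : Fin 3, x = s6 ^ k.val := by decide +kernel

theorem four_three : ∀ x : A6, InFour x → x ^ 3 = 1 → ∃ i : Fin 4, ∃ k : Fin 3,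
    four6 i * x * (four6 i)⁻¹ = s6 ^ k.val := by decide +kernel

theorem nine_cover : ∀ x : A6, ∃ o : Option (Fin 3 × Fin 3), Norm9 ((wrep o)⁻¹ * x) := by decide +kernel

/-- Representatives of the cosets of the normalizer of a subgroup of order three in SL(2,5). -/
def rep10 (i : Fin 2 × Fin 5) : K5 :=
  if i.1 = 0 then ⟨!![0, 1; 4, (i.2.val : ZMod 5)], by rw [Matrix.det_fin_two_of]; generalize (i.2.val : ZMod 5) = r; revert r; decide⟩
  else ⟨!![1, 1; (i.2.val : ZMod 5), 1 + (i.2.val : ZMod 5)], by rw [Matrix.det_fin_two_of]; generalize (i.2.val : ZMod 5) = r; revert r; decide⟩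

theorem k5_escape : ∀ x : K5, x ≠ 1 → x ≠ u5 → x ≠ u5 ^ 2 →
    ∃ k : Fin 3, (u5 ^ k.val * x) ^ 15 = z5 ∨ (u5 ^ k.val * x) ^ 2 = z5 := by decide +kernel

theorem rep10_sep : ∀ i j : Fin 2 × Fin 5,
    ((rep10 j)⁻¹ * rep10 i * u5 * ((rep10 j)⁻¹ * rep10 i)⁻¹ = u5 ∨
      (rep10 j)⁻¹ * rep10 i * u5 * ((rep10 j)⁻¹ * rep10 i)⁻¹ = u5 ^ 2) → i = j := by decide +kernel

end CfsgLib.McLThree.Weak
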