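import Cfsg.Agent.Lib.McLThree.Weak.Orbit

/-!
The element permuting the axes in the centralizer of the diagonal element, and its companion from the core.
-/

set_option autoImplicit false
set_option synthInstance.maxSize 8000
set_option synthInstance.maxHeartbeats 200000

namespace CfsgLib.McLThree.Weak

open Subgroup Equiv Equiv.Perm

universe u

theorem shift_invol {G : Type u} [Group G] {v j : G} (hv : v * v = 1) (hj : v * j * v = j⁻¹) (h3 : j ^ 3 = 1) :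
    j ^ 2 * v * (j ^ 2)⁻¹ = j * v := by
  have hvi : v⁻¹ = v := inv_eq_of_mul_eq_one_right hv
  have h : v * (j ^ 2)⁻¹ * v⁻¹ = j ^ 2 := by
    rw [← inv_pow, ← conj_pow, ← conj_inv, hvi, hj, inv_inv]
  calc j ^ 2 * v * (j ^ 2)⁻¹ = j ^ 2 * (v * (j ^ 2)⁻¹ * v⁻¹) * v := by group
    _ = j ^ (2 + 2) * v := by rw [h, ← pow_add]
    _ = j * v := by rw [pow_eq_pow_mod _ h3]; norm_num

theorem invol_mul {G : Type u} [Group G] {a b : G} (ha : a * a = 1) (hb : b * b = 1) :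
    b * (a * b) * b = (a * b)⁻¹ := by
  rw [mul_inv_rev, inv_eq_of_mul_eq_one_right ha, inv_eq_of_mul_eq_one_right hb,
    show b * (a * b) * b = b * a * (b * b) by group, hb, mul_one]

variable {G : Type u} [Group G] {D : Setting G} (U : Full D)

/-- The involution over `g6`. -/
abbrev uG : D.M₀ := U.g ^ 3

/-- The involution `t` in the second local group. -/
abbrev tM : D.M₀ := ⟨U.F.t, U.C.t_M⟩

theorem φ_uG : U.C.φ (uG U) = g6 := by
  rw [map_pow, U.φg, pow_succ, pow_two, six_basic.2.2.2.1, one_mul]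

theorem φ_tM : U.C.φ (tM U) = t6 := U.C.φt

theorem uG_sq [Finite G] : (uG U : G) * uG U = 1 := by
  have h := D.J_exp _ U.g_sq_J
  rw [← pow_two, ← pow_mul] at h
  show ((U.g ^ 3 : D.M₀) : G) * ((U.g ^ 3 : D.M₀) : G) = 1
  rwa [SubmonoidClass.coe_pow, ← pow_add]

theorem uG_inv [Finite G] : (uG U : G)⁻¹ = uG U := inv_eq_of_mul_eq_one_right (uG_sq U)

theorem uG_t : Commute (uG U : G) U.F.t := by
  show Commute ((U.g ^ 3 : D.M₀) : G) U.F.t
  rw [SubmonoidClass.coe_pow]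
  exact (show Commute (U.g : G) U.F.t from U.g_t).pow_left 3

theorem uG_yp [Finite G] : Commute (uG U : G) U.yp := by
  show Commute ((U.g ^ 3 : D.M₀) : G) U.yp
  rw [SubmonoidClass.coe_pow]
  exact (show Commute (U.g : G) U.yp from U.g_yp).pow_left 3

theorem t_yp [Finite G] : Commute U.F.t U.yp :=
  (show Commute U.F.t D.z from U.F.t_z).mul_right (show Commute U.F.t U.F.y from U.F.y_t.symm)

theorem uG_z [Finite G] : (uG U : G) * D.z * (uG U : G)⁻¹ = U.F.y ∧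
    (uG U : G) * U.F.y * (uG U : G)⁻¹ = D.z := by
  have h2 : ∀ v ∈ D.J, (U.g : G) * U.g * v * ((U.g : G) * U.g)⁻¹ = v := fun v hv => by
    rw [D.J_comm _ U.g_sq_J v hv, mul_inv_cancel_right]
  have e : ∀ v ∈ D.J, (uG U : G) * v * (uG U : G)⁻¹ = (U.g : G) * v * (U.g : G)⁻¹ := fun v hv => by
    show ((U.g ^ 3 : D.M₀) : G) * v * ((U.g ^ 3 : D.M₀) : G)⁻¹ = _
    rw [SubmonoidClass.coe_pow]
    calc (U.g : G) ^ 3 * v * ((U.g : G) ^ 3)⁻¹ = (U.g : G) * ((U.g : G) * U.g * v * ((U.g : G) * U.g)⁻¹) * (U.g : G)⁻¹ := by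
          rw [pow_succ', pow_two]; group
      _ = _ := by rw [h2 v hv]
  exact ⟨(e _ U.F.z_J).trans U.g_z, (e _ U.F.y_J).trans U.g_y⟩

theorem tu_sq [Finite G] : U.F.t * (uG U : G) * (U.F.t * (uG U : G)) = 1 := by
  rw [show U.F.t * (uG U : G) * (U.F.t * (uG U : G)) = U.F.t * ((uG U : G) * U.F.t) * (uG U : G) by group,
    (uG_t U).eq, show U.F.t * (U.F.t * (uG U : G)) * (uG U : G) = U.F.t * U.F.t * ((uG U : G) * uG U) by group,
    U.F.t_sq, uG_sq, mul_one]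

theorem u_tu [Finite G] : (uG U : G) * (U.F.t * uG U) = U.F.t := by
  rw [← mul_assoc, (uG_t U).eq, mul_assoc, uG_sq, mul_one]

theorem yp_pow_eq_one [Finite G] {i : ℕ} (hi : i < 3) (h : U.yp ^ i = 1) : i = 0 := by
  by_contra h0
  refine U.yp_ne ?_
  have h3 := D.J_exp _ U.yp_J
  obtain rfl | rfl : i = 1 ∨ i = 2 := by omega
  · simpa using h
  · rwa [pow_succ, h, one_mul] at h3

theorem mem_zpow_yp [Finite G] {x : G} (h : x ∈ zpowers U.yp) : ∃ i < 3, x = U.yp ^ i := by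
  obtain ⟨n, rfl⟩ := mem_powers_iff_mem_zpowers.2 h
  exact ⟨n % 3, Nat.mod_lt _ (by norm_num), pow_eq_pow_mod n (D.J_exp _ U.yp_J)⟩

theorem fix_yp [Finite G] {j : G} (hj : j ∈ D.J) (ht : Commute j U.F.t) (hu : Commute j (uG U : G)) :
    ∃ i < 3, j = U.yp ^ i := by
  obtain ⟨a, b, rfl⟩ := U.mem_dt (D.J_le hj) ht.eq
  have e : (uG U : G) * (D.z ^ a * U.F.y ^ b) * (uG U : G)⁻¹ = U.F.y ^ a * D.z ^ b := by
    rw [show (uG U : G) * (D.z ^ a * U.F.y ^ b) * (uG U : G)⁻¹ =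
      ((uG U : G) * D.z ^ a * (uG U : G)⁻¹) * ((uG U : G) * U.F.y ^ b * (uG U : G)⁻¹) by group,
      ← conj_pow, ← conj_pow, (uG_z U).1, (uG_z U).2]
  rw [← hu.eq, mul_inv_cancel_right, ((show Commute U.F.y D.z from U.F.y_z).pow_pow a b).eq] at e
  obtain ⟨hab, -⟩ := U.coord_inj e
  refine ⟨a % 3, Nat.mod_lt _ (by norm_num), ?_⟩
  rw [pow_eq_pow_mod b U.F.y_cube, ← hab, (show Commute D.z U.F.y from U.F.y_z.symm).mul_pow,
    ← pow_eq_pow_mod a D.z_cube]

/-- The element over `s6`. -/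
structure Lift where
  /-- the element -/
  w : D.M₀
  /-- its image -/
  φw : U.C.φ w = s6
  /-- on the first involution -/
  w_t : (w : G) * U.F.t * (w : G)⁻¹ = uG U
  /-- on the second involution -/
  w_u : (w : G) * (uG U : G) * (w : G)⁻¹ = U.F.t * uG U
  /-- centralising the diagonal element -/
  w_yp : Commute (w : G) U.yp
  /-- its cube -/
  w3 : ∃ i < 3, (w : G) ^ 3 = U.yp ^ i

theorem exists_lift [Finite G] : Nonempty (Lift U) := by
  obtain ⟨m0, hm0⟩ := U.C.surj s6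
  have adjust : ∀ (m : D.M₀) (a : G) (v : D.M₀), (m : G) * a * (m : G)⁻¹ * ((m : G) * a * (m : G)⁻¹) = 1 →
      (v : G) * v = 1 → ∀ (am : D.M₀), (am : G) = a → U.C.φ m * U.C.φ am * (U.C.φ m)⁻¹ = U.C.φ v →
      ∃ j : D.M₀, (j : G) = (m : G) * a * (m : G)⁻¹ * v ∧ (j : G) ∈ D.J ∧
        ((j : G) ^ 2)⁻¹ * ((m : G) * a * (m : G)⁻¹) * (j : G) ^ 2 = v := by
    rintro m a v hsq hv am rfl hφ
    have hvi : (v : G)⁻¹ = v := inv_eq_of_mul_eq_one_right hv
    set j : D.M₀ := m * am * m⁻¹ * v with hjdef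
    have hjJ : (j : G) ∈ D.J := (U.C.ker j).1 (by
      rw [map_mul, map_mul, map_mul, map_inv, hφ, ← map_mul, show v * v = 1 from Subtype.ext hv, map_one])
    have hje : (j : G) = (m : G) * am * (m : G)⁻¹ * v := by simp [hjdef]
    have hinv : (v : G) * j * v = (j : G)⁻¹ := by rw [hje]; exact invol_mul hsq hv
    refine ⟨j, hje, hjJ, ?_⟩
    have h := shift_invol hv hinv (D.J_exp _ hjJ)
    have e : (m : G) * am * (m : G)⁻¹ = (j : G) * v := by rw [hje, mul_assoc _ (v : G), hv, mul_one]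
    rw [e, ← h]
    group
  have hsq : ∀ (m a : G), a * a = 1 → m * a * m⁻¹ * (m * a * m⁻¹) = 1 := fun m a h => by
    rw [show m * a * m⁻¹ * (m * a * m⁻¹) = m * (a * a) * m⁻¹ by group, h]; group
  obtain ⟨j1, -, hj1, e1⟩ := adjust m0 U.F.t (uG U) (hsq _ _ U.F.t_sq) (uG_sq U) (tM U) rfl (by
    rw [hm0, φ_tM, φ_uG]; exact s6_basic.1)
  set w1 : D.M₀ := (j1 ^ 2)⁻¹ * m0 with hw1
  have hw1t : (w1 : G) * U.F.t * (w1 : G)⁻¹ = uG U := by
    rw [← e1]; simp only [hw1]; push_cast; group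
  have hφ1 : U.C.φ w1 = s6 := by
    rw [hw1, map_mul, map_inv, map_pow, (U.C.ker j1).2 hj1, hm0, one_pow, inv_one, one_mul]
  obtain ⟨j2, hj2e, hj2, e2⟩ := adjust w1 (uG U) (tM U * uG U) (hsq _ _ (uG_sq U)) (tu_sq U) (uG U) rfl (by
    rw [hφ1, map_mul, φ_tM, φ_uG]; exact s6_basic.2.1)
  have hc2 : Commute (j2 : G) (uG U : G) := by
    rw [hj2e]
    refine Commute.mul_left ?_ (((uG_t U).symm).mul_left (Commute.refl _))
    nth_rw 2 [← hw1t]
    show _ = _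
    rw [conj_mul, conj_mul, (uG_t U).eq]
  set w2 : D.M₀ := (j2 ^ 2)⁻¹ * w1 with hw2
  have hφ2 : U.C.φ w2 = s6 := by
    rw [hw2, map_mul, map_inv, map_pow, (U.C.ker j2).2 hj2, hφ1, one_pow, inv_one, one_mul]
  have hw2t : (w2 : G) * U.F.t * (w2 : G)⁻¹ = uG U := by
    rw [show (w2 : G) * U.F.t * (w2 : G)⁻¹ = ((j2 : G) ^ 2)⁻¹ * ((w1 : G) * U.F.t * (w1 : G)⁻¹) * (j2 : G) ^ 2 by
      simp only [hw2]; push_cast; group, hw1t, mul_assoc, ← (hc2.pow_left 2).eq, inv_mul_cancel_left]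
  have hw2u : (w2 : G) * (uG U : G) * (w2 : G)⁻¹ = U.F.t * uG U := by
    refine Eq.trans ?_ e2
    simp only [hw2]; push_cast; group
  have hconjJ : ∀ v ∈ D.J, (w2 : G) * v * (w2 : G)⁻¹ ∈ D.J := fun v hv => D.M₀_J w2.2 hv
  have hcu : Commute ((w2 : G) * U.yp * (w2 : G)⁻¹) (uG U : G) := by
    rw [← hw2t]
    show _ = _
    rw [conj_mul, conj_mul, (t_yp U).eq]
  have hctu : Commute ((w2 : G) * U.yp * (w2 : G)⁻¹) (U.F.t * uG U) := by
    rw [← hw2u]
    show _ = _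
    rw [conj_mul, conj_mul, (uG_yp U).eq]
  have hct : Commute ((w2 : G) * U.yp * (w2 : G)⁻¹) U.F.t := by
    rw [show U.F.t = U.F.t * (uG U : G) * (uG U : G) by rw [mul_assoc, uG_sq, mul_one]]
    exact hctu.mul_right hcu
  obtain ⟨i, hi, hii⟩ := fix_yp U (hconjJ _ U.yp_J) hct hcu
  have hw3J : (w2 : G) ^ 3 ∈ D.J := by
    have h := (U.C.ker (w2 ^ 3)).1 (by rw [map_pow, hφ2, s6_basic.2.2.1])
    rwa [SubmonoidClass.coe_pow] at h
  have hyp : Commute (w2 : G) U.yp := by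
    have h3 : U.yp ^ (i * i * i) = U.yp := by
      calc U.yp ^ (i * i * i) = (w2 : G) * ((w2 : G) * ((w2 : G) * U.yp * (w2 : G)⁻¹) * (w2 : G)⁻¹) * (w2 : G)⁻¹ := by
            rw [hii, ← conj_pow, hii, ← pow_mul, ← conj_pow, hii, ← pow_mul]
            ring_nf
        _ = (w2 : G) ^ 3 * U.yp * ((w2 : G) ^ 3)⁻¹ := by rw [pow_succ', pow_two]; group
        _ = U.yp := by rw [D.J_comm _ hw3J _ U.yp_J, mul_inv_cancel_right]
    have h1 : i = 1 := by
      interval_cases i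
      · rw [pow_zero] at h3; exact absurd h3.symm U.yp_ne
      · rfl
      · rw [pow_eq_pow_mod _ (D.J_exp _ U.yp_J)] at h3
        norm_num at h3
        rw [pow_two] at h3
        exact absurd (mul_eq_left.1 h3) U.yp_ne
    rw [h1, pow_one] at hii
    exact mul_inv_eq_iff_eq_mul.1 hii
  refine ⟨⟨w2, hφ2, hw2t, hw2u, hyp, fix_yp U hw3J ?_ ?_⟩⟩
  · refine mul_inv_eq_iff_eq_mul.1 ?_
    rw [show (w2 : G) ^ 3 * U.F.t * ((w2 : G) ^ 3)⁻¹ =
      (w2 : G) * ((w2 : G) * ((w2 : G) * U.F.t * (w2 : G)⁻¹) * (w2 : G)⁻¹) * (w2 : G)⁻¹ by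
        rw [pow_succ', pow_two]; group, hw2t, hw2u,
      show (w2 : G) * (U.F.t * uG U) * (w2 : G)⁻¹ =
        (w2 : G) * U.F.t * (w2 : G)⁻¹ * ((w2 : G) * (uG U : G) * (w2 : G)⁻¹) by group, hw2t, hw2u,
      u_tu U]
  · refine mul_inv_eq_iff_eq_mul.1 ?_
    rw [show (w2 : G) ^ 3 * (uG U : G) * ((w2 : G) ^ 3)⁻¹ =
      (w2 : G) * ((w2 : G) * ((w2 : G) * (uG U : G) * (w2 : G)⁻¹) * (w2 : G)⁻¹) * (w2 : G)⁻¹ by
        rw [pow_succ', pow_two]; group, hw2u,
      show (w2 : G) * (U.F.t * uG U) * (w2 : G)⁻¹ =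
        (w2 : G) * U.F.t * (w2 : G)⁻¹ * ((w2 : G) * (uG U : G) * (w2 : G)⁻¹) by group, hw2t, hw2u,
      u_tu U, hw2t]

/-- The centralizer of the diagonal element. -/
abbrev Cy : Subgroup G := centralizer ({U.yp} : Set G)

/-- The diagonal element in its centralizer. -/
abbrev ypC : Cy U := ⟨U.yp, mem_centralizer_singleton_iff.2 rfl⟩

instance : (zpowers (ypC U)).Normal := ⟨fun n hn x => by
  obtain ⟨k, rfl⟩ := mem_zpowers_iff.1 hn
  have h : Commute x (ypC U) := Subtype.ext (mem_centralizer_singleton_iff.1 x.2)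
  rw [(h.zpow_right k).eq, mul_inv_cancel_right]
  exact zpow_mem (mem_zpowers _) k⟩

/-- The centralizer modulo the element. -/
abbrev Xq : Type u := Cy U ⧸ zpowers (ypC U)

/-- The projection. -/
abbrev pr : Cy U →* Xq U := QuotientGroup.mk' _

theorem pr_eq [Finite G] {a b : Cy U} : pr U a = pr U b ↔ ∃ i < 3, (b : G) = a * U.yp ^ i := by
  refine (QuotientGroup.eq (a := a) (b := b)).trans ?_
  constructor
  · intro h
    obtain ⟨n, hn⟩ := mem_zpowers_iff.1 h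
    have hn' : U.yp ^ n = (a : G)⁻¹ * b := by
      simpa using congrArg Subtype.val hn
    obtain ⟨i, hi, e⟩ := mem_zpow_yp U (hn' ▸ zpow_mem (mem_zpowers U.yp) n)
    exact ⟨i, hi, by rw [← e, mul_inv_cancel_left]⟩
  · rintro ⟨i, -, e⟩
    refine mem_zpowers_iff.2 ⟨i, Subtype.ext ?_⟩
    push_cast
    rw [e, inv_mul_cancel_left, zpow_natCast]

/-- The image of `J`. -/
abbrev Jb : Subgroup (Xq U) := (D.J.subgroupOf (Cy U)).map (pr U)

theorem J_Cy [Finite G] : D.J ≤ Cy U := fun j hj => mem_centralizer_singleton_iff.2 (D.J_comm j hj _ U.yp_J)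

theorem pr_J [Finite G] {a : Cy U} : pr U a ∈ Jb U ↔ (a : G) ∈ D.J := by
  refine ⟨?_, fun h => ⟨a, h, rfl⟩⟩
  rintro ⟨b, hb, e⟩
  obtain ⟨i, -, h⟩ := (pr_eq U).1 e
  rw [h]
  exact mul_mem hb (pow_mem U.yp_J i)

theorem card_Jb [Finite G] : Nat.card (Jb U) = 27 := by
  have h := card_mul_index ((pr U).comp (inclusion (J_Cy U))).ker
  rw [index_ker, MonoidHom.range_comp, Subgroup.inclusion_range, D.J_card] at h
  have hk : Nat.card ((pr U).comp (inclusion (J_Cy U))).ker = 3 := by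
    have h3 : Nat.card (zpowers U.yp) = 3 := by
      rw [Nat.card_zpowers, orderOf_eq_prime (p := 3) (D.J_exp _ U.yp_J) U.yp_ne]
    rw [← h3]
    refine Nat.card_congr ⟨fun x => ⟨(x.1 : G), ?_⟩, fun x => ⟨⟨x.1, zpowers_le.2 U.yp_J x.2⟩, ?_⟩,
      fun x => rfl, fun x => rfl⟩
    · obtain ⟨i, -, e⟩ := (pr_eq U).1 (show pr U 1 = pr U (inclusion (J_Cy U) x.1) from by
        rw [map_one]; exact x.2.symm)
      rw [show ((x.1 : D.J) : G) = 1 * U.yp ^ i from e, one_mul]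
      exact pow_mem (mem_zpowers _) i
    · obtain ⟨i, hi, e⟩ := mem_zpow_yp U x.2
      show pr U _ = 1
      rw [← map_one (pr U)]
      exact ((pr_eq U).2 ⟨i, hi, by simpa using e⟩).symm
  rw [hk] at h
  change 3 * Nat.card (Jb U) = 81 at h
  omega

variable {U}

/-- Elements of the second local group commuting with the diagonal element map into the alternating group of degree four. -/
theorem Lift.four_mem [Finite G] (L : Lift U) (x : D.M₀) (hx : Commute (x : G) U.yp) : InFour (U.C.φ x) := by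
  by_contra hno
  obtain ⟨i, k, h⟩ := four_escape _ hno
  set f : D.M₀ := (![1, tM U, uG U, tM U * uG U] : Fin 4 → D.M₀) i with hfdef
  have hf : U.C.φ f = four6 i ∧ Commute (f : G) U.yp := by
    fin_cases i
    · exact ⟨map_one _, Commute.one_left _⟩
    · exact ⟨φ_tM U, t_yp U⟩
    · exact ⟨φ_uG U, uG_yp U⟩
    · exact ⟨by
        show U.C.φ (tM U * uG U) = four6 3
        rw [map_mul, φ_tM, φ_uG]; rfl, (t_yp U).mul_left (uG_yp U)⟩
  set m : D.M₀ := x * (f * L.w ^ k.val) with hm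
  have hφm : U.C.φ m = U.C.φ x * (four6 i * s6 ^ k.val) := by rw [hm, map_mul, map_mul, map_pow, hf.1, L.φw]
  have hmc : Commute (m : G) U.yp := by
    simp only [hm, Subgroup.coe_mul, SubmonoidClass.coe_pow]
    exact hx.mul_left (hf.2.mul_left (L.w_yp.pow_left _))
  rw [← hφm] at h
  rcases h with hp | ⟨h5, hne⟩
  · have hj : ((m * U.p⁻¹ : D.M₀) : G) ∈ D.J := (U.C.ker _).1 (by rw [map_mul, map_inv, hp, U.φp, mul_inv_cancel])
    set j := ((m * U.p⁻¹ : D.M₀) : G) with hjdef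
    have hp' : (U.p : G) * U.yp * (U.p : G)⁻¹ = U.yp⁻¹ := by
      rw [show (U.p : G) * (D.z * U.F.y) * (U.p : G)⁻¹ =
        (U.p : G) * D.z * (U.p : G)⁻¹ * ((U.p : G) * U.F.y * (U.p : G)⁻¹) by group, U.p_z, U.p_y, ← mul_inv_rev,
        U.F.y_z]
    have e : U.yp = U.yp⁻¹ := by
      calc U.yp = (m : G) * U.yp * (m : G)⁻¹ := by rw [hmc.eq, mul_inv_cancel_right]
        _ = j * ((U.p : G) * U.yp * (U.p : G)⁻¹) * j⁻¹ := by simp only [hjdef]; push_cast; group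
        _ = U.yp⁻¹ := by rw [hp', D.J_comm j hj _ (inv_mem U.yp_J), mul_inv_cancel_right]
    have h2 : U.yp ^ 2 = 1 := by rw [pow_two]; nth_rw 2 [e]; exact mul_inv_cancel _
    exact absurd (yp_pow_eq_one U (by norm_num) h2) (by norm_num)
  · have h15 : ((m : G) ^ 5) ^ 3 = 1 := D.J_exp _ (by
      have := (U.C.ker (m ^ 5)).1 (by rw [map_pow, h5])
      rwa [SubmonoidClass.coe_pow] at this)
    set a : D.M₀ := m ^ 6 with ha
    have hφa : U.C.φ a = U.C.φ m := by rw [ha, map_pow, pow_succ, h5, one_mul]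
    have ha5 : (a : G) ^ 5 = 1 := by
      simp only [ha, SubmonoidClass.coe_pow]
      rw [← pow_mul, show 6 * 5 = 5 * 3 * 2 by norm_num, pow_mul, pow_mul, h15, one_pow]
    have hac : (a : G) ∈ Cy U := mem_centralizer_singleton_iff.2 (by
      simp only [ha, SubmonoidClass.coe_pow]; exact (hmc.pow_left 6).eq)
    have key := five_trivial (f := pr U ⟨(a : G), hac⟩) (by
        rw [← map_pow, show (⟨(a : G), hac⟩ : Cy U) ^ 5 = 1 from Subtype.ext (by push_cast; exact ha5), map_one])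
      (Jb U) ⟨3, le_rfl, by rw [card_Jb]; norm_num⟩ (by
        rintro _ ⟨v, hv, rfl⟩
        rw [← map_inv, ← map_mul, ← map_mul]
        exact (pr_J U).2 (D.M₀_J a.2 hv))
    have hcent : (a : G) ∈ centralizer (D.J : Set G) := by
      rw [mem_centralizer_iff]
      intro v hv
      have h1 := key _ ((pr_J U (a := ⟨v, J_Cy U hv⟩)).2 hv)
      rw [← map_mul, ← map_mul] at h1
      obtain ⟨r, hr, e⟩ := (pr_eq U).1 h1
      have hcomm : Commute (a : G) (U.yp ^ r) :=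
        (show Commute (a : G) U.yp from mem_centralizer_singleton_iff.1 hac).pow_right r
      -- `e` moves `v` by a power of the diagonal element
      have e' : (a : G) * v * (a : G)⁻¹ = (U.yp ^ r)⁻¹ * v := by
        have e1 : v * (a : G) = (a : G) * v * U.yp ^ r := e
        have hvr : Commute v (U.yp ^ r) := D.J_comm _ hv _ (pow_mem U.yp_J r)
        calc (a : G) * v * (a : G)⁻¹ = ((a : G) * v * U.yp ^ r) * (U.yp ^ r)⁻¹ * (a : G)⁻¹ := by group
          _ = v * ((a : G) * (U.yp ^ r)⁻¹ * (a : G)⁻¹) := by rw [← e1]; group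
          _ = (U.yp ^ r)⁻¹ * v := by rw [hcomm.inv_right.eq, mul_inv_cancel_right, hvr.inv_right.eq]
      have h5' := pow_conj_mul e' hcomm.inv_right.eq 5
      rw [ha5, one_mul, inv_one, mul_one] at h5'
      have hr0 : r = 0 := by
        refine yp_pow_eq_one U hr ?_
        have h1' : ((U.yp ^ r)⁻¹) ^ 5 = 1 := mul_eq_right.1 h5'.symm
        rw [inv_pow, inv_eq_one, pow_eq_pow_mod 5 (show (U.yp ^ r) ^ 3 = 1 by
          rw [← pow_mul, mul_comm, pow_mul, D.J_exp _ U.yp_J, one_pow])] at h1'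
        have h3 : (U.yp ^ r) ^ 3 = 1 := by rw [← pow_mul, mul_comm, pow_mul, D.J_exp _ U.yp_J, one_pow]
        rw [pow_succ, show (U.yp ^ r) ^ 2 = 1 from h1', one_mul] at h3
        exact h3
      rw [hr0, pow_zero, inv_one, one_mul] at e'
      exact (mul_inv_eq_iff_eq_mul.1 e').symm
    exact hne (hφa ▸ (U.C.ker a).2 (U.F.centJ hcent))

/-- An involution of the second local group commuting with the diagonal element. -/
theorem Lift.invol [Finite G] (L : Lift U) (x : D.M₀) (hx : Commute (x : G) U.yp) (h2 : (x : G) * x = 1)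
    (hne : (x : G) ≠ 1) : U.C.φ x = t6 ∨ U.C.φ x = g6 ∨ U.C.φ x = t6 * g6 := by
  refine four_invol _ (L.four_mem x hx) (by rw [← map_mul, show x * x = 1 from Subtype.ext h2, map_one]) fun h => ?_
  have h3 := D.J_exp _ ((U.C.ker x).1 h)
  rw [pow_succ, pow_two, h2, one_mul] at h3
  exact hne h3

/-- The companion from the core. -/
structure Pick (L : Lift U) where
  /-- the conjugating element -/
  c : D.M₀
  /-- moving `w` into the Sylow subgroup -/
  c_w : (c : G) * (L.w : G) * (c : G)⁻¹ ∈ D.S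
  /-- and the diagonal element into `A` -/
  y'_A : (c : G) * U.yp * (c : G)⁻¹ ∈ D.A
  /-- outside the centre -/
  y'_Z : (c : G) * U.yp * (c : G)⁻¹ ∉ D.Zc
  /-- the element of the core -/
  q : G
  /-- in the core -/
  q_Q : q ∈ D.Q
  /-- not in `A` -/
  q_A : q ∉ D.A
  /-- commuting with the conjugate of the diagonal element -/
  q_y : Commute q ((c : G) * U.yp * (c : G)⁻¹)
  /-- its image -/
  q_φ : ∀ h : (c : G)⁻¹ * q * c ∈ D.M₀, U.C.φ ⟨_, h⟩ = s6

theorem Lift.exists_pick [Finite G] (L : Lift U) (hexp : ∀ a ∈ D.Q, a ^ 3 = 1) : Nonempty (Pick L) := by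
  haveI : Fact (Nat.Prime 3) := ⟨Nat.prime_three⟩
  have hw9 : (L.w : G) ^ 3 ^ 2 = 1 := by
    obtain ⟨i, -, e⟩ := L.w3
    rw [show 3 ^ 2 = 3 * 3 by norm_num, pow_mul, e, D.J_exp _ (pow_mem U.yp_J i)]
  have hwP : IsPGroup 3 (zpowers (L.w : G)) := by
    obtain ⟨n, -, hn⟩ := (Nat.dvd_prime_pow Nat.prime_three).1 (orderOf_dvd_of_pow_eq_one hw9)
    exact IsPGroup.of_card (n := n) (by rw [Nat.card_zpowers, hn])
  obtain ⟨c, hc, R, hR, -, hSR, hwR⟩ := CfsgLib.Local.exists_conj_isPGroup (C := D.M₀) (A := (D.S : Subgroup G))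
    (B := zpowers (L.w : G)) D.S.2 hwP U.F.S_le_M₀ (zpowers_le.2 L.w.2)
  rw [D.S.3 hR hSR] at hwR
  set cm : D.M₀ := ⟨c, hc⟩
  have hw' : c * (L.w : G) * c⁻¹ ∈ (D.S : Subgroup G) := hwR ⟨_, mem_zpowers _, rfl⟩
  have hwJ : c * (L.w : G) * c⁻¹ ∉ D.J := fun h => by
    have h1 := (U.C.ker (cm * L.w * cm⁻¹)).2 (by push_cast; exact h)
    rw [map_mul, map_mul, map_inv, L.φw, conj_eq_one_iff] at h1
    exact s6_basic.2.2.2.1 h1
  set y' := c * U.yp * c⁻¹ with hy'def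
  have hy'J : y' ∈ D.J := D.M₀_J hc U.yp_J
  have hwy : Commute (c * (L.w : G) * c⁻¹) y' := by
    show _ = _
    rw [hy'def, conj_mul, conj_mul, L.w_yp.eq]
  have hy'A : y' ∈ D.A := by
    obtain ⟨a, ha, i, hi⟩ := U.F.J_mem hy'J
    by_cases h3 : 3 ∣ i
    · obtain ⟨d, rfl⟩ := h3
      rw [pow_mul, U.F.y_cube, one_pow, mul_one] at hi
      rw [hi]; exact ha
    exfalso
    obtain ⟨r, hr, k, hk⟩ := U.F.S_mem hw'
    have hrA : r ∉ D.A := fun h => hwJ (hk ▸ mul_mem h.1 (pow_mem U.F.y_J k))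
    have hry : Commute r y' := by
      rw [show r = c * (L.w : G) * c⁻¹ * (U.F.y ^ k)⁻¹ by rw [hk]; group]
      exact hwy.mul_left (D.J_comm _ (inv_mem (pow_mem U.F.y_J k)) _ hy'J)
    refine hrA ?_
    rw [U.F.A_eq]
    refine ⟨hr, ?_⟩
    have hdi : U.dq r ^ i ∈ D.Zc := by
      rw [← U.dq_pow hr]
      have hra := D.Q_comm r hr a ha.2
      have e : r * U.F.y ^ i * r⁻¹ * (U.F.y ^ i)⁻¹ = a⁻¹ * (r * a * r⁻¹ * a⁻¹)⁻¹ * a⁻¹⁻¹ := by
        calc r * U.F.y ^ i * r⁻¹ * (U.F.y ^ i)⁻¹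
            = (r * a * r⁻¹)⁻¹ * (r * (a * U.F.y ^ i) * r⁻¹) * (U.F.y ^ i)⁻¹ := by group
          _ = (r * a * r⁻¹)⁻¹ * (a * U.F.y ^ i) * (U.F.y ^ i)⁻¹ := by rw [← hi, hry.eq, mul_inv_cancel_right]
          _ = _ := by group
      rw [e, D.conj_comm (D.Q_z (inv_mem ha.2)) (inv_mem hra)]
      exact inv_mem hra
    have hd : U.dq r ∈ D.Zc := by
      have h := pow_mem hdi i
      rwa [← pow_mul, pow_eq_pow_mod (i * i) (D.J_exp _ (U.dq_A hr).1), show i * i % 3 = 1 by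
        rw [Nat.mul_mod]; obtain h | h : i % 3 = 1 ∨ i % 3 = 2 := (by omega)
        all_goals rw [h], pow_one] at h
    rw [show U.F.y * r * U.F.y⁻¹ * r⁻¹ = (U.dq r)⁻¹ by rw [Full.dq]; group]
    exact inv_mem hd
  have hy'Z : y' ∉ D.Zc := by
    intro h
    obtain ⟨i, hi, e⟩ := D.mem_Zc.1 h
    have hyz : U.yp = c⁻¹ * D.z ^ i * c⁻¹⁻¹ := by rw [← e, hy'def]; group
    interval_cases i
    · exact U.yp_ne (by rw [hyz]; group)
    · exact (not_isZ_yp U).1 ⟨c⁻¹, by rw [hyz, pow_one]⟩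
    · refine (not_isZ_yp U).2 ⟨c⁻¹, ?_⟩
      rw [hyz, show (c⁻¹ * D.z ^ 2 * c⁻¹⁻¹)⁻¹ = c⁻¹ * (D.z ^ 2)⁻¹ * c⁻¹⁻¹ by group,
        inv_eq_of_mul_eq_one_right (show D.z ^ 2 * D.z = 1 by rw [← pow_succ]; exact D.z_cube)]
  -- the centralizer of the conjugate in the core
  obtain ⟨q, hq, hqA, hqy⟩ : ∃ q ∈ D.Q, q ∉ D.A ∧ Commute q y' := by
    by_contra hcon
    push Not at hcon
    let f : D.Q →* G :=
      { toFun := fun q => q * y' * (q : G)⁻¹ * y'⁻¹
        map_one' := by simp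
        map_mul' := fun a b => by
          have ha := D.Q_comm a a.2 y' hy'A.2
          have hb := D.Q_comm b b.2 y' hy'A.2
          calc ((a * b : D.Q) : G) * y' * ((a * b : D.Q) : G)⁻¹ * y'⁻¹
              = (a : G) * ((b : G) * y' * (b : G)⁻¹ * y'⁻¹) * (a : G)⁻¹ * ((a : G) * y' * (a : G)⁻¹ * y'⁻¹) := by
                push_cast; group
            _ = _ := by
              rw [D.conj_comm (D.Q_z a.2) hb]
              exact D.comm_Zc (D.Q_z (zpowers_le.2 D.z_Q hb)) ha }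
    have h := card_mul_index f.ker
    rw [index_ker, D.Q_card] at h
    have hk : Nat.card f.ker ≤ 27 := by
      rw [← U.F.card_A]
      refine Nat.card_le_card_of_injective (fun x : f.ker => (⟨((x : D.Q) : G), ?_⟩ : D.A)) fun a b e =>
        Subtype.ext (Subtype.ext (congrArg (fun v : D.A => (v : G)) e))
      by_contra hx
      exact hcon _ x.1.2 hx (mul_inv_eq_iff_eq_mul.1 (mul_inv_eq_one.1 x.2))
    have hr : Nat.card f.range ≤ 3 := by
      rw [← D.card_Zc]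
      exact card_le_of_le (by rintro _ ⟨b, rfl⟩; exact D.Q_comm b b.2 y' hy'A.2)
    have := Nat.mul_le_mul hk hr
    omega
  have hqM : q ∈ D.M₀ := U.F.S_le_M₀ (D.Q_le hq)
  set qm : D.M₀ := ⟨q, hqM⟩
  set wm : D.M₀ := cm * L.w * cm⁻¹
  have hwm : U.C.φ wm ∈ nine6 := (U.C.mem_S wm).2 (by push_cast; exact hw')
  have hqm : U.C.φ qm ∈ nine6 := (U.C.mem_S qm).2 (D.Q_le hq)
  have hcomm : Commute (U.C.φ qm) (U.C.φ wm) := (nine6_exp hqm hwm).2
  set qt : D.M₀ := cm⁻¹ * qm * cm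
  have hqtc : Commute (U.C.φ qt) s6 := by
    rw [show s6 = U.C.φ (cm⁻¹ * wm * cm) by rw [← L.φw]; congr 1; simp only [wm]; group, map_mul, map_mul,
      map_mul, map_mul]
    show _ = _
    rw [map_inv]
    calc (U.C.φ cm)⁻¹ * U.C.φ qm * U.C.φ cm * ((U.C.φ cm)⁻¹ * U.C.φ wm * U.C.φ cm)
        = (U.C.φ cm)⁻¹ * (U.C.φ qm * U.C.φ wm) * U.C.φ cm := by group
      _ = _ := by rw [hcomm.eq]; group
  have hqty : Commute (qt : G) U.yp := by
    show _ = _
    have e : U.yp = c⁻¹ * y' * c := by rw [hy'def]; group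
    show c⁻¹ * q * c * U.yp = U.yp * (c⁻¹ * q * c)
    rw [e]
    calc c⁻¹ * q * c * (c⁻¹ * y' * c) = c⁻¹ * (q * y') * c := by group
      _ = _ := by rw [hqy.eq]; group
  obtain ⟨k, hk⟩ := four_cent _ (L.four_mem qt hqty) hqtc.eq
  have hk0 : k.val ≠ 0 := by
    intro h0
    rw [h0, pow_zero] at hk
    have h1 : U.C.φ qm = 1 := by
      rw [show qm = cm * qt * cm⁻¹ by simp only [qt]; group, map_mul, map_mul, hk, mul_one, map_inv, mul_inv_cancel]
    exact hqA ⟨(U.C.ker qm).1 h1, hq⟩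
  refine ⟨⟨cm, hw', hy'A, hy'Z, q ^ k.val, pow_mem hq _, fun h => hqA ?_, hqy.pow_left _, fun h => ?_⟩⟩
  · have h2 := pow_mem h k.val
    rwa [← pow_mul, pow_eq_pow_mod (k.val * k.val) (hexp q hq), show k.val * k.val % 3 = 1 by
      have := k.2
      obtain e | e : k.val = 1 ∨ k.val = 2 := by omega
      all_goals rw [e], pow_one] at h2
  · rw [show (⟨_, h⟩ : D.M₀) = qt ^ k.val from Subtype.ext (by
      simp only [qt, SubmonoidClass.coe_pow, Subgroup.coe_mul, Subgroup.coe_inv]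
      show c⁻¹ * q ^ k.val * c = (c⁻¹ * q * c) ^ k.val
      rw [show c⁻¹ * q * c = c⁻¹ * q * c⁻¹⁻¹ by group, conj_pow]; group), map_pow, hk, ← pow_mul,
      pow_eq_pow_mod _ s6_basic.2.2.1, show k.val * k.val % 3 = 1 by
        have := k.2
        obtain e | e : k.val = 1 ∨ k.val = 2 := by omega
        all_goals rw [e], pow_one]

end CfsgLib.McLThree.Weak
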