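import Cfsg.Agent.Lib.McLThree.Count
import Cfsg.Agent.Lib.McLThree.Weak.Facts

/-!
Conjugates of the central element inside `J` and inside `Q`.
-/

set_option autoImplicit false
set_option synthInstance.maxSize 8000
set_option synthInstance.maxHeartbeats 200000

namespace CfsgLib.McLThree.Weak

open Subgroup

universe u

variable {G : Type u} [Group G] [Finite G] {D : Setting G} (U : Full D)

/-- Conjugate of the central element. -/
def IsZ (D : Setting G) (w : G) : Prop := ∃ x : G, x * D.z * x⁻¹ = w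

omit [Finite G] in
theorem IsZ.conj {w : G} (h : IsZ D w) (g : G) : IsZ D (g * w * g⁻¹) := by
  obtain ⟨x, rfl⟩ := h
  exact ⟨g * x, by group⟩

include U

theorem isZ_inv {w : G} (h : IsZ D w) : IsZ D w⁻¹ := by
  obtain ⟨x, rfl⟩ := h
  exact ⟨x * (U.p : G), by
    rw [show x * (U.p : G) * D.z * (x * (U.p : G))⁻¹ = x * ((U.p : G) * D.z * (U.p : G)⁻¹) * x⁻¹ by group, U.p_z]
    group⟩

theorem isZ_y : IsZ D U.F.y := ⟨U.g, U.g_z⟩

theorem J_unique {B : Subgroup G} {x : G} (hB : B = D.J.map (MulAut.conj x).toMonoidHom) (hS : B ≤ (D.S : Subgroup G)) :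
    x ∈ normalizer (D.J : Set G) := by
  have e := U.F.eighty_eq hS (by
    rw [hB]
    rintro _ ⟨a, ha, rfl⟩ _ ⟨b, hb, rfl⟩
    rw [← map_mul, ← map_mul, D.J_comm a ha b hb])
    (by rw [hB, card_map_of_injective (MulEquiv.injective _), D.J_card])
  exact norm_of_conj_le fun j hj => (hB.symm.trans e) ▸ mem_map_of_mem _ hj

/-- Conjugates of the central element inside `J` are conjugate in the normalizer of `J`. -/
theorem isZ_fuse {w : G} (hw : w ∈ D.J) (h : IsZ D w) : ∃ x ∈ normalizer (D.J : Set G), x * D.z * x⁻¹ = w := by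
  haveI : Fact (Nat.Prime 3) := ⟨Nat.prime_three⟩
  obtain ⟨x, hx⟩ := h
  set C := centralizer ({w} : Set G)
  set S' := (D.S : Subgroup G).map (MulAut.conj x).toMonoidHom
  have hJC : D.J ≤ C := fun j hj => mem_centralizer_singleton_iff.2 (D.J_comm j hj w hw)
  have hSC : S' ≤ C := by
    rintro _ ⟨s, hs, rfl⟩
    refine mem_centralizer_singleton_iff.2 ?_
    show x * s * x⁻¹ * w = w * (x * s * x⁻¹)
    rw [← hx]
    calc x * s * x⁻¹ * (x * D.z * x⁻¹) = x * (s * D.z) * x⁻¹ := by group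
      _ = _ := by rw [D.z_comm s hs]; group
  obtain ⟨c, hc, R, hR, -, hSR, hJR⟩ := CfsgLib.Local.exists_conj_isPGroup (C := C) (A := S') (B := D.J)
    (D.S.2.map _) (CfsgLib.Local.isPGroup_of_le D.J_le D.S.2) hSC hJC
  have hRcard : Nat.card R ≤ Nat.card (D.S : Subgroup G) := by
    obtain ⟨P, hP⟩ := hR.exists_le_sylow
    exact (card_le_of_le hP).trans_eq (Nat.card_congr (Sylow.equiv P D.S).toEquiv)
  have hRS : S' = R := eq_of_le_of_card_ge hSR (by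
    rwa [card_map_of_injective (MulEquiv.injective _)])
  have hN : x⁻¹ * c ∈ normalizer (D.J : Set G) := J_unique U rfl (by
    rintro _ ⟨j, hj, rfl⟩
    obtain ⟨s, hs, e⟩ := hRS.ge (hJR ⟨j, hj, rfl⟩)
    have e' : x * s * x⁻¹ = c * j * c⁻¹ := e
    rw [show (MulAut.conj (x⁻¹ * c)).toMonoidHom j = s by
      show x⁻¹ * c * j * (x⁻¹ * c)⁻¹ = s
      calc x⁻¹ * c * j * (x⁻¹ * c)⁻¹ = x⁻¹ * (c * j * c⁻¹) * x := by group
        _ = s := by rw [← e']; group]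
    exact hs)
  refine ⟨(x⁻¹ * c)⁻¹, inv_mem hN, ?_⟩
  have hcw : c * w = w * c := mem_centralizer_singleton_iff.1 hc
  calc (x⁻¹ * c)⁻¹ * D.z * (x⁻¹ * c)⁻¹⁻¹ = c⁻¹ * (x * D.z * x⁻¹) * c := by group
    _ = w := by rw [hx, mul_assoc, ← hcw, inv_mul_cancel_left]

/-- The conjugates of the central element inside `J`. -/
theorem orbit_J {w : G} (hw : w ∈ D.J) (h : IsZ D w) :
    w = D.z ∨ w = D.z⁻¹ ∨ ∃ s ∈ (D.S : Subgroup G), w = s * U.F.y * s⁻¹ ∨ w = s * U.F.y⁻¹ * s⁻¹ := by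
  obtain ⟨x, hxJ, hx⟩ := isZ_fuse U hw h
  haveI : Fact (Nat.Prime 3) := ⟨Nat.prime_three⟩
  have hle : (D.S : Subgroup G).map (MulAut.conj x).toMonoidHom ≤ D.M₀ := by
    rintro _ ⟨s, hs, rfl⟩; exact D.M₀_conj hxJ (U.F.S_le_M₀ hs)
  obtain ⟨c, hc, R, hR, -, hSR, hxR⟩ := CfsgLib.Local.exists_conj_isPGroup (C := D.M₀) (A := (D.S : Subgroup G))
    (B := (D.S : Subgroup G).map (MulAut.conj x).toMonoidHom) D.S.2 (D.S.2.map _) U.F.S_le_M₀ hle
  rw [D.S.3 hR hSR] at hxR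
  have hn : c * x ∈ normalizer ((D.S : Subgroup G) : Set G) := by
    refine norm_of_conj_le fun s hs => hxR ⟨x * s * x⁻¹, ⟨s, hs, rfl⟩, ?_⟩
    show c * (x * s * x⁻¹) * c⁻¹ = c * x * s * (c * x)⁻¹
    group
  set n : D.M₀ := ⟨c, hc⟩⁻¹
  have hw' : w = (n : G) * (c * x * D.z * (c * x)⁻¹) * (n : G)⁻¹ := by
    rw [← hx]; show _ = c⁻¹ * _ * c⁻¹⁻¹; group
  obtain ⟨o, ho⟩ := nine_cover (U.C.φ n)
  have hzpm : ∀ m : G, m ∈ normalizer (D.Zc : Set G) →
      m * (c * x * D.z * (c * x)⁻¹) * m⁻¹ = D.z ∨ m * (c * x * D.z * (c * x)⁻¹) * m⁻¹ = D.z⁻¹ := by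
    intro m hm
    rw [show m * (c * x * D.z * (c * x)⁻¹) * m⁻¹ = m * (c * x) * D.z * (m * (c * x))⁻¹ by group]
    exact D.conj_of_norm (mul_mem hm (U.F.norm_S_z hn))
  rcases o with _ | ⟨i, j⟩
  · have h1 : Norm9 (U.C.φ n) := by simpa [wrep] using ho
    rcases hzpm n (U.F.norm_S_z ((U.C.norm9_iff n).1 h1)) with e | e
    · exact Or.inl (hw'.trans e)
    · exact Or.inr (Or.inl (hw'.trans e))
  · obtain ⟨sm, hsm⟩ := U.C.surj (nine i j)
    have hsS : (sm : G) ∈ (D.S : Subgroup G) := (U.C.mem_S sm).1 (hsm ▸ ⟨i, j, rfl⟩)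
    have hm : ((U.g⁻¹ * sm⁻¹ * n : D.M₀) : G) ∈ normalizer (D.Zc : Set G) := by
      refine U.F.norm_S_z ((U.C.norm9_iff _).1 ?_)
      rw [map_mul, map_mul, map_inv, map_inv, hsm, U.φg, ← mul_inv_rev]
      exact ho
    refine Or.inr (Or.inr ⟨sm, hsS, ?_⟩)
    have key : w = (sm : G) * ((U.g : G) * ((((U.g⁻¹ * sm⁻¹ * n : D.M₀) : G)) * (c * x * D.z * (c * x)⁻¹) *
        (((U.g⁻¹ * sm⁻¹ * n : D.M₀) : G))⁻¹) * (U.g : G)⁻¹) * (sm : G)⁻¹ := by
      rw [hw']; push_cast; group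
    rcases hzpm _ hm with e | e
    · exact Or.inl (by rw [key, e, U.g_z])
    · exact Or.inr (by rw [key, e, ← conj_inv, U.g_z])

/-- No mixed product of the two central elements is conjugate to the central element. -/
theorem not_isZ_mix {i j : ℕ} (hi : i % 3 ≠ 0) (hj : j % 3 ≠ 0) : ¬ IsZ D (D.z ^ i * U.F.y ^ j) := by
  intro h
  have hJ : D.z ^ i * U.F.y ^ j ∈ D.J := mul_mem (pow_mem U.F.z_J i) (pow_mem U.F.y_J j)
  have hz2 : D.z⁻¹ = D.z ^ 2 := inv_eq_of_mul_eq_one_left (by rw [← pow_succ]; exact D.z_cube)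
  rcases orbit_J U hJ h with e | e | ⟨s, hs, e⟩
  · have := (U.coord_inj (a := i) (b := j) (a' := 1) (b' := 0) (by simpa using e)).2
    omega
  · have := (U.coord_inj (a := i) (b := j) (a' := 2) (b' := 0) (by simpa [hz2] using e)).2
    omega
  obtain ⟨q, hq, k, rfl⟩ := U.F.S_mem hs
  obtain ⟨b, hb, hbe⟩ : ∃ b : ℕ, (b = 1 ∨ b = 2) ∧ D.z ^ i * U.F.y ^ j = q * U.F.y ^ b * q⁻¹ := by
    rcases e with e | e
    · exact ⟨1, Or.inl rfl, by rw [e]; group⟩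
    · refine ⟨2, Or.inr rfl, ?_⟩
      rw [e, show q * U.F.y ^ k * U.F.y⁻¹ * (q * U.F.y ^ k)⁻¹ = q * U.F.y⁻¹ * q⁻¹ by group]
      rw [show U.F.y⁻¹ = U.F.y ^ 2 from inv_eq_of_mul_eq_one_left (by rw [← pow_succ]; exact U.F.y_cube)]
  have hd : U.dq q ∈ D.A := U.dq_A hq
  have hbd : q * U.F.y ^ b * q⁻¹ = U.dq q ^ b * U.F.y ^ b := by
    rw [← conj_pow, show q * U.F.y * q⁻¹ = U.dq q * U.F.y by rw [Full.dq]; group]
    exact (show Commute (U.dq q) U.F.y from (U.F.y_A hd).symm).mul_pow b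
  rw [hbd] at hbe
  have hQy : U.F.y ^ j * (U.F.y ^ b)⁻¹ = (D.z ^ i)⁻¹ * U.dq q ^ b := by
    rw [mul_inv_eq_iff_eq_mul, mul_assoc, ← hbe]; group
  have hjb : j % 3 = b % 3 := by
    by_contra hne
    refine U.F.y_not_Q ?_
    have hQ : U.F.y ^ j * (U.F.y ^ b)⁻¹ ∈ D.Q := hQy ▸ mul_mem (inv_mem (pow_mem D.z_Q i)) (pow_mem hd.2 b)
    have e1 : U.F.y ^ j * (U.F.y ^ b)⁻¹ = U.F.y ^ (j + 2 * b) := by
      rw [mul_inv_eq_iff_eq_mul, ← pow_add, pow_eq_pow_mod j U.F.y_cube, pow_eq_pow_mod (j + 2 * b + b) U.F.y_cube]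
      congr 1; omega
    rw [e1] at hQ
    have h2 := pow_mem hQ (j + 2 * b)
    rwa [← pow_mul, pow_eq_pow_mod _ U.F.y_cube, show (j + 2 * b) * (j + 2 * b) % 3 = 1 by
      rw [Nat.mul_mod]
      obtain h | h : (j + 2 * b) % 3 = 1 ∨ (j + 2 * b) % 3 = 2 := (by omega)
      all_goals rw [h], pow_one] at h2
  rw [pow_eq_pow_mod j U.F.y_cube, pow_eq_pow_mod b U.F.y_cube, hjb, mul_inv_cancel, eq_inv_mul_iff_mul_eq,
    mul_one] at hQy
  -- the commutator with `y` is then central, so the conjugating element centralises `y`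
  have hdb : U.dq q = (U.dq q ^ b) ^ b := by
    rw [← pow_mul, pow_eq_pow_mod _ (D.J_exp _ hd.1)]
    rcases hb with rfl | rfl <;> simp
  have hdZ : U.dq q ∈ D.Zc := by rw [hdb, ← hQy]; exact pow_mem (pow_mem (mem_zpowers _) _) _
  have hqA : q ∈ D.A := by
    rw [U.F.A_eq]
    refine ⟨hq, ?_⟩
    have h' := inv_mem hdZ
    rwa [show (U.dq q)⁻¹ = U.F.y * q * U.F.y⁻¹ * q⁻¹ by rw [Full.dq]; group] at h'
  have hd1 : U.dq q = 1 := by
    rw [Full.dq, ← U.F.y_A hqA, mul_inv_cancel_right, mul_inv_cancel]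
  rw [hd1, one_pow] at hQy
  have := (U.coord_inj (a := i) (b := 0) (a' := 0) (b' := 0) (by simpa using hQy)).1
  omega

theorem not_isZ_yp : ¬ IsZ D U.yp ∧ ¬ IsZ D U.yp⁻¹ := by
  have h : ¬ IsZ D U.yp := by simpa using not_isZ_mix U (i := 1) (j := 1) (by omega) (by omega)
  exact ⟨h, fun h' => h (by simpa using isZ_inv U h')⟩

/-- Elements of `A` outside the centre are not conjugate to the central element. -/
theorem not_isZ_A {a : G} (ha : a ∈ D.A) (hZ : a ∉ D.Zc) : ¬ IsZ D a := by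
  intro h
  rcases orbit_J U ha.1 h with rfl | rfl | ⟨s, hs, e⟩
  · exact hZ (mem_zpowers _)
  · exact hZ (inv_mem (mem_zpowers _))
  have hy : s⁻¹ * a * s ∈ D.Q := by
    have := D.norm_Q (D.S_norm (inv_mem hs)) ha.2
    rwa [inv_inv] at this
  rcases e with e | e
  · refine U.F.y_not_Q ?_
    rwa [e, show s⁻¹ * (s * U.F.y * s⁻¹) * s = U.F.y by group] at hy
  · refine U.F.y_not_Q ?_
    rw [e, show s⁻¹ * (s * U.F.y⁻¹ * s⁻¹) * s = U.F.y⁻¹ by group] at hy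
    exact inv_mem_iff.1 hy

/-- The stabiliser modulo the centre of an element of `A` lies in the Sylow subgroup. -/
theorem stab_S {a : G} (ha : a ∈ D.A) (hZ : a ∉ D.Zc) {l : G} (hl : l ∈ D.L₀)
    (h : l * a * l⁻¹ * a⁻¹ ∈ D.Zc) : l ∈ (D.S : Subgroup G) := by
  let St : Subgroup D.L₀ :=
    { carrier := {l | (l : G) * a * (l : G)⁻¹ * a⁻¹ ∈ D.Zc}
      one_mem' := by simp
      mul_mem' := fun {b c} hb hc => by
        show ((b * c : D.L₀) : G) * a * ((b * c : D.L₀) : G)⁻¹ * a⁻¹ ∈ D.Zc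
        rw [show ((b * c : D.L₀) : G) * a * ((b * c : D.L₀) : G)⁻¹ * a⁻¹ =
          (b : G) * ((c : G) * a * (c : G)⁻¹ * a⁻¹) * (b : G)⁻¹ * ((b : G) * a * (b : G)⁻¹ * a⁻¹) by push_cast; group,
          D.conj_comm (D.L₀_z b.2) hc]
        exact mul_mem hc hb
      inv_mem' := fun {b} hb => by
        show ((b⁻¹ : D.L₀) : G) * a * ((b⁻¹ : D.L₀) : G)⁻¹ * a⁻¹ ∈ D.Zc
        rw [show ((b⁻¹ : D.L₀) : G) * a * ((b⁻¹ : D.L₀) : G)⁻¹ * a⁻¹ =
          (b : G)⁻¹ * ((b : G) * a * (b : G)⁻¹ * a⁻¹)⁻¹ * (b : G)⁻¹⁻¹ by push_cast; group,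
          D.conj_comm (D.L₀_z (inv_mem b.2)) (inv_mem hb)]
        exact inv_mem hb }
  set P := St.map D.φL
  have hz5 : z5 ∉ P := by
    rintro ⟨b, hb, hbz⟩
    have hbt : ((b : D.L₀) : G)⁻¹ * U.F.t ∈ D.Q := (D.φL_ker (b⁻¹ * ⟨U.F.t, U.F.t_L₀⟩)).1 (by
      rw [map_mul, map_inv, hbz, U.F.t_φ, inv_mul_cancel])
    have h1 : U.F.t * a * U.F.t⁻¹ * a⁻¹ ∈ D.Zc := by
      set r := ((b : D.L₀) : G)⁻¹ * U.F.t
      rw [show U.F.t = (b : G) * r by simp [r],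
        show (b : G) * r * a * ((b : G) * r)⁻¹ * a⁻¹ =
          (b : G) * (r * a * r⁻¹ * a⁻¹) * (b : G)⁻¹ * ((b : G) * a * (b : G)⁻¹ * a⁻¹) by group,
        D.conj_comm (D.L₀_z b.2) (D.Q_comm r hbt a ha.2)]
      exact mul_mem (D.Q_comm r hbt a ha.2) hb
    have h2 := D.invert_Q U.F.t_L₀ U.F.t_sq U.F.t_φ a ha.2
    have h3 : (a * a) ∈ D.Zc := by
      have h4 := mul_mem (inv_mem h1) h2
      rwa [show (U.F.t * a * U.F.t⁻¹ * a⁻¹)⁻¹ * (U.F.t * a * U.F.t⁻¹ * a) = a * a by group] at h4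
    refine hZ ?_
    have h5 := mul_mem h3 h3
    rwa [show a * a * (a * a) = a ^ 3 * a by rw [pow_succ, pow_two]; group, D.J_exp a ha.1, one_mul] at h5
  have hy : U.F.yφ ∈ P := ⟨⟨U.F.y, U.F.y_L₀⟩, by
    show U.F.y * a * U.F.y⁻¹ * a⁻¹ ∈ D.Zc
    rw [U.F.y_A ha, mul_inv_cancel_right, mul_inv_cancel]; exact one_mem _, rfl⟩
  obtain ⟨b, hb⟩ := U.F.yφ_conj
  set v := D.φL ⟨l, hl⟩
  have hv : v ∈ P := ⟨⟨l, hl⟩, h, rfl⟩
  set x := b⁻¹ * v * b
  have hpow : ∃ i : ℕ, x = u5 ^ i := by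
    by_contra hno
    push Not at hno
    obtain ⟨k, hk⟩ := k5_escape x (by simpa using hno 0) (by simpa using hno 1) (hno 2)
    have hmem : U.F.yφ ^ k.val * v ∈ P := mul_mem (pow_mem hy _) hv
    have e : U.F.yφ ^ k.val * v = b * (u5 ^ k.val * x) * b⁻¹ := by
      rw [← hb, conj_pow]; simp only [x]; group
    rcases hk with hk | hk
    · have h15 := pow_mem hmem 15
      rw [e, conj_pow, hk, k5_basic.2.2.2.2.1, mul_inv_cancel_right] at h15
      exact hz5 h15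
    · have h15 := pow_mem hmem 2
      rw [e, conj_pow, hk, k5_basic.2.2.2.2.1, mul_inv_cancel_right] at h15
      exact hz5 h15
  obtain ⟨i, hi⟩ := hpow
  have hQ : l * (U.F.y ^ i)⁻¹ ∈ D.Q := (D.φL_ker (⟨l, hl⟩ * ((⟨U.F.y, U.F.y_L₀⟩ : D.L₀) ^ i)⁻¹)).1 (by
    rw [map_mul, map_inv, map_pow, show D.φL ⟨U.F.y, U.F.y_L₀⟩ = b * u5 * b⁻¹ from hb.symm, conj_pow, ← hi]
    simp [x, v, mul_assoc])
  have := mul_mem (D.Q_le hQ) (pow_mem U.F.y_S i)
  rwa [inv_mul_cancel_right] at this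

/-- The centralizer of the central element and an element of `A` outside the centre normalises `J`. -/
theorem cent_z_A {a : G} (ha : a ∈ D.A) (hZ : a ∉ D.Zc) {x : G} (hz : x * D.z = D.z * x) (hxa : x * a = a * x) :
    x ∈ normalizer (D.J : Set G) := by
  refine J_unique U rfl ?_
  rintro _ ⟨j, hj, rfl⟩
  show x * j * x⁻¹ ∈ _
  have hjz : Commute j D.z := D.J_comm j hj _ U.F.z_J
  have hc : Commute (x * j * x⁻¹) D.z :=
    ((show Commute x D.z from hz).mul_left hjz).mul_left (show Commute x D.z from hz).inv_left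
  have hca : Commute (x * j * x⁻¹) a :=
    ((show Commute x a from hxa).mul_left (D.J_comm j hj a ha.1)).mul_left (show Commute x a from hxa).inv_left
  have h3 : ∃ k : ℕ, orderOf (x * j * x⁻¹) = 3 ^ k := by
    obtain ⟨i, -, hi⟩ := (Nat.dvd_prime_pow Nat.prime_three).1
      (orderOf_dvd_of_pow_eq_one (show (x * j * x⁻¹) ^ 3 ^ 1 = 1 by
        rw [pow_one, conj_pow, D.J_exp j hj, mul_one, mul_inv_cancel]))
    exact ⟨i, hi⟩
  refine stab_S U ha hZ (D.three_mem_L₀ (D.comm_norm hc.eq) h3) ?_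
  rw [hca.eq, mul_inv_cancel_right, mul_inv_cancel]
  exact one_mem _

/-- Elements of the core outside the centre are not conjugate to the central element. -/
theorem not_isZ_Q {q : G} (hq : q ∈ D.Q) (hZ : q ∉ D.Zc) : ¬ IsZ D q := by
  obtain ⟨b, hb⟩ := U.F.yφ_conj
  choose r hr using fun i => D.φL_surj (b * rep10 i * b⁻¹)
  set AZ := {a : G // a ∈ D.A ∧ a ∉ D.Zc}
  set QZ := {a : G // a ∈ D.Q ∧ a ∉ D.Zc}
  have hmem : ∀ i : Fin 2 × Fin 5, ∀ a : AZ, (r i : G) * a * (r i : G)⁻¹ ∈ D.Q ∧ (r i : G) * a * (r i : G)⁻¹ ∉ D.Zc := by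
    refine fun i a => ⟨D.norm_Q (D.L₀_norm (r i).2) a.2.1.2, fun h => a.2.2 ?_⟩
    have := (Subgroup.mem_normalizer_iff.1 (D.L₀_norm (r i).2) a).2 h
    exact this
  let f : (Fin 2 × Fin 5) × AZ → QZ := fun p => ⟨_, hmem p.1 p.2⟩
  have hinj : Function.Injective f := by
    rintro ⟨i, a⟩ ⟨j, c⟩ e
    have e' : (r i : G) * a * (r i : G)⁻¹ = (r j : G) * c * (r j : G)⁻¹ := congrArg Subtype.val e
    set w : D.L₀ := (r j)⁻¹ * r i
    have hwc : (w : G) * a * (w : G)⁻¹ = c := by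
      show ((r j : G)⁻¹ * r i) * a * ((r j : G)⁻¹ * r i)⁻¹ = c
      rw [show ((r j : G)⁻¹ * r i) * a * ((r j : G)⁻¹ * r i)⁻¹ = (r j : G)⁻¹ * ((r i : G) * a * (r i : G)⁻¹) * (r j : G) by
        group, e']
      group
    set l : D.L₀ := w * ⟨U.F.y, U.F.y_L₀⟩ * w⁻¹
    have hlS : (l : G) ∈ (D.S : Subgroup G) := by
      refine stab_S U c.2.1 c.2.2 l.2 ?_
      have hya := U.F.y_A a.2.1
      rw [show (l : G) * c * (l : G)⁻¹ * (c : G)⁻¹ = (w : G) * (U.F.y * a * U.F.y⁻¹ * (a : G)⁻¹) * (w : G)⁻¹ by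
        rw [← hwc]; simp only [l]; push_cast; group, hya, mul_inv_cancel_right, mul_inv_cancel]
      simp
    obtain ⟨q', hq', k, hk⟩ := U.F.S_mem hlS
    have hl : D.φL l = U.F.yφ ^ k := by
      rw [show l = ⟨q', D.Q_le_L₀ hq'⟩ * (⟨U.F.y, U.F.y_L₀⟩ : D.L₀) ^ k from Subtype.ext (by simpa using hk),
        map_mul, map_pow, D.φL_Q hq', one_mul]
    have hij : i = j := by
      refine rep10_sep i j ?_
      set s := (rep10 j)⁻¹ * rep10 i
      have e2 : b * (s * u5 * s⁻¹) * b⁻¹ = b * u5 ^ (k % 3) * b⁻¹ := by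
        rw [← pow_eq_pow_mod k k5_basic.1, ← conj_pow, hb, ← hl]
        simp only [l, w, map_mul, map_inv, hr, s]
        rw [show D.φL ⟨U.F.y, U.F.y_L₀⟩ = b * u5 * b⁻¹ from hb.symm]
        group
      have e3 := mul_left_cancel (mul_right_cancel e2)
      obtain h | h | h : k % 3 = 0 ∨ k % 3 = 1 ∨ k % 3 = 2 := by omega
      · rw [h, pow_zero, conj_eq_one_iff] at e3; exact absurd e3 k5_basic.2.1
      · rw [h, pow_one] at e3; exact Or.inl e3
      · rw [h] at e3; exact Or.inr e3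
    subst hij
    exact Prod.ext rfl (Subtype.ext (mul_left_cancel (mul_right_cancel e')))
  have hcount : ∀ B : Subgroup G, D.Zc ≤ B → Nat.card {a : G // a ∈ B ∧ a ∉ D.Zc} + 3 = Nat.card B := by
    intro B hB
    classical
    rw [← D.card_Zc]
    haveI := Fintype.ofFinite G
    simp only [Nat.card_eq_fintype_card, Fintype.card_subtype]
    rw [← Finset.card_union_of_disjoint (Finset.disjoint_filter.2 fun a _ h h' => h.2 h')]
    refine congrArg Finset.card (Finset.ext fun a => ?_)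
    simp only [Finset.mem_union, Finset.mem_filter, Finset.mem_univ, true_and]
    exact ⟨fun h => h.elim (fun h => h.1) (fun h => hB h), fun h => (em (a ∈ D.Zc)).symm.imp (fun h' => ⟨h, h'⟩) id⟩
  have hQZ : Nat.card QZ + 3 = Nat.card D.Q := hcount D.Q D.Zc_le_Q
  have hAZ : Nat.card AZ + 3 = Nat.card D.A := hcount D.A U.F.Zc_A
  rw [D.Q_card] at hQZ
  rw [U.F.card_A] at hAZ
  have hbij : Function.Bijective f := (Nat.bijective_iff_injective_and_card f).2 ⟨hinj, by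
    rw [Nat.card_prod, Nat.card_prod, Nat.card_fin, Nat.card_fin]
    omega⟩
  obtain ⟨⟨i, a⟩, ha⟩ := hbij.2 ⟨q, hq, hZ⟩
  intro h
  refine not_isZ_A U a.2.1 a.2.2 ?_
  have := h.conj ((r i : G)⁻¹)
  rwa [← show (r i : G) * a * (r i : G)⁻¹ = q from congrArg Subtype.val ha,
    show (r i : G)⁻¹ * ((r i : G) * a * (r i : G)⁻¹) * (r i : G)⁻¹⁻¹ = a by group] at this

end CfsgLib.McLThree.Weak
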