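import Cfsg.Agent.Lib.McLThree.Weak.TransferI
import Cfsg.Agent.Lib.McLThree.Weak.AxesCent

/-!
The centralizer of `w` and the involutions inverting it.
-/

set_option autoImplicit false

namespace CfsgLib.McLThree.Weak

open Subgroup Fin.NatCast

universe u

theorem zmod_val_succ : ∀ z : ZMod 3, z ≠ 0 → z + z ≠ 0 := by decide

namespace Bar

variable {X : Type u} [Group X] [Finite X] (B : Bar X)

include B

theorem w_z1_comm (k m : ℕ) : Commute (B.w ^ k) (B.z1 ^ m) := (show Commute B.w B.z1 from B.z1_w).pow_pow k m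

/-- The Sylow subgroup of the centralizer of `w`. -/
def Q9 : Subgroup X where
  carrier := {x | ∃ k m : ℕ, x = B.w ^ k * B.z1 ^ m}
  one_mem' := ⟨0, 0, by simp⟩
  mul_mem' := by
    rintro _ _ ⟨k, m, rfl⟩ ⟨k', m', rfl⟩
    refine ⟨k + k', m + m', ?_⟩
    rw [pow_add, pow_add, (B.w_z1_comm k' m).mul_mul_mul_comm]
  inv_mem' := by
    rintro _ ⟨k, m, rfl⟩
    refine ⟨2 * k, 2 * m, inv_eq_of_mul_eq_one_right ?_⟩
    rw [(B.w_z1_comm (2 * k) m).symm.mul_mul_mul_comm, ← pow_add, ← pow_add, show k + 2 * k = 3 * k by ring,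
      show m + 2 * m = 3 * m by ring, pow_mul, pow_mul, B.w_cube, B.J_exp _ B.z1_mem, one_pow, one_pow, one_mul]

theorem Q9_cube {q : X} (hq : q ∈ B.Q9) : q ^ 3 = 1 := by
  obtain ⟨k, m, rfl⟩ := hq
  rw [(B.w_z1_comm k m).mul_pow, ← pow_mul, ← pow_mul, mul_comm k, mul_comm m, pow_mul, pow_mul, B.w_cube,
    B.J_exp _ B.z1_mem, one_pow, one_pow, one_mul]

theorem Q9_comm {p q : X} (hp : p ∈ B.Q9) (hq : q ∈ B.Q9) : p * q = q * p := by
  obtain ⟨k, m, rfl⟩ := hp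
  obtain ⟨k', m', rfl⟩ := hq
  have h1 : Commute (B.w ^ k * B.z1 ^ m) (B.w ^ k') :=
    ((Commute.refl B.w).pow_pow k k').mul_left (B.w_z1_comm k' m).symm
  have h2 : Commute (B.w ^ k * B.z1 ^ m) (B.z1 ^ m') :=
    (B.w_z1_comm k m').mul_left ((Commute.refl B.z1).pow_pow m m')
  exact (h1.mul_right h2).eq

theorem w_Q9 : B.w ∈ B.Q9 := ⟨1, 0, by simp⟩

theorem z1_Q9 : B.z1 ∈ B.Q9 := ⟨0, 1, by simp⟩

theorem Q9_T : B.Q9 ≤ B.T := by
  rintro _ ⟨k, m, rfl⟩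
  exact mul_mem (pow_mem B.w_T k) (B.J_T (pow_mem B.z1_mem m))

theorem T_w {x : X} (hx : x ∈ B.T) : x * B.w * x⁻¹ * B.w⁻¹ ∈ B.J := by
  obtain ⟨j, hj, k, -, rfl⟩ := B.mem_T.1 hx
  rw [show j * B.w ^ k * B.w * (j * B.w ^ k)⁻¹ * B.w⁻¹ = j * (B.w * j⁻¹ * B.w⁻¹) by group]
  exact mul_mem hj ((Subgroup.mem_normalizer_iff.1 B.w_N j⁻¹).1 (inv_mem hj))

theorem w_not_J : B.w ∉ B.J := fun h => by
  have := (B.H1_unique (one_mem _) (one_mem _) (k := 1) (by norm_num) (by simpa using h)).2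
  omega

theorem T_no_invert {x : X} (hx : x ∈ B.T) : x * B.w * x⁻¹ ≠ B.w⁻¹ := by
  intro h
  have h' := B.T_w hx
  rw [h, ← mul_inv_rev] at h'
  have h2 := inv_mem_iff.1 h'
  exact B.w_not_J (odd_pow_mem h2 (n := 1) (by simpa using B.w_cube))

/-- A complement to the Sylow subgroup in the centralizer of `w`. -/
structure Core where
  /-- the complement -/
  R : Subgroup X
  /-- inside the centralizer -/
  R_le : R ≤ centralizer ({B.w} : Set X)
  /-- of order prime to three -/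
  R_three : ¬ 3 ∣ Nat.card R
  /-- normal there -/
  R_norm : centralizer ({B.w} : Set X) ≤ normalizer (R : Set X)
  /-- a complement -/
  R_split : ∀ x ∈ centralizer ({B.w} : Set X), ∃ ρ ∈ R, ∃ q ∈ B.Q9, ρ * q = x

theorem Q9_cent : B.Q9 ≤ centralizer ({B.w} : Set X) := fun _ hq =>
  mem_centralizer_singleton_iff.2 (B.Q9_comm hq B.w_Q9)

variable (hcov : Covered B) (F : Flip B)

include hcov F

theorem exists_core : Nonempty B.Core := by
  haveI : Fact (Nat.Prime 3) := ⟨Nat.prime_three⟩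
  have hmem : ∀ x ∈ B.T, x * B.w = B.w * x → x ∈ B.Q9 := by
    intro x hx hw
    obtain ⟨m, k, e⟩ := B.cent_w_N hcov (B.H1_N (B.T_H1 hx)) (mul_inv_eq_iff_eq_mul.2 hw)
    exact ⟨k, m.val, by rw [e, (B.w_z1_comm k m.val).eq]⟩
  have hconj : ∀ x : X, x * B.w = B.w * x → x ∈ normalizer (B.Q9 : Set X) →
      x * B.z1 * x⁻¹ = B.z1 ∨ x * B.z1 * x⁻¹ = B.z1⁻¹ := by
    intro x hw hn
    have h1 := (Subgroup.mem_normalizer_iff.1 hn _).1 B.z1_Q9
    have hJ := B.z1_conj_J (B.Q9_T h1) (g := x) rfl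
    obtain ⟨m, hm⟩ := B.cent_J_w hJ (B.Q9_comm B.w_Q9 h1)
    rcases zmod_one_or m with rfl | rfl | rfl
    · rw [ZMod.val_zero, pow_zero, conj_eq_one_iff] at hm
      exact absurd hm B.z1_ne
    · exact Or.inl (by rw [hm, ZMod.val_one, pow_one])
    · refine Or.inr (hm.trans (eq_inv_of_mul_eq_one_left ?_))
      rw [show ((2 : ZMod 3).val) = 2 from rfl, ← pow_succ]; exact B.J_exp _ B.z1_mem
  have hp9 : IsPGroup 3 B.Q9 := fun q => ⟨1, Subtype.ext (by simpa using B.Q9_cube q.2)⟩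
  obtain ⟨R, hRC, hR3, hRn, hsplit⟩ := burnside_split (centralizer ({B.w} : Set X)) B.Q9 B.Q9_cent hp9
    (fun P hPC hP hle => by
      by_contra hne
      obtain ⟨x, hx, hxQ, hxn⟩ := CfsgLib.McLThree.p_group_grows hP hle (Ne.symm hne)
      have hxw : x * B.w = B.w * x := mem_centralizer_singleton_iff.1 (hPC hx)
      have hsq : x * x ∈ centralizer ({B.z1} : Set X) := by
        refine mem_centralizer_singleton_iff.2 (mul_inv_eq_iff_eq_mul.1 ?_)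
        rw [show x * x * B.z1 * (x * x)⁻¹ = x * (x * B.z1 * x⁻¹) * x⁻¹ by group]
        rcases hconj x hxw hxn with e | e
        · rw [e, e]
        · rw [e, ← conj_inv, e, inv_inv]
      obtain ⟨k, hk⟩ := hP ⟨x, hx⟩
      obtain ⟨n, hn⟩ : Odd (3 ^ k) := Odd.pow (by decide)
      exact hxQ (hmem x (B.cent_z1_T hcov (odd_pow_mem hsq (hn ▸ congrArg Subtype.val hk))) hxw))
    (fun x hx hxn q hq => by
      have hxw : x * B.w = B.w * x := mem_centralizer_singleton_iff.1 hx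
      rcases hconj x hxw hxn with e | e
      · exact B.Q9_comm (hmem x (B.cent_z1_T hcov (mem_centralizer_singleton_iff.2
          (mul_inv_eq_iff_eq_mul.1 e))) hxw) hq
      · exfalso
        refine B.T_no_invert (B.cent_z1_T hcov (mem_centralizer_singleton_iff.2
          (mul_inv_eq_iff_eq_mul.1 (?_ : x * F.r * B.z1 * (x * F.r)⁻¹ = B.z1)))) ?_
        · rw [show x * F.r * B.z1 * (x * F.r)⁻¹ = x * (F.r * B.z1 * F.r⁻¹) * x⁻¹ by group, F.r_z, ← conj_inv, e,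
            inv_inv]
        · rw [show x * F.r * B.w * (x * F.r)⁻¹ = x * (F.r * B.w * F.r⁻¹) * x⁻¹ by group, F.r_w, ← conj_inv, hxw,
            mul_inv_cancel_right])
  exact ⟨⟨R, hRC, hR3, hRn, hsplit⟩⟩

variable (K : B.Core)

theorem R_coprime {x : X} (hx : x * B.w = B.w * x) (h : ¬ 3 ∣ orderOf x) : x ∈ K.R := by
  obtain ⟨ρ, hρ, q, hq, rfl⟩ := K.R_split x (mem_centralizer_singleton_iff.2 hx)
  have hn := K.R_norm (B.Q9_cent hq)
  have h3 : (ρ * q) ^ 3 ∈ K.R := by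
    rw [show (ρ * q) ^ 3 = ρ * (q * ρ * q⁻¹) * (q * (q * ρ * q⁻¹) * q⁻¹) * q ^ 3 by
      simp only [pow_succ, pow_zero, one_mul]; group, B.Q9_cube hq, mul_one]
    exact mul_mem (mul_mem hρ ((Subgroup.mem_normalizer_iff.1 hn ρ).1 hρ))
      ((Subgroup.mem_normalizer_iff.1 hn _).1 ((Subgroup.mem_normalizer_iff.1 hn ρ).1 hρ))
  obtain ⟨m, hm⟩ := exists_pow_eq_self_of_coprime ((Nat.Prime.coprime_iff_not_dvd Nat.prime_three).2 h)
  rw [← hm]
  exact pow_mem h3 m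

omit hcov F in
theorem R_order {ρ : X} (hρ : ρ ∈ K.R) : ¬ 3 ∣ orderOf ρ :=
  fun h => K.R_three (h.trans (Subgroup.orderOf_dvd_natCard K.R hρ))

theorem r_R {ρ : X} (hρ : ρ ∈ K.R) : F.r * ρ * F.r⁻¹ ∈ K.R := by
  refine B.R_coprime hcov F K ?_ ?_
  · have hc : ρ * B.w = B.w * ρ := mem_centralizer_singleton_iff.1 (K.R_le hρ)
    have h : Commute (F.r * ρ * F.r⁻¹) (F.r * B.w * F.r⁻¹) := by
      show _ = _
      rw [conj_mul, conj_mul, hc]
    rw [F.r_w] at h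
    have h' := h.inv_right
    rw [inv_inv] at h'
    exact h'.eq
  · rw [show orderOf (F.r * ρ * F.r⁻¹) = orderOf ρ from (MulEquiv.orderOf_eq (MulAut.conj F.r) ρ)]
    exact B.R_order K hρ

theorem R_z1 {ρ : X} (hρ : ρ ∈ K.R) (h : ρ * B.z1 = B.z1 * ρ) : ρ = 1 := by
  obtain ⟨k, hk⟩ := B.T_pgroup ⟨ρ, B.cent_z1_T hcov (mem_centralizer_singleton_iff.2 h)⟩
  have hd : orderOf ρ ∣ 3 ^ k := orderOf_dvd_of_pow_eq_one (congrArg Subtype.val hk)
  obtain ⟨i, -, hi⟩ := (Nat.dvd_prime_pow Nat.prime_three).1 hd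
  rcases i with _ | i
  · exact orderOf_eq_one_iff.1 (by simpa using hi)
  · exact absurd (hi ▸ dvd_pow_self 3 i.succ_ne_zero) (B.R_order K hρ)

theorem fpf_cube {ρ : X} (hρ : ρ ∈ K.R) : (ρ * B.z1) ^ 3 = 1 := by
  have hn := K.R_norm (B.Q9_cent B.z1_Q9)
  let f : K.R → K.R := fun a => ⟨(a : X) * (B.z1 * (a : X)⁻¹ * B.z1⁻¹),
    mul_mem a.2 ((Subgroup.mem_normalizer_iff.1 hn _).1 (inv_mem a.2))⟩
  have hf : Function.Injective f := by
    intro a b e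
    have e' : (a : X) * (B.z1 * (a : X)⁻¹ * B.z1⁻¹) = (b : X) * (B.z1 * (b : X)⁻¹ * B.z1⁻¹) := congrArg Subtype.val e
    have hc : (b : X)⁻¹ * a * B.z1 = B.z1 * ((b : X)⁻¹ * a) := by
      calc (b : X)⁻¹ * a * B.z1 = (b : X)⁻¹ * ((a : X) * (B.z1 * (a : X)⁻¹ * B.z1⁻¹)) * B.z1 * a := by group
        _ = _ := by rw [e']; group
    exact Subtype.ext (inv_mul_eq_one.1 (B.R_z1 hcov F K (mul_mem (inv_mem b.2) a.2) hc)).symm
  obtain ⟨a, ha⟩ := (Finite.injective_iff_surjective.1 hf) ⟨ρ, hρ⟩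
  have e : (a : X) * (B.z1 * (a : X)⁻¹ * B.z1⁻¹) = ρ := congrArg Subtype.val ha
  rw [← e, show (a : X) * (B.z1 * (a : X)⁻¹ * B.z1⁻¹) * B.z1 = a * B.z1 * (a : X)⁻¹ by group, conj_pow,
    B.J_exp _ B.z1_mem, mul_one, mul_inv_cancel]

theorem Q9_r {q : X} (hq : q ∈ B.Q9) : F.r * q * F.r⁻¹ = q⁻¹ := by
  obtain ⟨k, m, rfl⟩ := hq
  rw [← conj_mul, ← conj_pow, ← conj_pow, F.r_w, F.r_z, inv_pow, inv_pow, ← mul_inv_rev, (B.w_z1_comm k m).eq]

include K in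
/-- Involutions inverting `w` are conjugate to the flip. -/
theorem invol_M {c : X} (h2 : c * c = 1) (hw : c * B.w * c⁻¹ = B.w⁻¹) : ∃ g, g * F.r * g⁻¹ = c := by
  have hri : F.r⁻¹ = F.r := inv_eq_of_mul_eq_one_right F.r_sq
  obtain ⟨ρ, hρ, q, hq, e⟩ := K.R_split (c * F.r) (mem_centralizer_singleton_iff.2 (mul_inv_eq_iff_eq_mul.1 (by
    rw [show c * F.r * B.w * (c * F.r)⁻¹ = c * (F.r * B.w * F.r⁻¹) * c⁻¹ by group, F.r_w, ← conj_inv, hw, inv_inv])))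
  have hc : c = ρ * q * F.r := by rw [e, mul_assoc, F.r_sq, mul_one]
  set s := q ^ 2 with hs
  have hsQ : s ∈ B.Q9 := pow_mem hq 2
  have hsr : s * F.r * s⁻¹ = q * F.r := by
    have hh : F.r * s⁻¹ = s * F.r := by
      calc F.r * s⁻¹ = F.r * s⁻¹ * F.r⁻¹ * F.r := by group
        _ = s * F.r := by rw [← conj_inv, B.Q9_r hcov F hsQ, inv_inv]
    rw [mul_assoc, hh, ← mul_assoc, hs, ← pow_add, pow_eq_pow_mod _ (B.Q9_cube hq),
      show (2 + 2) % 3 = 1 from rfl, pow_one]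
  set ρ' := s⁻¹ * ρ * s
  have hρ' : ρ' ∈ K.R := by
    have := (Subgroup.mem_normalizer_iff.1 (K.R_norm (B.Q9_cent (inv_mem hsQ))) ρ).1 hρ
    rwa [inv_inv] at this
  have hc' : c = s * (ρ' * F.r) * s⁻¹ := by
    rw [hc, show ρ * q * F.r = ρ * (q * F.r) by group, ← hsr]; simp only [ρ']; group
  have hinv : ρ' * F.r * (ρ' * F.r) = 1 := by
    calc ρ' * F.r * (ρ' * F.r) = s⁻¹ * (c * c) * s := by rw [hc']; group
      _ = 1 := by rw [h2]; group
  have hrr : F.r * ρ' * F.r⁻¹ = ρ'⁻¹ := by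
    rw [hri]
    exact eq_inv_of_mul_eq_one_right (by rw [← mul_assoc, ← mul_assoc]; rwa [← mul_assoc] at hinv)
  set σ := ρ'⁻¹
  have hcube := B.fpf_cube hcov F K (inv_mem hρ')
  set a := B.z1 * σ * B.z1⁻¹
  have hra : F.r * a⁻¹ * F.r⁻¹ = B.z1⁻¹ * σ * B.z1 := by
    rw [show F.r * a⁻¹ * F.r⁻¹ = F.r * B.z1 * F.r⁻¹ * (F.r * ρ' * F.r⁻¹) * (F.r * B.z1 * F.r⁻¹)⁻¹ by
      simp only [a, σ]; group, hrr, F.r_z, inv_inv]
  have hz2 : B.z1⁻¹ * B.z1⁻¹ = B.z1 := by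
    rw [← mul_inv_rev, inv_eq_iff_mul_eq_one, ← pow_two, ← pow_succ, B.J_exp _ B.z1_mem]
  have ha : a * F.r * a⁻¹ = ρ' * F.r := by
    calc a * F.r * a⁻¹ = a * (F.r * a⁻¹ * F.r⁻¹) * F.r := by group
      _ = B.z1 * σ * (B.z1⁻¹ * B.z1⁻¹) * σ * B.z1 * F.r := by rw [hra]; simp only [a]; group
      _ = σ⁻¹ * ((σ * B.z1) ^ 3) * F.r := by
        rw [hz2]; simp only [pow_succ, pow_zero, one_mul]; group
      _ = ρ' * F.r := by rw [hcube, mul_one, inv_inv]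
  exact ⟨s * a, by rw [hc', ← ha]; group⟩

/-- Involutions inverting the product of the axes are conjugate to the flip. -/
theorem invol_M9 {c : X} (h2 : c * c = 1) (hz : c * B.z1 * c⁻¹ = B.z1⁻¹) : ∃ g, g * F.r * g⁻¹ = c := by
  have hri : F.r⁻¹ = F.r := inv_eq_of_mul_eq_one_right F.r_sq
  have hcT : c * F.r ∈ B.T := B.cent_z1_T hcov (mem_centralizer_singleton_iff.2 (mul_inv_eq_iff_eq_mul.1 (by
    rw [show c * F.r * B.z1 * (c * F.r)⁻¹ = c * (F.r * B.z1 * F.r⁻¹) * c⁻¹ by group, F.r_z, ← conj_inv, hz, inv_inv])))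
  obtain ⟨j, hj, k, -, e⟩ := B.mem_T.1 hcT
  have hc : c = j * B.w ^ k * F.r := by rw [← e, mul_assoc, F.r_sq, mul_one]
  set a := B.w ^ (2 * k) with ha
  have har : a * F.r * a⁻¹ = B.w ^ k * F.r := by
    have hh : F.r * a⁻¹ = a * F.r := by
      calc F.r * a⁻¹ = F.r * a⁻¹ * F.r⁻¹ * F.r := by group
        _ = a * F.r := by rw [← conj_inv, ha, ← conj_pow, F.r_w, inv_pow, inv_inv]
    rw [mul_assoc, hh, ← mul_assoc, ha, ← pow_add, show 2 * k + 2 * k = 3 * k + k by ring, pow_add, pow_mul,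
      B.w_cube, one_pow, one_mul]
  set j' := a⁻¹ * j * a
  have hj' : j' ∈ B.J := by
    have := (Subgroup.mem_normalizer_iff.1 (inv_mem (pow_mem B.w_N (2 * k))) j).1 hj
    rwa [inv_inv] at this
  have hc' : c = a * (j' * F.r) * a⁻¹ := by
    rw [hc, show j * B.w ^ k * F.r = j * (B.w ^ k * F.r) by group, ← har]; simp only [j']; group
  have hinv : j' * F.r * (j' * F.r) = 1 := by
    calc j' * F.r * (j' * F.r) = a⁻¹ * (c * c) * a := by rw [hc']; group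
      _ = 1 := by rw [h2]; group
  have hrr : F.r * j' * F.r⁻¹ = j'⁻¹ := by
    rw [hri]
    exact eq_inv_of_mul_eq_one_right (by rw [← mul_assoc, ← mul_assoc]; rwa [← mul_assoc] at hinv)
  set b := j' ^ 2 with hb
  refine ⟨a * b, ?_⟩
  rw [hc']
  have h : b * F.r * b⁻¹ = j' * F.r := by
    have hh : F.r * b⁻¹ = b * F.r := by
      calc F.r * b⁻¹ = F.r * b⁻¹ * F.r⁻¹ * F.r := by group
        _ = b * F.r := by rw [← conj_inv, hb, ← conj_pow, hrr, inv_pow, inv_inv]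
    rw [mul_assoc, hh, ← mul_assoc, hb, ← pow_add, pow_eq_pow_mod _ (B.J_exp _ hj'),
      show (2 + 2) % 3 = 1 from rfl, pow_one]
  rw [← h]; group

/-- The first involution is not conjugate to the flip. -/
theorem v0_not_r (g : X) : g * F.r * g⁻¹ ≠ B.v 0 := by
  intro hg
  obtain ⟨t, ht, hrt⟩ : ∃ t : ZMod 3, t ≠ 0 ∧ F.r * B.a 1 * F.r⁻¹ = B.a 2 ^ t.val := by
    rcases F.r_a1 with e | e
    · exact ⟨1, one_ne_zero, by rw [e]; simp [ZMod.val_one]⟩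
    · refine ⟨-1, by decide +revert, ?_⟩
      rw [e, show ((-1 : ZMod 3).val) = 2 from rfl]
      exact (eq_inv_of_mul_eq_one_left (by rw [← pow_succ]; exact B.J_exp _ (B.a_J _))).symm
  set p : Fin 3 → ZMod 3 := Pi.single 1 1 + Pi.single 2 t with hp
  set j0 := B.el p
  have hj0e : j0 = B.a 1 * (F.r * B.a 1 * F.r⁻¹) := by
    simp only [j0, hp]
    rw [B.el_add, B.el_axis, B.el_axis, hrt, ZMod.val_one, pow_one]
  have hp1 : p 1 = 1 := by rw [hp, Pi.add_apply, Pi.single_eq_same, Pi.single_eq_of_ne (by decide : (1 : Fin 3) ≠ 2), add_zero]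
  have hp2 : p 2 = t := by rw [hp, Pi.add_apply, Pi.single_eq_same, Pi.single_eq_of_ne (by decide : (2 : Fin 3) ≠ 1), zero_add]
  have hne : j0 ≠ 1 := fun e => by
    have := congrFun (B.el_kernel e) 1
    rw [hp1] at this
    exact one_ne_zero this
  have hfix : j0 * F.r = F.r * j0 := by
    refine (mul_inv_eq_iff_eq_mul.1 ?_).symm
    have hri : F.r⁻¹ = F.r := inv_eq_of_mul_eq_one_right F.r_sq
    have hm := (Subgroup.mem_normalizer_iff.1 F.r_N _).1 (B.a_J 1)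
    rw [hj0e, ← conj_mul, show F.r * (F.r * B.a 1 * F.r⁻¹) * F.r⁻¹ = (F.r * F.r) * B.a 1 * (F.r * F.r)⁻¹ by group,
      F.r_sq, B.J_comm _ (B.a_J 1) _ hm]
    group
  have hy : g * j0 * g⁻¹ * B.v 0 = B.v 0 * (g * j0 * g⁻¹) := by
    rw [← hg, conj_mul, conj_mul, hfix]
  obtain ⟨c, -, hc⟩ := B.v0_three_conj hcov hy (k := 1) (by
    rw [pow_one, conj_pow, B.J_exp _ (B.el_mem p), mul_one, mul_inv_cancel])
  obtain ⟨n, hn⟩ := mem_powers_iff_mem_zpowers.2 hc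
  have hn' : B.a 0 ^ n = c * g * j0 * (c * g)⁻¹ := by
    have : B.a 0 ^ n = c * (g * j0 * g⁻¹) * c⁻¹ := hn
    rw [this]; group
  have hn3 : n % 3 ≠ 0 := fun e => hne (by
    rw [pow_eq_pow_mod n (B.J_exp _ (B.a_J 0)), e, pow_zero, eq_comm, conj_eq_one_iff] at hn'
    exact hn')
  have hC : centralizer ({c * g * j0 * (c * g)⁻¹} : Set X) ≤ normalizer (B.J : Set X) := by
    rw [← hn']
    intro x hx
    refine B.cent_a (mem_centralizer_singleton_iff.2 ?_)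
    have h : Commute x ((B.a 0 ^ n) ^ n) :=
      (show Commute x (B.a 0 ^ n) from mem_centralizer_singleton_iff.1 hx).pow_right n
    rw [← pow_mul, pow_eq_pow_mod _ (B.J_exp _ (B.a_J 0)), show n * n % 3 = 1 by
      rw [Nat.mul_mod]
      obtain h | h : n % 3 = 1 ∨ n % 3 = 2 := by omega
      all_goals rw [h], pow_one] at h
    exact h.eq
  set h := c * g
  have hN := B.fuse hcov (B.el_mem p) hC
  obtain ⟨i, hi⟩ := B.axes_perm hcov (inv_mem hN) 0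
  obtain ⟨e, he⟩ : ∃ e : ZMod 3, B.el p = B.a i ^ e.val := by
    have hj : B.el p = h⁻¹ * B.a 0 ^ n * h⁻¹⁻¹ := by rw [hn']; simp only [j0]; group
    rw [← conj_pow] at hj
    rcases hi with hi | hi <;> rw [hi] at hj
    · exact ⟨(n : ZMod 3), by rw [hj, ZMod.val_natCast]; exact pow_eq_pow_mod n (B.J_exp _ (B.a_J i))⟩
    · refine ⟨((2 * n : ℕ) : ZMod 3), ?_⟩
      rw [hj, ZMod.val_natCast, ← pow_eq_pow_mod _ (B.J_exp _ (B.a_J i)), pow_mul]
      congr 1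
      exact inv_eq_of_mul_eq_one_left (by rw [← pow_succ]; exact B.J_exp _ (B.a_J i))
  rw [← B.el_axis] at he
  have he' := B.el_inj he
  rcases eq_or_ne i 1 with rfl | h1
  · have := congrFun he' 2
    rw [hp2, Pi.single_eq_of_ne (by decide : (2 : Fin 3) ≠ 1)] at this
    exact ht this
  · have := congrFun he' 1
    rw [hp1, Pi.single_eq_of_ne h1.symm] at this
    exact one_ne_zero this

end Bar

end CfsgLib.McLThree.Weak
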