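import Cfsg.Agent.Lib.CharTheory.Integral
import Cfsg.Agent.Lib.CharTheory.Irr
import Mathlib.GroupTheory.PGroup
import Mathlib.RingTheory.RootsOfUnity.Complex

/-!
Sums of character values over cosets, and congruences modulo three.
-/

set_option autoImplicit false

namespace CfsgLib.McLThree.Weak

open Cfsg CfsgLib.CharTheory
open scoped ComplexConjugate

universe u

/-- A sum invariant under a permutation of order three without fixed points is three times an algebraic integer. -/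
theorem three_dvd_sum {α : Type*} [Fintype α] [DecidableEq α] (σ : Equiv.Perm α) (hσ : σ ^ 3 = 1) (S : Finset α)
    (hS : ∀ x ∈ S, σ x ∈ S) (hfix : ∀ x ∈ S, σ x ≠ x) (g : α → ℂ) (hg : ∀ x ∈ S, g (σ x) = g x)
    (hint : ∀ x, IsIntegral ℤ (g x)) : ∃ β : ℂ, IsIntegral ℤ β ∧ ∑ x ∈ S, g x = 3 * β := by
  classical
  haveI : Fact (Nat.Prime 3) := ⟨Nat.prime_three⟩
  have hP : IsPGroup 3 (Subgroup.zpowers σ) := fun x => by
    obtain ⟨n, hn⟩ := mem_powers_iff_mem_zpowers.2 x.2
    have hn' : σ ^ n = (x : Equiv.Perm α) := hn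
    exact ⟨1, Subtype.ext (by
      show (x : Equiv.Perm α) ^ 3 ^ 1 = 1
      rw [← hn', pow_one, ← pow_mul, mul_comm, pow_mul, hσ, one_pow])⟩
  have hdvd : ∀ v : ℂ, 3 ∣ (S.filter fun x => g x = v).card := by
    intro v
    let M : SubMulAction (Subgroup.zpowers σ) α :=
      { carrier := {x | x ∈ S ∧ g x = v}
        smul_mem' := fun t x hx => by
          obtain ⟨n, hn⟩ := mem_powers_iff_mem_zpowers.2 t.2
          have key : ∀ n : ℕ, (σ ^ n) x ∈ S ∧ g ((σ ^ n) x) = v := by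
            intro n
            induction n with
            | zero => simpa using hx
            | succ n ih => rw [pow_succ']; exact ⟨hS _ ih.1, (hg _ ih.1).trans ih.2⟩
          have hn' : σ ^ n = (t : Equiv.Perm α) := hn
          have := key n
          rw [hn'] at this
          exact this }
    have hmod := hP.card_modEq_card_fixedPoints M
    haveI : IsEmpty (MulAction.fixedPoints (Subgroup.zpowers σ) M) := ⟨fun ⟨⟨x, hx⟩, hf⟩ => hfix x hx.1
      (congrArg Subtype.val (hf ⟨σ, Subgroup.mem_zpowers _⟩))⟩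
    rw [Nat.card_of_isEmpty (α := MulAction.fixedPoints (Subgroup.zpowers σ) M)] at hmod
    have h := Nat.modEq_zero_iff_dvd.1 hmod
    rwa [show Nat.card M = Nat.card {x // x ∈ S.filter fun x => g x = v} from Nat.card_congr
      (Equiv.subtypeEquivRight fun x => by simp only [Finset.mem_filter]; exact Iff.rfl),
      Nat.card_eq_fintype_card, Fintype.card_coe] at h
  refine ⟨∑ v ∈ S.image g, (((S.filter fun x => g x = v).card / 3 : ℕ) : ℂ) * v, ?_, ?_⟩
  · refine IsIntegral.sum _ fun v hv => ?_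
    obtain ⟨x, -, rfl⟩ := Finset.mem_image.1 hv
    have h : ∀ n : ℕ, IsIntegral ℤ (n : ℂ) := fun n => by
      simpa using (isIntegral_algebraMap (R := ℤ) (A := ℂ) (x := (n : ℤ)))
    exact (h _).mul (hint x)
  · rw [Finset.mul_sum, show (∑ x ∈ S, g x) = ∑ x ∈ S, id (g x) from rfl, Finset.sum_comp id g]
    refine Finset.sum_congr rfl fun v _ => ?_
    obtain ⟨q, hq⟩ := hdvd v
    rw [hq, Nat.mul_div_cancel_left _ (by norm_num : 0 < 3), nsmul_eq_mul, id_eq]
    push_cast; ring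

variable {G : Type u} [Group G] [Fintype G] [DecidableEq G]

open Classical in
/-- The elements of the coset of `K` by `x`. -/
noncomputable def cosetSet (K : Subgroup G) (x : G) : Finset G := Finset.univ.filter fun y => y * x⁻¹ ∈ K

theorem mem_cosetSet {K : Subgroup G} {x y : G} : y ∈ cosetSet K x ↔ y * x⁻¹ ∈ K := by
  classical
  simp [cosetSet]

theorem card_cosetSet (K : Subgroup G) (x : G) : (cosetSet K x).card = Nat.card K := by
  classical
  rw [← Fintype.card_coe, ← Nat.card_eq_fintype_card]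
  exact Nat.card_congr
    { toFun := fun y => ⟨(y : G) * x⁻¹, mem_cosetSet.1 y.2⟩
      invFun := fun k => ⟨(k : G) * x, mem_cosetSet.2 (by rw [mul_inv_cancel_right]; exact k.2)⟩
      left_inv := fun y => Subtype.ext (by simp)
      right_inv := fun k => Subtype.ext (by simp) }

/-- The sum of a character over a coset of order three symmetric to its square is a multiple of the order. -/
theorem coset_int {ψ : G → ℂ} (hψ : IsCharacter G ψ) (K : Subgroup G) {u : G} (h3 : u ^ 3 = 1)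
    (hu : u ∉ K) (hn : u ∈ Subgroup.normalizer (K : Set G))
    (hsym : ∑ y ∈ cosetSet K u, ψ y = ∑ y ∈ cosetSet K u⁻¹, ψ y) :
    ∃ n : ℤ, ∑ y ∈ cosetSet K u, ψ y = (n : ℂ) * (Nat.card K : ℂ) := by
  classical
  set K1 := Subgroup.zpowers u ⊔ K
  have hmem : ∀ x ∈ K1, ∃ k ∈ K, ∃ n : ℕ, x = k * u ^ n := by
    intro x hx
    rw [← SetLike.mem_coe, Subgroup.coe_mul_of_left_le_normalizer_right _ _ (Subgroup.zpowers_le.2 hn), Set.mem_mul] at hx
    obtain ⟨_, hp, k, hk, rfl⟩ := hx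
    obtain ⟨n, rfl⟩ := mem_powers_iff_mem_zpowers.2 hp
    exact ⟨u ^ n * k * (u ^ n)⁻¹, (Subgroup.mem_normalizer_iff.1 (pow_mem hn n) k).1 hk, n, by group⟩
  have hpow : ∀ n : ℕ, u ^ n ∈ K → n % 3 = 0 := fun n h => by
    rw [pow_eq_pow_mod n h3] at h
    obtain e | e | e : n % 3 = 0 ∨ n % 3 = 1 ∨ n % 3 = 2 := by omega
    · exact e
    · rw [e, pow_one] at h; exact absurd h hu
    · rw [e] at h
      have := K.pow_mem h 2
      rw [← pow_mul, pow_eq_pow_mod _ h3, show 2 * 2 % 3 = 1 from rfl, pow_one] at this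
      exact absurd this hu
  have huniq : ∀ k ∈ K, ∀ k' ∈ K, ∀ n n' : ℕ, k * u ^ n = k' * u ^ n' → n % 3 = n' % 3 := by
    intro k hk k' hk' n n' h
    have h1 : u ^ (n + 2 * n') ∈ K := by
      have e : u ^ (n + 2 * n') = k⁻¹ * k' := by
        rw [pow_add, show u ^ n = k⁻¹ * (k * u ^ n) by group, h, mul_assoc k⁻¹, mul_assoc k', ← pow_add,
          show n' + 2 * n' = 3 * n' by ring, pow_mul, h3, one_pow, mul_one]
      rw [e]; exact K.mul_mem (K.inv_mem hk) hk'
    have := hpow _ h1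
    omega
  choose kf hkf nf hnf using fun x : K1 => hmem x x.2
  obtain ⟨ζ, hζ⟩ : ∃ ζ : ℂ, IsPrimitiveRoot ζ 3 := ⟨_, Complex.isPrimitiveRoot_exp 3 (by norm_num)⟩
  have hζ0 : ζ ≠ 0 := hζ.ne_zero (by norm_num)
  set ζu : ℂˣ := Units.mk0 ζ hζ0
  have hζ3 : ζu ^ 3 = 1 := Units.ext (by simpa [ζu] using hζ.pow_eq_one)
  let lam : K1 →* ℂˣ := MonoidHom.mk' (fun x => ζu ^ nf x) fun x y => by
    show ζu ^ nf (x * y) = ζu ^ nf x * ζu ^ nf y
    rw [← pow_add, pow_eq_pow_mod (nf (x * y)) hζ3, pow_eq_pow_mod (nf x + nf y) hζ3]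
    congr 1
    refine huniq _ (hkf (x * y)) (kf x * (u ^ nf x * kf y * (u ^ nf x)⁻¹))
      (K.mul_mem (hkf x) ((Subgroup.mem_normalizer_iff.1 (pow_mem hn _) _).1 (hkf y))) _ _ ?_
    rw [← hnf (x * y), pow_add]
    show (x : G) * y = _
    nth_rw 1 [hnf x, hnf y]
    group
  have hψc : IsCharacter G (fun g => conj (ψ g)) := isCharacter_conj hψ
  obtain ⟨m1, hm1⟩ := classInner_char_nat (isCharacter_one (G := K1)) (isCharacter_restrict hψc K1)
  obtain ⟨m2, hm2⟩ := classInner_char_nat (isCharacter_of_irr (isIrrCharacter_linear lam)) (isCharacter_restrict hψc K1)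
  have hK1 : Nat.card K1 = 3 * Nat.card K := by
    let f : K × Fin 3 → K1 := fun p => ⟨(p.1 : G) * u ^ p.2.val,
      K1.mul_mem (Subgroup.mem_sup_right p.1.2) (Subgroup.mem_sup_left (pow_mem (Subgroup.mem_zpowers _) _))⟩
    have hf : Function.Bijective f := by
      refine ⟨fun p q e => ?_, fun x => ?_⟩
      · have e' : (p.1 : G) * u ^ p.2.val = q.1 * u ^ q.2.val := congrArg Subtype.val e
        have h2 := huniq _ p.1.2 _ q.1.2 _ _ e'
        rw [Nat.mod_eq_of_lt p.2.2, Nat.mod_eq_of_lt q.2.2] at h2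
        rw [h2] at e'
        exact Prod.ext (Subtype.ext (mul_right_cancel e')) (Fin.ext h2)
      · exact ⟨(⟨kf x, hkf x⟩, ⟨nf x % 3, Nat.mod_lt _ (by norm_num)⟩), Subtype.ext (by
          show kf x * u ^ (nf x % 3) = (x : G)
          rw [← pow_eq_pow_mod _ h3, ← hnf x])⟩
    rw [← Nat.card_eq_of_bijective f hf, Nat.card_prod, Nat.card_fin, mul_comm]
  have hval : ∀ x : K1, (1 : ℂ) - (lam x : ℂ) =
      (if (x : G) ∈ cosetSet K u then 1 - ζ else 0) + (if (x : G) ∈ cosetSet K u⁻¹ then 1 - ζ ^ 2 else 0) := by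
    intro x
    have hl : (lam x : ℂ) = ζ ^ (nf x % 3) := by
      show ((ζu ^ nf x : ℂˣ) : ℂ) = _
      rw [pow_eq_pow_mod (nf x) hζ3]; simp [ζu]
    have hiff : ∀ m < 3, ((x : G) * (u ^ m)⁻¹ ∈ K ↔ nf x % 3 = m) := by
      intro m hm
      constructor
      · intro h
        have := huniq _ (hkf x) _ h (nf x) m (by rw [← hnf x, inv_mul_cancel_right])
        rwa [Nat.mod_eq_of_lt hm] at this
      · intro h
        rw [hnf x, pow_eq_pow_mod (nf x) h3, h, mul_inv_cancel_right]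
        exact hkf x
    have h1 : (x : G) ∈ cosetSet K u ↔ nf x % 3 = 1 := by
      rw [mem_cosetSet, ← hiff 1 (by norm_num), pow_one]
    have h2 : (x : G) ∈ cosetSet K u⁻¹ ↔ nf x % 3 = 2 := by
      rw [mem_cosetSet, ← hiff 2 (by norm_num),
        show (u ^ 2)⁻¹ = u⁻¹⁻¹ by rw [inv_inv]; exact inv_eq_of_mul_eq_one_right (by rw [← pow_succ]; exact h3)]
    rw [hl, if_congr h1 rfl rfl, if_congr h2 rfl rfl]
    obtain e | e | e : nf x % 3 = 0 ∨ nf x % 3 = 1 ∨ nf x % 3 = 2 := by omega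
    all_goals rw [e]; simp
  have hrestrict : ∀ v : G, cosetSet K v ⊆ Finset.univ.filter (fun y => y ∈ K1) → ∀ c : ℂ,
      ∑ x : K1, (if (x : G) ∈ cosetSet K v then c else 0) * ψ x = c * ∑ y ∈ cosetSet K v, ψ y := by
    intro v hv c
    rw [Finset.mul_sum]
    simp only [ite_mul, zero_mul]
    rw [← Finset.sum_subtype (Finset.univ.filter fun y => y ∈ K1) (fun y => by simp)
      (fun y => if y ∈ cosetSet K v then c * ψ y else 0), ← Finset.sum_filter]
    refine Finset.sum_congr (Finset.ext fun y => ?_) fun _ _ => rfl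
    rw [Finset.mem_filter]
    exact ⟨fun h => h.2, fun h => ⟨hv h, h⟩⟩
  have hsub : ∀ v ∈ K1, cosetSet K v ⊆ Finset.univ.filter (fun y => y ∈ K1) := fun v hv y hy => by
    rw [Finset.mem_filter]
    refine ⟨Finset.mem_univ _, ?_⟩
    have := K1.mul_mem (Subgroup.mem_sup_right (mem_cosetSet.1 hy)) hv
    rwa [inv_mul_cancel_right] at this
  have huK1 : u ∈ K1 := Subgroup.mem_sup_left (Subgroup.mem_zpowers _)
  have hsum : ∑ x : K1, ((1 : ℂ) - (lam x : ℂ)) * ψ x = 3 * ∑ y ∈ cosetSet K u, ψ y := by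
    simp only [hval, add_mul, Finset.sum_add_distrib]
    rw [hrestrict u (hsub u huK1), hrestrict u⁻¹ (hsub _ (K1.inv_mem huK1)), ← hsym]
    have hg := hζ.geom_sum_eq_zero (by norm_num : 1 < 3)
    simp only [Finset.sum_range_succ, Finset.sum_range_zero, zero_add, pow_zero, pow_one] at hg
    linear_combination (-(∑ y ∈ cosetSet K u, ψ y)) * hg
  refine ⟨(m1 : ℤ) - m2, ?_⟩
  have h : (m1 : ℂ) - (m2 : ℂ) = (Nat.card K1 : ℂ)⁻¹ * ∑ x : K1, ((1 : ℂ) - (lam x : ℂ)) * ψ x := by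
    rw [← hm1, ← hm2]
    simp only [classInner, Complex.conj_conj, sub_mul, Finset.sum_sub_distrib, mul_sub, one_mul]
  rw [hsum, hK1] at h
  have hK : (Nat.card K : ℂ) ≠ 0 := Nat.cast_ne_zero.mpr Nat.card_pos.ne'
  push_cast at h ⊢
  rw [h]
  field_simp

end CfsgLib.McLThree.Weak
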