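import Cfsg.Agent.Lib.McLThree.Weak.SignalC
import Cfsg.Agent.Lib.McLThree.Weak.Sums
import Cfsg.Agent.Lib.McLThree.Weak.Kernels
import Cfsg.Agent.Lib.CharTheory.TI

/-!
With a flip, a virtual character of norm three gives the normal subgroup.
-/

set_option autoImplicit false

namespace CfsgLib.McLThree.Weak

open Subgroup Fin.NatCast Cfsg CfsgLib.CharTheory
open scoped ComplexConjugate

universe u

theorem card_sum_zero : ((Finset.univ : Finset (Fin 3 → ZMod 3)).filter fun p => p 0 + p 1 + p 2 = 0).card = 9 := by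
  decide +kernel

/-- The elements sending `u` to itself or to its inverse. -/
def pm {X : Type u} [Group X] (v : X) : Subgroup X where
  carrier := {x | x * v * x⁻¹ = v ∨ x * v * x⁻¹ = v⁻¹}
  one_mem' := Or.inl (by group)
  mul_mem' := by
    rintro a b ha hb
    show a * b * v * (a * b)⁻¹ = v ∨ _
    rw [show a * b * v * (a * b)⁻¹ = a * (b * v * b⁻¹) * a⁻¹ by group]
    rcases hb with e | e <;> rw [e]
    · exact ha
    · rw [← conj_inv]
      rcases ha with e' | e' <;> rw [e']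
      · exact Or.inr rfl
      · exact Or.inl (inv_inv v)
  inv_mem' := by
    rintro a (e | e)
    · refine Or.inl ?_
      nth_rw 1 [← e]; group
    · refine Or.inr ?_
      have e' : v = a⁻¹ * (v⁻¹) * a := by rw [← e]; group
      nth_rw 2 [e']
      group

theorem card_pm {X : Type u} [Group X] [Finite X] {v r : X} (hr : r * v * r⁻¹ = v⁻¹) (hne : v ≠ v⁻¹) :
    Nat.card (pm v) = 2 * Nat.card (centralizer ({v} : Set X)) := by
  let f : Fin 2 × centralizer ({v} : Set X) → pm v := fun p => ⟨(p.2 : X) * r ^ p.1.val, by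
    refine mul_mem (Or.inl (mul_inv_eq_iff_eq_mul.2 (mem_centralizer_singleton_iff.1 p.2.2))) ?_
    exact pow_mem (show r ∈ pm v from Or.inr hr) _⟩
  have hf : Function.Bijective f := by
    refine ⟨fun p q e => ?_, fun x => ?_⟩
    · have e' : (p.2 : X) * r ^ p.1.val = q.2 * r ^ q.1.val := congrArg Subtype.val e
      have key : ∀ i k : Fin 2, ∀ a b : centralizer ({v} : Set X), (a : X) * r ^ i.val = b * r ^ k.val → i = k := by
        have key1 : ∀ a b : centralizer ({v} : Set X), (a : X) * r ^ 1 = b * r ^ 0 → False := by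
          intro a b h
          rw [pow_zero, mul_one, pow_one] at h
          have hb : (a : X)⁻¹ * b = r := by rw [← h]; group
          have hc : r * v = v * r := by
            rw [← hb]
            exact mem_centralizer_singleton_iff.1 (mul_mem (inv_mem a.2) b.2)
          rw [hc, mul_inv_cancel_right] at hr
          exact hne hr
        intro i k a b h
        fin_cases i <;> fin_cases k
        · rfl
        · exact (key1 b a h.symm).elim
        · exact (key1 a b h).elim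
        · rfl
      have h1 := key _ _ _ _ e'
      rw [h1] at e'
      exact Prod.ext h1 (Subtype.ext (mul_right_cancel e'))
    · rcases x.2 with e | e
      · exact ⟨(0, ⟨x, mem_centralizer_singleton_iff.2 (mul_inv_eq_iff_eq_mul.1 e)⟩), Subtype.ext (by simp [f])⟩
      · refine ⟨(1, ⟨(x : X) * r⁻¹, mem_centralizer_singleton_iff.2 (mul_inv_eq_iff_eq_mul.1 ?_)⟩), Subtype.ext (by simp [f])⟩
        have e' : r⁻¹ * v * r = v⁻¹ := by
          have h := congrArg (fun y => r⁻¹ * y⁻¹ * r) hr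
          simp only [inv_inv] at h
          rw [← h]; group
        rw [show (x : X) * r⁻¹ * v * ((x : X) * r⁻¹)⁻¹ = (x : X) * (r⁻¹ * v * r) * (x : X)⁻¹ by group, e', ← conj_inv, e,
          inv_inv]
  rw [← Nat.card_eq_of_bijective f hf, Nat.card_prod, Nat.card_fin]

theorem inner_indicator {X : Type u} [Group X] [Fintype X] [DecidableEq X] (N : Subgroup X) [Fintype N] (S : Finset X)
    (hS : ∀ x ∈ S, x ∈ N) (c : ℂ) (g : X → ℂ) :
    classInner (fun x : N => if (x : X) ∈ S then c else 0) (fun x : N => g x) =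
      (Nat.card N : ℂ)⁻¹ * (c * ∑ x ∈ S, conj (g x)) := by
  classical
  show (Nat.card N : ℂ)⁻¹ * ∑ x : N, (if (x : X) ∈ S then c else 0) * conj (g x) = _
  congr 1
  simp only [ite_mul, zero_mul]
  rw [← Finset.sum_subtype (Finset.univ.filter fun y => y ∈ N) (fun y => by simp)
    (fun y => if y ∈ S then c * conj (g y) else 0), ← Finset.sum_filter, Finset.mul_sum]
  refine Finset.sum_congr (Finset.ext fun y => ?_) fun _ _ => rfl
  simp only [Finset.mem_filter, Finset.mem_univ, true_and]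
  exact ⟨fun h => h.2, fun h => ⟨hS y h, h⟩⟩

theorem indFun_zero {X : Type u} [Group X] [Fintype X] [DecidableEq X] (N : Subgroup X) (S : Finset X) (c : ℂ) {g : X}
    (h : ∀ x : X, x⁻¹ * g * x ∉ S) : indFun N (fun x : N => if (x : X) ∈ S then c else 0) g = 0 := by
  have : ∀ x : X, extendByZero N (fun y : N => if (y : X) ∈ S then c else 0) (x⁻¹ * g * x) = 0 := fun x => by
    by_cases hm : x⁻¹ * g * x ∈ N
    · rw [extendByZero_of_mem _ _ hm]; exact if_neg (h x)
    · exact extendByZero_of_not_mem _ _ hm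
  simp [indFun, this]

theorem sum_conj_eq {X : Type u} [Group X] [Fintype X] [DecidableEq X] {ψ : X → ℂ} (hψ : IsClassFunction X ψ) (r : X)
    (S S' : Finset X) (h : ∀ x, r * x * r⁻¹ ∈ S' ↔ x ∈ S) : ∑ x ∈ S, ψ x = ∑ x ∈ S', ψ x := by
  refine Finset.sum_nbij' (fun x => r * x * r⁻¹) (fun x => r⁻¹ * x * r) (fun x hx => (h x).2 hx) (fun x hx => ?_)
    (fun x _ => by group) (fun x _ => by group) (fun x _ => ?_)
  · refine (h _).1 ?_
    rwa [show r * (r⁻¹ * x * r) * r⁻¹ = x by group]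
  · exact isClassFunction_iff_isConj.mp hψ _ _ (isConj_iff.2 ⟨r, rfl⟩)

namespace Bar

variable {X : Type u} [Group X] [Fintype X] [DecidableEq X] (B : Bar X)

include B

omit [Fintype X] [DecidableEq X] in
theorem cube_coset [Finite X] (p : Fin 3 → ZMod 3) : (B.el p * B.w) ^ 3 = B.z1 ^ (p 0 + p 1 + p 2).val := by
  have e2 : B.el (fun i => p (i + 2 + 2)) = B.w * B.el (fun i => p (i + 2)) * B.w⁻¹ := (B.el_w fun i => p (i + 2)).symm
  have h : (B.el p * B.w) ^ 3 = B.el (p + (fun i => p (i + 2)) + fun i => p (i + 2 + 2)) := by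
    rw [B.el_add, B.el_add, e2, ← B.el_w p, pow_succ, pow_two]
    calc B.el p * B.w * (B.el p * B.w) * (B.el p * B.w)
        = B.el p * (B.w * B.el p * B.w⁻¹) * (B.w * (B.w * B.el p * B.w⁻¹) * B.w⁻¹) * B.w ^ 3 := by
          rw [pow_succ, pow_two]; group
      _ = _ := by rw [B.w_cube, mul_one]
  rw [h, ← B.el_const]
  congr 1
  funext i
  simp only [Pi.add_apply]
  rcases fin3_all i with rfl | rfl | rfl
  · show p 0 + p 2 + p 1 = _; ring
  · show p 1 + p 0 + p 2 = _; ring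
  · show p 2 + p 1 + p 0 = _; ring

theorem z1_pow_ne {n : ℕ} (h : n % 3 ≠ 0) : B.z1 ^ n ≠ 1 := by
  intro e
  rw [pow_eq_pow_mod n (B.J_exp _ B.z1_mem)] at e
  obtain h1 | h1 : n % 3 = 1 ∨ n % 3 = 2 := by omega
  · rw [h1, pow_one] at e; exact B.z1_ne e
  · have h3 := B.J_exp _ B.z1_mem
    rw [h1] at e
    rw [pow_succ, e, one_mul] at h3
    exact B.z1_ne h3

variable (hcov : Covered B) (F : Flip B)

include hcov F

omit F in
theorem cent_z1_eq : centralizer ({B.z1} : Set X) = B.T := le_antisymm (B.cent_z1_T hcov)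
  (sup_le (zpowers_le.2 (mem_centralizer_singleton_iff.2 B.z1_w))
    (fun _ hj => mem_centralizer_singleton_iff.2 (B.J_comm _ hj _ B.z1_mem)))

omit hcov F [Fintype X] [DecidableEq X] in
theorem card_T_eq [Finite X] : Nat.card B.T = 81 := by
  let f : B.J × Fin 3 → B.T := fun p => ⟨(p.1 : X) * B.w ^ p.2.val, mul_mem (B.J_T p.1.2) (pow_mem B.w_T _)⟩
  have hf : Function.Bijective f := by
    refine ⟨fun p q e => ?_, fun x => ?_⟩
    · have e' : (p.1 : X) * B.w ^ p.2.val = q.1 * B.w ^ q.2.val := congrArg Subtype.val e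
      have h := B.T_exp p.1.2 q.1.2 e'
      rw [ZMod.natCast_eq_natCast_iff', Nat.mod_eq_of_lt p.2.2, Nat.mod_eq_of_lt q.2.2] at h
      rw [h] at e'
      exact Prod.ext (Subtype.ext (mul_right_cancel e')) (Fin.ext h)
    · obtain ⟨j, hj, k, hk, e⟩ := B.mem_T.1 x.2
      exact ⟨(⟨j, hj⟩, ⟨k, hk⟩), Subtype.ext e.symm⟩
  rw [← Nat.card_eq_of_bijective f hf, Nat.card_prod, B.J_card, Nat.card_fin]

variable (K : B.Core)

theorem R_Q9 {x : X} (hR : x ∈ K.R) (hQ : x ∈ B.Q9) : x = 1 := by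
  refine B.R_z1 hcov F K hR ?_
  exact B.Q9_comm hQ B.z1_Q9

theorem card_C : Nat.card (centralizer ({B.w} : Set X)) = 9 * Nat.card K.R := by
  let f : K.R × (Fin 3 × Fin 3) → centralizer ({B.w} : Set X) := fun p =>
    ⟨(p.1 : X) * (B.w ^ p.2.1.val * B.z1 ^ p.2.2.val), mul_mem (K.R_le p.1.2) (B.Q9_cent ⟨_, _, rfl⟩)⟩
  have hf : Function.Bijective f := by
    refine ⟨fun p q e => ?_, fun x => ?_⟩
    · have e' : (p.1 : X) * (B.w ^ p.2.1.val * B.z1 ^ p.2.2.val) = q.1 * (B.w ^ q.2.1.val * B.z1 ^ q.2.2.val) :=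
        congrArg Subtype.val e
      have hq : (q.1 : X)⁻¹ * p.1 = 1 := by
        refine B.R_Q9 hcov F K (mul_mem (inv_mem q.1.2) p.1.2) ?_
        have h : (q.1 : X)⁻¹ * p.1 = (B.w ^ q.2.1.val * B.z1 ^ q.2.2.val) * (B.w ^ p.2.1.val * B.z1 ^ p.2.2.val)⁻¹ := by
          rw [eq_mul_inv_iff_mul_eq, mul_assoc, e', inv_mul_cancel_left]
        rw [h]
        exact mul_mem ⟨_, _, rfl⟩ (inv_mem ⟨_, _, rfl⟩)
      have h1 : (q.1 : X) = p.1 := inv_mul_eq_one.1 hq
      rw [h1] at e'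
      have e'' := mul_left_cancel e'
      rw [(B.w_z1_comm _ _).eq, (B.w_z1_comm _ _).eq] at e''
      have h2 := B.T_exp (pow_mem B.z1_mem _) (pow_mem B.z1_mem _) e''
      rw [ZMod.natCast_eq_natCast_iff', Nat.mod_eq_of_lt p.2.1.2, Nat.mod_eq_of_lt q.2.1.2] at h2
      rw [h2] at e''
      have e3 := mul_right_cancel e''
      have h3 : p.2.2.val = q.2.2.val := by
        by_contra hne
        refine B.z1_pow_ne (n := p.2.2.val + 2 * q.2.2.val) ?_ ?_
        · have := p.2.2.2; have := q.2.2.2; omega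
        · rw [pow_add, e3, ← pow_add, show q.2.2.val + 2 * q.2.2.val = 3 * q.2.2.val by ring, pow_mul,
            B.J_exp _ B.z1_mem, one_pow]
      exact Prod.ext (Subtype.ext h1.symm) (Prod.ext (Fin.ext h2) (Fin.ext h3))
    · obtain ⟨ρ, hρ, q, ⟨k, m, rfl⟩, e⟩ := K.R_split x x.2
      refine ⟨(⟨ρ, hρ⟩, (⟨k % 3, Nat.mod_lt _ (by norm_num)⟩, ⟨m % 3, Nat.mod_lt _ (by norm_num)⟩)), Subtype.ext ?_⟩
      show ρ * (B.w ^ (k % 3) * B.z1 ^ (m % 3)) = x
      rw [← pow_eq_pow_mod _ B.w_cube, ← pow_eq_pow_mod _ (B.J_exp _ B.z1_mem), e]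
  rw [← Nat.card_eq_of_bijective f hf, Nat.card_prod, Nat.card_prod, Nat.card_fin]
  ring

include K in
/-- The case with a flip. -/
theorem top_of_flip : normalizer (B.J : Set X) = ⊤ := by
  classical
  have hri : F.r⁻¹ = F.r := inv_eq_of_mul_eq_one_right F.r_sq
  have hw1 : B.w ≠ 1 := fun e => B.w_not_J (e ▸ one_mem _)
  have hwi : B.w ≠ B.w⁻¹ := fun e => by
    have h3 := B.w_cube
    have h2 : B.w * B.w = 1 := by nth_rw 2 [e]; exact mul_inv_cancel _
    rw [pow_succ, pow_two, h2, one_mul] at h3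
    exact hw1 h3
  have hzi : B.z1 ≠ B.z1⁻¹ := fun e => by
    have h3 := B.J_exp _ B.z1_mem
    have h2 : B.z1 * B.z1 = 1 := by nth_rw 2 [e]; exact mul_inv_cancel _
    rw [pow_succ, pow_two, h2, one_mul] at h3
    exact B.z1_ne h3
  set n := Nat.card K.R with hn
  have hn0 : (n : ℂ) ≠ 0 := Nat.cast_ne_zero.mpr Nat.card_pos.ne'
  obtain ⟨N, hN3, hNd⟩ : ∃ N : ℕ, N % 3 = 1 ∧ n ∣ N := ⟨n * n, by
    have : n % 3 ≠ 0 := fun e => K.R_three (Nat.dvd_of_mod_eq_zero e)
    rw [Nat.mul_mod]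
    obtain h | h : n % 3 = 1 ∨ n % 3 = 2 := by omega
    all_goals rw [h], dvd_mul_right n n⟩
  -- the supports
  set S0 : Finset X := cosetSet K.R B.w ∪ cosetSet K.R B.w⁻¹ with hS0
  set S9 : Finset X := (cosetSet B.J B.w ∪ cosetSet B.J B.w⁻¹).filter (fun x => x ^ 3 ≠ 1) with hS9
  have hwR : B.w ∈ normalizer (K.R : Set X) := K.R_norm (mem_centralizer_singleton_iff.2 rfl)
  have hS0pow : ∀ x ∈ S0, x ^ N = B.w ∨ x ^ N = B.w⁻¹ := by
    intro x hx
    have key : ∀ v : X, (v = B.w ∨ v = B.w⁻¹) → x * v⁻¹ ∈ K.R → x ^ N = v := by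
      intro v hv h
      have hc : Commute (x * v⁻¹) v := by
        have h1 : Commute (x * v⁻¹) B.w := mem_centralizer_singleton_iff.1 (K.R_le h)
        rcases hv with rfl | rfl
        · exact h1
        · exact h1.inv_right
      have hv3 : v ^ 3 = 1 := by
        rcases hv with rfl | rfl
        · exact B.w_cube
        · rw [inv_pow, B.w_cube, inv_one]
      obtain ⟨d, hd⟩ := hNd
      have hρ : (x * v⁻¹) ^ N = 1 := by
        have := pow_card_eq_one' (x := (⟨_, h⟩ : K.R))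
        rw [hd, pow_mul, show (x * v⁻¹) ^ n = 1 from congrArg Subtype.val this, one_pow]
      calc x ^ N = (x * v⁻¹ * v) ^ N := by rw [inv_mul_cancel_right]
        _ = v := by rw [hc.mul_pow, hρ, one_mul, pow_eq_pow_mod N hv3, hN3, pow_one]
    rcases Finset.mem_union.1 hx with h | h
    · exact Or.inl (key _ (Or.inl rfl) (mem_cosetSet.1 h))
    · exact Or.inr (key _ (Or.inr rfl) (mem_cosetSet.1 h))
  have hS9mem : ∀ x, x ∈ S9 ↔ x ∈ B.T ∧ x ^ 3 ≠ 1 := by
    intro x
    rw [hS9, Finset.mem_filter, Finset.mem_union, mem_cosetSet, mem_cosetSet]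
    refine and_congr_left fun h3 => ⟨fun h => ?_, fun h => ?_⟩
    · rcases h with h | h
      · have := mul_mem (B.J_T h) B.w_T
        rwa [inv_mul_cancel_right] at this
      · have := mul_mem (B.J_T h) (inv_mem B.w_T)
        rwa [inv_mul_cancel_right] at this
    · obtain ⟨j, hj, k, hk, rfl⟩ := B.mem_T.1 h
      interval_cases k
      · exact absurd (by rw [pow_zero, mul_one]; exact B.J_exp _ hj) h3
      · exact Or.inl (by rw [pow_one, mul_inv_cancel_right]; exact hj)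
      · exact Or.inr (by rw [← B.w_inv, mul_inv_cancel_right]; exact hj)
  have hcubeJw : ∀ x, x * B.w⁻¹ ∈ B.J → x ^ 3 ≠ 1 → x ^ 3 = B.z1 ∨ x ^ 3 = B.z1⁻¹ := by
    intro x hx h3
    obtain ⟨p, hp⟩ := B.el_surj hx
    have e : x = B.el p * B.w := by rw [hp, inv_mul_cancel_right]
    rw [e] at h3 ⊢
    rw [B.cube_coset] at h3 ⊢
    rcases zmod_one_or (p 0 + p 1 + p 2) with h | h | h <;> rw [h] at h3 ⊢
    · exact absurd (by rw [ZMod.val_zero, pow_zero]) h3
    · exact Or.inl (by rw [ZMod.val_one, pow_one])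
    · exact Or.inr (eq_inv_of_mul_eq_one_left (by
        rw [show ((2 : ZMod 3).val) = 2 from rfl, ← pow_succ]; exact B.J_exp _ B.z1_mem))
  have hS9cube : ∀ x ∈ S9, x ^ 3 = B.z1 ∨ x ^ 3 = B.z1⁻¹ := by
    intro x hx
    rw [hS9, Finset.mem_filter, Finset.mem_union, mem_cosetSet, mem_cosetSet] at hx
    obtain ⟨h | h, h3⟩ := hx
    · exact hcubeJw x h h3
    · have h' : x⁻¹ * B.w⁻¹ ∈ B.J := by
        have := (Subgroup.mem_normalizer_iff.1 B.w_N _).1 (inv_mem h)
        rwa [show B.w * (x * B.w⁻¹⁻¹)⁻¹ * B.w⁻¹ = x⁻¹ * B.w⁻¹ by group] at this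
      rcases hcubeJw x⁻¹ h' (by rwa [inv_pow, Ne, inv_eq_one]) with e | e <;> rw [inv_pow] at e
      · exact Or.inr (by rw [← e, inv_inv])
      · exact Or.inl (inv_injective e)
  set M := pm B.w with hM
  set M9 := pm B.z1 with hM9
  have hS0M : ∀ x ∈ S0, x ∈ M := by
    intro x hx
    have hc : x ∈ centralizer ({B.w} : Set X) := by
      rcases Finset.mem_union.1 hx with h | h
      · have := mul_mem (K.R_le (mem_cosetSet.1 h)) (B.Q9_cent B.w_Q9)
        rwa [inv_mul_cancel_right] at this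
      · have := mul_mem (K.R_le (mem_cosetSet.1 h)) (inv_mem (B.Q9_cent B.w_Q9))
        rwa [inv_mul_cancel_right] at this
    exact Or.inl (mul_inv_eq_iff_eq_mul.2 (mem_centralizer_singleton_iff.1 hc))
  have hS9M : ∀ x ∈ S9, x ∈ M9 := by
    intro x hx
    have h : x ∈ centralizer ({B.z1} : Set X) := by rw [B.cent_z1_eq hcov]; exact ((hS9mem x).1 hx).1
    exact Or.inl (mul_inv_eq_iff_eq_mul.2 (mem_centralizer_singleton_iff.1 h))
  have hpmw : ∀ g a b : X, (a = B.w ∨ a = B.w⁻¹) → (b = B.w ∨ b = B.w⁻¹) → g * a * g⁻¹ = b → g ∈ M := by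
    rintro g a b (rfl | rfl) hb h
    · rcases hb with rfl | rfl
      exacts [Or.inl h, Or.inr h]
    · rw [← conj_inv, inv_eq_iff_eq_inv] at h
      rcases hb with rfl | rfl
      · exact Or.inr h
      · exact Or.inl (by rw [h, inv_inv])
  have hpmz : ∀ g a b : X, (a = B.z1 ∨ a = B.z1⁻¹) → (b = B.z1 ∨ b = B.z1⁻¹) → g * a * g⁻¹ = b → g ∈ M9 := by
    rintro g a b (rfl | rfl) hb h
    · rcases hb with rfl | rfl
      exacts [Or.inl h, Or.inr h]
    · rw [← conj_inv, inv_eq_iff_eq_inv] at h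
      rcases hb with rfl | rfl
      · exact Or.inr h
      · exact Or.inl (by rw [h, inv_inv])
  have hTI0 : ∀ g : X, g ∉ M → ∀ s ∈ (↑S0 : Set X), g * s * g⁻¹ ∈ (↑S0 : Set X) → s = 1 := fun g hg s hs hs' =>
    absurd (hpmw g _ _ (hS0pow s hs) (hS0pow _ hs') conj_pow.symm) hg
  have hTI9 : ∀ g : X, g ∉ M9 → ∀ s ∈ (↑S9 : Set X), g * s * g⁻¹ ∈ (↑S9 : Set X) → s = 1 := fun g hg s hs hs' =>
    absurd (hpmz g _ _ (hS9cube s hs) (hS9cube _ hs') conj_pow.symm) hg
  have hS0_3N : ∀ x ∈ S0, (x ^ 3) ^ N = 1 := by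
    intro x hx
    rw [← pow_mul, mul_comm, pow_mul]
    rcases hS0pow x hx with e | e <;> rw [e]
    · exact B.w_cube
    · rw [inv_pow, B.w_cube, inv_one]
  have hS9_3N : ∀ x ∈ S9, (x ^ 3) ^ N ≠ 1 := by
    intro x hx
    rcases hS9cube x hx with e | e <;> rw [e]
    · exact B.z1_pow_ne (by omega)
    · rw [inv_pow, Ne, inv_eq_one]; exact B.z1_pow_ne (by omega)
  have hcross : ∀ g x : X, x ∈ S0 → g * x * g⁻¹ ∉ S9 := fun g x hx hx' => hS9_3N _ hx' (by
    rw [conj_pow, conj_pow, hS0_3N x hx, mul_one, mul_inv_cancel])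
  -- the functions
  set f0 : M → ℂ := fun x => if (x : X) ∈ S0 then 3 else 0 with hf0
  set f9 : M9 → ℂ := fun x => if (x : X) ∈ S9 then 3 else 0 with hf9
  have hMC : ∀ m ∈ M, m ∈ normalizer (K.R : Set X) := by
    rintro m (e | e)
    · exact K.R_norm (mem_centralizer_singleton_iff.2 (mul_inv_eq_iff_eq_mul.1 e))
    · have h1 : m * F.r ∈ normalizer (K.R : Set X) := by
        refine K.R_norm (mem_centralizer_singleton_iff.2 (mul_inv_eq_iff_eq_mul.1 ?_))
        rw [show m * F.r * B.w * (m * F.r)⁻¹ = m * (F.r * B.w * F.r⁻¹) * m⁻¹ by group, F.r_w, ← conj_inv, e, inv_inv]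
      have h2 : F.r ∈ normalizer (K.R : Set X) := CfsgLib.McLThree.norm_of_conj_le fun ρ hρ => B.r_R hcov F K hρ
      have := mul_mem h1 h2
      rwa [mul_assoc, F.r_sq, mul_one] at this
  have hS0inv : ∀ m ∈ M, ∀ x ∈ S0, m * x * m⁻¹ ∈ S0 := by
    intro m hm x hx
    have key : ∀ v, x * v⁻¹ ∈ K.R → m * x * m⁻¹ * (m * v * m⁻¹)⁻¹ ∈ K.R := fun v h => by
      have := (Subgroup.mem_normalizer_iff.1 (hMC m hm) _).1 h
      rwa [show m * (x * v⁻¹) * m⁻¹ = m * x * m⁻¹ * (m * v * m⁻¹)⁻¹ by group] at this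
    rw [hS0, Finset.mem_union, mem_cosetSet, mem_cosetSet] at hx ⊢
    rcases hx with h | h
    · have h' := key _ h
      rcases hm with e | e <;> rw [e] at h'
      exacts [Or.inl h', Or.inr h']
    · have h' := key _ h
      rw [← conj_inv] at h'
      rcases hm with e | e <;> rw [e] at h'
      · exact Or.inr h'
      · rw [inv_inv] at h'; exact Or.inl h'
  have hS9inv : ∀ m ∈ M9, ∀ x ∈ S9, m * x * m⁻¹ ∈ S9 := by
    intro m hm x hx
    obtain ⟨hT, h3⟩ := (hS9mem x).1 hx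
    refine (hS9mem _).2 ⟨?_, by rwa [conj_pow, Ne, conj_eq_one_iff]⟩
    rw [← B.cent_z1_eq hcov] at hT ⊢
    refine mem_centralizer_singleton_iff.2 ?_
    have hc : Commute x B.z1 := mem_centralizer_singleton_iff.1 hT
    have hc' : Commute (m * x * m⁻¹) (m * B.z1 * m⁻¹) := by
      show _ = _
      rw [conj_mul, conj_mul, hc.eq]
    rcases hm with e | e <;> rw [e] at hc'
    · exact hc'.eq
    · have := hc'.inv_right
      rw [inv_inv] at this
      exact this.eq
  have hcls : ∀ (N' : Subgroup X) (S : Finset X), (∀ m ∈ N', ∀ x ∈ S, m * x * m⁻¹ ∈ S) →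
      IsClassFunction N' (fun x : N' => if (x : X) ∈ S then (3 : ℂ) else 0) := by
    intro N' S hinv
    rw [isClassFunction_iff_isConj]
    intro a b hab
    obtain ⟨c, rfl⟩ := isConj_iff.1 hab
    refine if_congr ⟨fun h => hinv c c.2 _ h, fun h => ?_⟩ rfl rfl
    have := hinv _ (inv_mem c.2) _ h
    simp only [Subgroup.coe_mul, Subgroup.coe_inv] at this
    rwa [show (c : X)⁻¹ * ((c : X) * a * (c : X)⁻¹) * (c : X)⁻¹⁻¹ = a by group] at this
  have hf0cl : IsClassFunction M f0 := hcls M S0 hS0inv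
  have hf9cl : IsClassFunction M9 f9 := hcls M9 S9 hS9inv
  have hf0S : ∀ x : M, (x : X) ∉ (↑S0 : Set X) → f0 x = 0 := fun x hx => if_neg (by simpa using hx)
  have hf9S : ∀ x : M9, (x : X) ∉ (↑S9 : Set X) → f9 x = 0 := fun x hx => if_neg (by simpa using hx)
  have h1S0 : (1 : X) ∉ S0 := fun h => by
    rcases hS0pow 1 h with e | e <;> rw [one_pow] at e
    · exact hw1 e.symm
    · exact hw1 (inv_eq_one.1 e.symm)
  have h1S9 : (1 : X) ∉ S9 := fun h => ((hS9mem 1).1 h).2 (one_pow 3)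
  have hf01 : f0 1 = 0 := if_neg (by simpa using h1S0)
  have hf91 : f9 1 = 0 := if_neg (by simpa using h1S9)
  set Fn : X → ℂ := indFun M f0 + indFun M9 f9 with hFn
  -- cardinalities
  have hcM : Nat.card M = 18 * n := by
    rw [hM, card_pm F.r_w hwi, B.card_C hcov F K]; ring
  have hcM9 : Nat.card M9 = 162 := by
    rw [hM9, card_pm F.r_z hzi, B.cent_z1_eq hcov, B.card_T_eq]
  have hdisj0 : Disjoint (cosetSet K.R B.w) (cosetSet K.R B.w⁻¹) := Finset.disjoint_left.2 fun x h h' => by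
    rw [mem_cosetSet] at h h'
    have h2 := mul_mem (inv_mem h) h'
    rw [show (x * B.w⁻¹)⁻¹ * (x * B.w⁻¹⁻¹) = B.w * B.w by group] at h2
    have hwR' : B.w ∈ K.R := odd_pow_mem h2 (n := 1) B.w_cube
    exact hw1 (B.R_Q9 hcov F K hwR' B.w_Q9)
  have hcardS0 : S0.card = 2 * n := by
    rw [hS0, Finset.card_union_of_disjoint hdisj0, card_cosetSet, card_cosetSet]; ring
  have hdisjJ : Disjoint (cosetSet B.J B.w) (cosetSet B.J B.w⁻¹) := Finset.disjoint_left.2 fun x h h' => by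
    rw [mem_cosetSet] at h h'
    have h2 := mul_mem (inv_mem h) h'
    rw [show (x * B.w⁻¹)⁻¹ * (x * B.w⁻¹⁻¹) = B.w * B.w by group] at h2
    exact B.w_not_J (odd_pow_mem h2 (n := 1) B.w_cube)
  have hrJ : ∀ x, F.r * x * F.r⁻¹ ∈ cosetSet B.J B.w⁻¹ ↔ x ∈ cosetSet B.J B.w := by
    intro x
    rw [mem_cosetSet, mem_cosetSet, show F.r * x * F.r⁻¹ * B.w⁻¹⁻¹ = F.r * (x * B.w⁻¹) * F.r⁻¹ by
      rw [show B.w⁻¹⁻¹ = (F.r * B.w * F.r⁻¹)⁻¹ by rw [F.r_w]]; group]
    exact ((Subgroup.mem_normalizer_iff.1 F.r_N) _).symm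
  have hO1 : ((cosetSet B.J B.w).filter fun x => x ^ 3 = 1).card = 9 := by
    rw [← card_sum_zero]
    refine (Finset.card_bij' (fun p _ => B.el p * B.w) (fun x hx => (B.el_surj (mem_cosetSet.1 (Finset.mem_filter.1 hx).1)).choose)
      ?_ ?_ ?_ ?_).symm
    · intro p hp
      simp only [Finset.mem_filter, Finset.mem_univ, true_and] at hp
      refine Finset.mem_filter.2 ⟨mem_cosetSet.2 (by rw [mul_inv_cancel_right]; exact B.el_mem p), ?_⟩
      rw [B.cube_coset, hp, ZMod.val_zero, pow_zero]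
    · intro x hx
      simp only [Finset.mem_filter, Finset.mem_univ, true_and]
      obtain ⟨h1, h2⟩ := Finset.mem_filter.1 hx
      set p := (B.el_surj (mem_cosetSet.1 h1)).choose
      have hp : B.el p = x * B.w⁻¹ := (B.el_surj (mem_cosetSet.1 h1)).choose_spec
      rw [show x = B.el p * B.w by rw [hp, inv_mul_cancel_right], B.cube_coset] at h2
      rcases zmod_one_or (p 0 + p 1 + p 2) with h | h | h
      · exact h
      · rw [h, ZMod.val_one, pow_one] at h2; exact absurd h2 B.z1_ne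
      · rw [h] at h2; exact absurd h2 (B.z1_pow_ne (by decide))
    · intro p hp
      exact B.el_inj (((B.el_surj (x := B.el p * B.w * B.w⁻¹) (by rw [mul_inv_cancel_right]; exact B.el_mem p)).choose_spec).trans (mul_inv_cancel_right _ _))
    · intro x hx
      rw [(B.el_surj (mem_cosetSet.1 (Finset.mem_filter.1 hx).1)).choose_spec, inv_mul_cancel_right]
  have hS9sum : ∀ ψ : X → ℂ, IsClassFunction X ψ → ∑ x ∈ S9, ψ x =
      2 * ∑ x ∈ cosetSet B.J B.w, ψ x - 18 * ψ B.w := by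
    intro ψ hψ
    have hsame : ∀ x ∈ (cosetSet B.J B.w).filter (fun x => x ^ 3 = 1), ψ x = ψ B.w := by
      intro x hx
      obtain ⟨h1, h2⟩ := Finset.mem_filter.1 hx
      obtain ⟨j, -, e⟩ := B.conj_w h2 (mem_cosetSet.1 h1)
      exact (isClassFunction_iff_isConj.mp hψ _ _ (isConj_iff.2 ⟨j, e⟩)).symm
    have h1 : ∑ x ∈ (cosetSet B.J B.w).filter (fun x => x ^ 3 ≠ 1), ψ x =
        ∑ x ∈ cosetSet B.J B.w, ψ x - 9 * ψ B.w := by
      rw [eq_sub_iff_add_eq, ← Finset.sum_filter_not_add_sum_filter (cosetSet B.J B.w) (fun x => x ^ 3 = 1) ψ,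
        Finset.sum_congr rfl hsame, Finset.sum_const, hO1, nsmul_eq_mul]
      norm_num
    have h2 : ∑ x ∈ (cosetSet B.J B.w⁻¹).filter (fun x => x ^ 3 ≠ 1), ψ x =
        ∑ x ∈ (cosetSet B.J B.w).filter (fun x => x ^ 3 ≠ 1), ψ x := (sum_conj_eq hψ F.r _ _ fun x => by
      rw [Finset.mem_filter, Finset.mem_filter, hrJ, conj_pow, Ne, conj_eq_one_iff]).symm
    rw [hS9, Finset.filter_union, Finset.sum_union (Finset.disjoint_filter_filter hdisjJ), h2, h1]
    ring
  have hcardS9 : S9.card = 36 := by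
    have h := hS9sum (fun _ => 1) (isClassFunction_irr isIrrCharacter_one)
    simp only [Finset.sum_const, nsmul_eq_mul, mul_one, card_cosetSet, B.J_card] at h
    have : (S9.card : ℂ) = (36 : ℕ) := by rw [h]; norm_num
    exact_mod_cast this
  -- inner products
  have hind0 : ∀ g : X → ℂ, IsClassFunction X g →
      classInner (indFun M f0) g = ((18 * n : ℕ) : ℂ)⁻¹ * (3 * ∑ x ∈ S0, conj (g x)) := fun g hg => by
    rw [frobenius_reciprocity M f0 hg, hf0, inner_indicator M S0 hS0M, hcM]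
  have hind9 : ∀ g : X → ℂ, IsClassFunction X g →
      classInner (indFun M9 f9) g = ((162 : ℕ) : ℂ)⁻¹ * (3 * ∑ x ∈ S9, conj (g x)) := fun g hg => by
    rw [frobenius_reciprocity M9 f9 hg, hf9, inner_indicator M9 S9 hS9M, hcM9]
  have hzero9 : ∀ x ∈ S0, indFun M9 f9 x = 0 := fun x hx =>
    indFun_zero M9 S9 3 fun y => by
      have := hcross y⁻¹ x hx
      rwa [inv_inv] at this
  have h00 : classInner (indFun M f0) (indFun M f0) = 1 := by
    rw [classInner_indFun_of_TI M S0 hTI0 hf0cl hf0S hf0S hf01, hf0,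
      inner_indicator M S0 hS0M 3 (fun x => if x ∈ S0 then (3 : ℂ) else 0), hcM,
      Finset.sum_congr rfl (fun x hx => by rw [if_pos hx]), Finset.sum_const, hcardS0, nsmul_eq_mul]
    push_cast
    rw [map_ofNat]
    field_simp
    norm_num
  have h99 : classInner (indFun M9 f9) (indFun M9 f9) = 2 := by
    rw [classInner_indFun_of_TI M9 S9 hTI9 hf9cl hf9S hf9S hf91, hf9,
      inner_indicator M9 S9 hS9M 3 (fun x => if x ∈ S9 then (3 : ℂ) else 0), hcM9,
      Finset.sum_congr rfl (fun x hx => by rw [if_pos hx]), Finset.sum_const, hcardS9, nsmul_eq_mul]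
    norm_num [map_ofNat]
  have h09 : classInner (indFun M f0) (indFun M9 f9) = 0 := by
    rw [hind0 _ (indFun_isClassFunction M9 f9), Finset.sum_eq_zero (fun x hx => by rw [hzero9 x hx, map_zero])]
    ring
  have h90 : classInner (indFun M9 f9) (indFun M f0) = 0 := by rw [← classInner_comm, h09, map_zero]
  have hnorm : classInner Fn Fn = 3 := by
    rw [hFn, classInner_add_left, classInner_add_right, classInner_add_right, h00, h09, h90, h99]
    norm_num
  have hone : classInner Fn (fun _ => 1) = 1 := by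
    rw [hFn, classInner_add_left, hind0 _ (isClassFunction_irr isIrrCharacter_one),
      hind9 _ (isClassFunction_irr isIrrCharacter_one)]
    simp only [map_one, Finset.sum_const, nsmul_eq_mul, mul_one, hcardS0, hcardS9]
    push_cast
    field_simp
    norm_num
  have hFcl : IsClassFunction X Fn := fun g k => by
    simp only [hFn, Pi.add_apply]
    rw [indFun_isClassFunction M f0 g k, indFun_isClassFunction M9 f9 g k]
  have hint : ∀ χ : IrrCharacter X, ∃ m : ℤ, classInner Fn (χ : X → ℂ) = m := by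
    intro χ
    set ψ : X → ℂ := fun g => conj ((χ : X → ℂ) g)
    have hψ : IsCharacter X ψ := isCharacter_conj (isCharacter_of_irr χ.2)
    have hψc := isClassFunction_char hψ
    have hrR : ∀ x, F.r * x * F.r⁻¹ ∈ cosetSet K.R B.w⁻¹ ↔ x ∈ cosetSet K.R B.w := by
      intro x
      have h2 : F.r ∈ normalizer (K.R : Set X) := CfsgLib.McLThree.norm_of_conj_le fun ρ hρ => B.r_R hcov F K hρ
      rw [mem_cosetSet, mem_cosetSet, show F.r * x * F.r⁻¹ * B.w⁻¹⁻¹ = F.r * (x * B.w⁻¹) * F.r⁻¹ by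
        rw [show B.w⁻¹⁻¹ = (F.r * B.w * F.r⁻¹)⁻¹ by rw [F.r_w]]; group]
      exact ((Subgroup.mem_normalizer_iff.1 h2) _).symm
    have hwR' : B.w ∉ K.R := fun h => hw1 (B.R_Q9 hcov F K h B.w_Q9)
    obtain ⟨a, ha⟩ := coset_int hψ K.R B.w_cube hwR' hwR (sum_conj_eq hψc F.r _ _ hrR)
    obtain ⟨I, hI⟩ := coset_int hψ B.J B.w_cube B.w_not_J B.w_N (sum_conj_eq hψc F.r _ _ hrJ)
    have hbot : ∀ v : X, cosetSet (⊥ : Subgroup X) v = {v} := fun v => by
      ext y; rw [mem_cosetSet, Subgroup.mem_bot, Finset.mem_singleton, mul_inv_eq_one]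
    obtain ⟨c, hc⟩ := coset_int hψ (⊥ : Subgroup X) B.w_cube (by simpa using hw1)
      (CfsgLib.McLThree.norm_of_conj_le fun x hx => by
        rw [Subgroup.mem_bot] at hx ⊢; rw [hx, mul_one, mul_inv_cancel]) (by
        rw [hbot, hbot, Finset.sum_singleton, Finset.sum_singleton]
        exact isClassFunction_iff_isConj.mp hψc _ _ (isConj_iff.2 ⟨F.r, F.r_w⟩))
    rw [hbot, Finset.sum_singleton, Subgroup.card_bot, Nat.cast_one, mul_one] at hc
    rw [B.J_card] at hI
    -- divisibility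
    obtain ⟨β, hβ, hsum⟩ := three_dvd_sum (MulAut.conj B.z1).toEquiv (by
        refine Equiv.ext fun x => ?_
        show B.z1 * (B.z1 * (B.z1 * x * B.z1⁻¹) * B.z1⁻¹) * B.z1⁻¹ = x
        calc B.z1 * (B.z1 * (B.z1 * x * B.z1⁻¹) * B.z1⁻¹) * B.z1⁻¹ = B.z1 ^ 3 * x * (B.z1 ^ 3)⁻¹ := by
              simp only [pow_succ, pow_zero, one_mul]; group
          _ = x := by rw [B.J_exp _ B.z1_mem]; group)
      ((cosetSet K.R B.w).erase B.w) (fun x hx => by
        rw [Finset.mem_erase, mem_cosetSet] at hx ⊢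
        show B.z1 * x * B.z1⁻¹ ≠ B.w ∧ _
        refine ⟨fun e => hx.1 ?_, ?_⟩
        · calc x = B.z1⁻¹ * (B.z1 * x * B.z1⁻¹) * B.z1 := by group
            _ = B.w := by rw [e, mul_assoc, B.z1_w, inv_mul_cancel_left]
        · have := (Subgroup.mem_normalizer_iff.1 (K.R_norm (B.Q9_cent B.z1_Q9)) _).1 hx.2
          rwa [show B.z1 * (x * B.w⁻¹) * B.z1⁻¹ = B.z1 * x * B.z1⁻¹ * B.w⁻¹ by
            rw [show B.z1 * x * B.z1⁻¹ * B.w⁻¹ = B.z1 * x * (B.w * B.z1)⁻¹ by group, B.z1_w]; group] at this)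
      (fun x hx e => by
        rw [Finset.mem_erase, mem_cosetSet] at hx
        refine hx.1 (mul_inv_eq_one.1 (B.R_z1 hcov F K hx.2 ?_))
        have h1 : Commute x B.z1 := (mul_inv_eq_iff_eq_mul.1 (show B.z1 * x * B.z1⁻¹ = x from e)).symm
        exact (h1.mul_left (show Commute B.w B.z1 from B.z1_w).inv_left).eq)
      (fun x => ψ x - ψ B.w) (fun x _ => by
        show ψ (B.z1 * x * B.z1⁻¹) - ψ B.w = ψ x - ψ B.w
        rw [isClassFunction_iff_isConj.mp hψc x _ (isConj_iff.2 ⟨B.z1, rfl⟩)])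
      (fun x => (isIntegral_of_char hψ x).sub (isIntegral_of_char hψ B.w))
    rw [Finset.sum_erase _ (by simp), Finset.sum_sub_distrib, ha, Finset.sum_const, card_cosetSet, nsmul_eq_mul,
      hc] at hsum
    obtain ⟨b, hb⟩ := exists_int_of_isIntegral_ratCast (q := ((a - c) * n : ℤ) / (3 : ℚ)) (by
      push_cast
      rw [show (((a : ℂ) - c) * n / 3) = β from by field_simp; linear_combination hsum]
      exact hβ)
    have h3 : (3 : ℤ) ∣ a - c := by
      have hb' : (a - c) * n = 3 * b := by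
        have : (((a - c) * n : ℤ) : ℚ) = ((3 * b : ℤ) : ℚ) := by
          push_cast at hb ⊢
          rw [← hb]; field_simp
        exact_mod_cast this
      have hp : Prime (3 : ℤ) := Int.prime_three
      exact (hp.dvd_or_dvd ⟨b, hb'⟩).resolve_right fun h => K.R_three (Int.natCast_dvd_natCast.1 h)
    obtain ⟨m, hm⟩ := h3
    refine ⟨I + m, ?_⟩
    rw [hFn, classInner_add_left, hind0 _ (isClassFunction_irr χ.2), hind9 _ (isClassFunction_irr χ.2)]
    show _ * (3 * ∑ x ∈ S0, ψ x) + _ * (3 * ∑ x ∈ S9, ψ x) = _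
    rw [hS0, Finset.sum_union hdisj0, ← sum_conj_eq hψc F.r _ _ hrR, hS9sum ψ hψc, ha, hI, hc]
    have hmC : (a : ℂ) - c = 3 * (m : ℂ) := by exact_mod_cast hm
    push_cast
    field_simp
    linear_combination (972 : ℂ) * (n : ℂ) * hmC
  have hnotinv : ∀ x, x * x = 1 → x ∉ S0 ∧ x ∉ S9 := by
    intro x h2
    have h2N : (x ^ N) * (x ^ N) = 1 := by rw [← (Commute.refl x).mul_pow, h2, one_pow]
    refine ⟨fun h => ?_, fun h => ?_⟩
    · rcases hS0pow x h with e | e <;> rw [e] at h2N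
      · exact hwi (eq_inv_of_mul_eq_one_left h2N)
      · exact hwi (by simpa using (eq_inv_of_mul_eq_one_left h2N).symm)
    · have h6 : x ^ 3 * x ^ 3 = 1 := by rw [← (Commute.refl x).mul_pow, h2, one_pow]
      rcases hS9cube x h with e | e <;> rw [e] at h6
      · exact hzi (eq_inv_of_mul_eq_one_left h6)
      · exact hzi (by simpa using (eq_inv_of_mul_eq_one_left h6).symm)
  have hFzero : ∀ g, (∀ x : X, x⁻¹ * g * x ∉ S0 ∧ x⁻¹ * g * x ∉ S9) → Fn g = 0 := fun g hg => by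
    rw [hFn, Pi.add_apply, indFun_zero M S0 3 fun x => (hg x).1, indFun_zero M9 S9 3 fun x => (hg x).2, add_zero]
  have h1 : Fn 1 = 0 := hFzero 1 fun x => hnotinv _ (by group)
  have hb : Fn (B.v 0) = 0 := hFzero _ fun x => hnotinv _ (by
    rw [show x⁻¹ * B.v 0 * x * (x⁻¹ * B.v 0 * x) = x⁻¹ * (B.v 0 * B.v 0) * x by group, B.v_sq]; group)
  have hpair : ∀ g, Fn (g * B.v 0 * g⁻¹ * B.v 0) = 0 := by
    intro g
    refine hFzero _ fun x => ?_
    set c := x⁻¹ * B.v 0 * x with hc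
    set s := x⁻¹ * (g * B.v 0 * g⁻¹ * B.v 0) * x with hs
    have hinv : c * s * c⁻¹ = s⁻¹ := by
      rw [hc, hs]
      calc _ = x⁻¹ * (B.v 0 * (g * B.v 0 * g⁻¹ * B.v 0) * (B.v 0)⁻¹) * x := by group
        _ = _ := by rw [pair_inverts (B.v_sq 0) g]; group
    have hc2 : c * c = 1 := by
      rw [hc, show x⁻¹ * B.v 0 * x * (x⁻¹ * B.v 0 * x) = x⁻¹ * (B.v 0 * B.v 0) * x by group, B.v_sq]; group
    have hback : ∀ h, h * F.r * h⁻¹ = c → False := fun h e => B.v0_not_r hcov F (x * h) (by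
      rw [show x * h * F.r * (x * h)⁻¹ = x * (h * F.r * h⁻¹) * x⁻¹ by group, e, hc]; group)
    refine ⟨fun h => ?_, fun h => ?_⟩
    · have e : c * s ^ N * c⁻¹ = (s ^ N)⁻¹ := by rw [← conj_pow, hinv, inv_pow]
      obtain ⟨h', e'⟩ : ∃ h', h' * F.r * h'⁻¹ = c := by
        refine B.invol_M hcov F K hc2 ?_
        rcases hS0pow s h with e1 | e1 <;> rw [e1] at e
        · exact e
        · rw [← conj_inv] at e; exact inv_injective e
      exact hback h' e'
    · have e : c * s ^ 3 * c⁻¹ = (s ^ 3)⁻¹ := by rw [← conj_pow, hinv, inv_pow]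
      obtain ⟨h', e'⟩ : ∃ h', h' * F.r * h'⁻¹ = c := by
        refine B.invol_M9 hcov F hc2 ?_
        rcases hS9cube s h with e1 | e1 <;> rw [e1] at e
        · exact e
        · rw [← conj_inv] at e; exact inv_injective e
      exact hback h' e'
  obtain ⟨P, L, hP, hL, hbP, hbL, hzero⟩ := two_kernels hFcl hint hnorm hone h1 hb hpair
  have hwF : Fn B.w = 3 := by
    have hwS : B.w ∈ S0 := Finset.mem_union_left _ (mem_cosetSet.2 (by rw [mul_inv_cancel]; exact one_mem _))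
    rw [hFn, Pi.add_apply, hzero9 _ hwS,
      show indFun M f0 B.w = f0 ⟨B.w, hS0M _ hwS⟩ from
        indFun_apply_of_TI M S0 hTI0 hf0cl hf0S hf01 ⟨B.w, hS0M _ hwS⟩ hwS]
    simp only [hf0]
    rw [if_pos hwS, add_zero]
  by_cases hwP : B.w ∈ P
  · refine B.kernel_data (K := L) hL hbL (fun hwL => ?_) hcov
    have := hzero _ hwP hwL
    rw [hwF] at this
    norm_num at this
  · exact B.kernel_data (K := P) hP hbP hwP hcov

end Bar

/-- The normalizer of `J` is everything. -/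
theorem Bar.top {X : Type u} [Group X] [Finite X] (B : Bar X) (hcov : Covered B) :
    normalizer (B.J : Set X) = ⊤ := by
  classical
  haveI := Fintype.ofFinite X
  by_cases h : Nonempty (Flip B)
  · obtain ⟨F⟩ := h
    obtain ⟨K⟩ := B.exists_core hcov F
    exact B.top_of_flip hcov F K
  · exact B.top_of_no_flip fun x hx => (hcov x hx).resolve_right fun ⟨F, _⟩ => h ⟨F⟩

end CfsgLib.McLThree.Weak
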