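import Cfsg.Agent.Lib.McLThree.Weak.BarFinish
import Mathlib.GroupTheory.Transfer
import Mathlib.GroupTheory.PGroup

/-!
Without flips the transfer into the Sylow subgroup modulo `J` is not trivial.
-/

set_option autoImplicit false

namespace CfsgLib.McLThree.Weak

open Subgroup Fin.NatCast

universe u

theorem mult3_ne : Multiplicative.ofAdd (1 : ZMod 3) ≠ 1 := by decide

theorem mult3_sq : ∀ u : Multiplicative (ZMod 3), u * u = 1 → u = 1 := by decide

namespace Bar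

variable {X : Type u} [Group X] [Finite X] (B : Bar X)

include B

theorem kernel_data {K : Subgroup X} (hK : K.Normal) (hv : B.v 0 ∈ K) (hw : B.w ∉ K)
    (hcov : Covered B) : normalizer (B.J : Set X) = ⊤ := by
  have hvK : ∀ i : Fin 3, B.v i ∈ K := fun i => by
    have h := hK.conj_mem _ hv (B.w ^ i.val)
    rwa [B.w_pow_v, zero_add, Fin.cast_val_eq_self] at h
  have haK : ∀ i : Fin 3, B.a i ∈ K := fun i => by
    have hi : i + 1 ≠ i := (by decide : ∀ k : Fin 3, k + 1 ≠ k) i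
    have h : B.v (i + 1) * (B.a i * (B.v (i + 1))⁻¹ * (B.a i)⁻¹) ∈ K :=
      K.mul_mem (hvK _) (hK.conj_mem _ (K.inv_mem (hvK _)) _)
    rw [show B.v (i + 1) * (B.a i * (B.v (i + 1))⁻¹ * (B.a i)⁻¹) =
      B.v (i + 1) * B.a i * (B.v (i + 1))⁻¹ * (B.a i)⁻¹ by group, B.v_inv i (i + 1) hi.symm, ← mul_inv_rev] at h
    have e : B.a i = (B.a i * B.a i)⁻¹ := by
      rw [eq_inv_iff_mul_eq_one, ← pow_two, ← pow_succ', B.J_exp _ (B.a_J i)]
    rwa [← e] at h
  have hJK : B.J ≤ K := fun x hx => by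
    obtain ⟨p, rfl⟩ := B.el_surj hx
    exact K.mul_mem (K.mul_mem (K.pow_mem (haK 0) _) (K.pow_mem (haK 1) _)) (K.pow_mem (haK 2) _)
  have hfour : B.four ≤ K := by
    rintro x (rfl | ⟨m, rfl⟩)
    exacts [K.one_mem, hvK m]
  have hJV : B.JV ≤ K := sup_le hfour hJK
  refine B.top_of_kernel hcov hK hJV hw fun x hxK hxN => ?_
  have hno : ∀ k : ℕ, k < 3 → k ≠ 0 → B.w ^ k ∉ K := fun k hk h0 h => hw (by
    interval_cases k
    · exact absurd rfl h0
    · simpa using h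
    · have := K.inv_mem h
      rwa [← B.w_inv, inv_inv] at this)
  rcases hcov x hxN with h | ⟨F, hF⟩
  · obtain ⟨j, hj, f, hf, k, hk, rfl⟩ := B.mem_H1.1 h
    rcases eq_or_ne k 0 with rfl | h0
    · rw [pow_zero, mul_one]
      exact B.mem_JV.2 ⟨j, hj, f, hf, rfl⟩
    · exact absurd ((K.mul_mem_cancel_left (K.mul_mem (hJK hj) (hfour hf))).1 hxK) (hno k hk h0)
  · exfalso
    obtain ⟨j, hj, f, hf, k, -, e⟩ := B.mem_H1.1 hF
    have hy : B.w ^ k * F.r ∈ K := by
      have hxe : x = j * f * (B.w ^ k * F.r) := by rw [← mul_assoc, ← e, mul_assoc, F.r_sq, mul_one]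
      exact (K.mul_mem_cancel_left (K.mul_mem (hJK hj) (hfour hf))).1 (hxe ▸ hxK)
    have h2 : B.w ^ k * F.r * (B.w * (B.w ^ k * F.r)⁻¹ * B.w⁻¹) ∈ K :=
      K.mul_mem hy (hK.conj_mem _ (K.inv_mem hy) _)
    rw [show B.w ^ k * F.r * (B.w * (B.w ^ k * F.r)⁻¹ * B.w⁻¹) =
      B.w ^ k * (F.r * B.w * F.r⁻¹) * (B.w ^ k)⁻¹ * B.w⁻¹ by group, F.r_w,
      show B.w ^ k * B.w⁻¹ * (B.w ^ k)⁻¹ * B.w⁻¹ = (B.w ^ 2)⁻¹ by group] at h2
    exact hno 2 (by norm_num) (by norm_num) (inv_mem_iff.1 h2)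

theorem four_w_T {f : X} (hf : f ∈ B.four) (h : f * B.w * f⁻¹ ∈ B.T) : f = 1 := by
  obtain ⟨j', hj', k', -, e⟩ := B.mem_T.1 h
  refine B.four_comm_w hf (k := 1) (Or.inl rfl) ?_
  have hu : f * (B.w ^ 1 * f⁻¹ * (B.w ^ 1)⁻¹) ∈ B.four := mul_mem hf (B.w_four (inv_mem hf) 1)
  have e' : f * (B.w ^ 1 * f⁻¹ * (B.w ^ 1)⁻¹) = j' * 1 * B.w ^ ((k' + 2) % 3) := by
    rw [← pow_eq_pow_mod (k' + 2) B.w_cube, pow_add, ← B.w_inv, mul_one, ← mul_assoc j', ← e]
    group
  have hdiff : 1 * (f * (B.w ^ 1 * f⁻¹ * (B.w ^ 1)⁻¹)) * B.w ^ ((3 - (k' + 2) % 3) % 3) ∈ B.J := by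
    rw [one_mul, e', mul_one, mul_assoc, ← pow_add, pow_eq_pow_mod _ B.w_cube,
      show ((k' + 2) % 3 + (3 - (k' + 2) % 3) % 3) % 3 = 0 by omega, pow_zero, mul_one]
    exact hj'
  obtain ⟨h1, -⟩ := B.H1_unique (one_mem _) hu (Nat.mod_lt _ (by norm_num)) hdiff
  rw [show f * B.w ^ 1 * f⁻¹ * (B.w ^ 1)⁻¹ = f * (B.w ^ 1 * f⁻¹ * (B.w ^ 1)⁻¹) by group, h1]
  exact one_mem _

/-- The exponent of `w` in an element of `T`. -/
theorem T_exp {j j' : X} (hj : j ∈ B.J) (hj' : j' ∈ B.J) {k k' : ℕ} (h : j * B.w ^ k = j' * B.w ^ k') :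
    (k : ZMod 3) = (k' : ZMod 3) := by
  rw [pow_eq_pow_mod k B.w_cube, pow_eq_pow_mod k' B.w_cube] at h
  have hd : 1 * 1 * B.w ^ ((k % 3 + 2 * (k' % 3)) % 3) ∈ B.J := by
    rw [one_mul, one_mul, ← pow_eq_pow_mod _ B.w_cube, pow_add]
    have e : B.w ^ (k % 3) * B.w ^ (2 * (k' % 3)) = j⁻¹ * j' := by
      rw [show B.w ^ (k % 3) = j⁻¹ * (j * B.w ^ (k % 3)) by group, h, mul_assoc j⁻¹, mul_assoc j', ← pow_add,
        show k' % 3 + 2 * (k' % 3) = 3 * (k' % 3) by ring, pow_mul, B.w_cube, one_pow, mul_one]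
    rw [e]
    exact mul_mem (inv_mem hj) hj'
  have h0 := (B.H1_unique (one_mem _) (one_mem _) (Nat.mod_lt _ (by norm_num)) hd).2
  rw [ZMod.natCast_eq_natCast_iff']
  omega

/-- The projection of `T`. -/
noncomputable def proj : B.T →* Multiplicative (ZMod 3) :=
  MonoidHom.mk' (fun x => Multiplicative.ofAdd (((B.mem_T.1 x.2).choose_spec.2.choose : ℕ) : ZMod 3)) fun x y => by
    obtain ⟨hj, -, hx⟩ : (B.mem_T.1 x.2).choose ∈ B.J ∧ _ :=
      ⟨(B.mem_T.1 x.2).choose_spec.1, (B.mem_T.1 x.2).choose_spec.2.choose_spec⟩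
    obtain ⟨hj', -, hy⟩ : (B.mem_T.1 y.2).choose ∈ B.J ∧ _ :=
      ⟨(B.mem_T.1 y.2).choose_spec.1, (B.mem_T.1 y.2).choose_spec.2.choose_spec⟩
    obtain ⟨hj'', -, hxy⟩ : (B.mem_T.1 (x * y).2).choose ∈ B.J ∧ _ :=
      ⟨(B.mem_T.1 (x * y).2).choose_spec.1, (B.mem_T.1 (x * y).2).choose_spec.2.choose_spec⟩
    rw [← ofAdd_add, ← Nat.cast_add]
    refine congrArg Multiplicative.ofAdd (B.T_exp hj''
      (j' := (B.mem_T.1 x.2).choose * (B.w ^ (B.mem_T.1 x.2).choose_spec.2.choose * (B.mem_T.1 y.2).choose *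
        (B.w ^ (B.mem_T.1 x.2).choose_spec.2.choose)⁻¹))
      (mul_mem hj ((Subgroup.mem_normalizer_iff.1 (pow_mem B.w_N _) _).1 hj')) ?_)
    rw [← hxy, pow_add]
    show (x : X) * y = _
    nth_rw 1 [hx, hy]
    group

theorem proj_eq {x : B.T} {j : X} (hj : j ∈ B.J) {k : ℕ} (h : (x : X) = j * B.w ^ k) :
    B.proj x = Multiplicative.ofAdd (k : ZMod 3) :=
  congrArg Multiplicative.ofAdd (B.T_exp (B.mem_T.1 x.2).choose_spec.1 hj
    ((B.mem_T.1 x.2).choose_spec.2.choose_spec.2.symm.trans h))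

theorem z1_conj_J {y : X} (hy : y ∈ B.T) {g : X} (h : g * B.z1 * g⁻¹ = y) : y ∈ B.J := by
  obtain ⟨j, hj, k, hk, e⟩ := B.mem_T.1 hy
  have h3 : y ^ 3 = 1 := by rw [← h, conj_pow, B.J_exp _ B.z1_mem, mul_one, mul_inv_cancel]
  obtain ⟨j1, hj1, e1⟩ := B.conj_w B.w0_cube B.w0_J
  interval_cases k
  · rw [e, pow_zero, mul_one]; exact hj
  · exfalso
    obtain ⟨j0, hj0, e0⟩ := B.conj_w h3 (by rw [e, pow_one, mul_inv_cancel_right]; exact hj)
    refine (B.nr (j1 * j0⁻¹ * g)).1 ?_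
    show j1 * j0⁻¹ * g * B.z1 * (j1 * j0⁻¹ * g)⁻¹ = B.w0
    calc j1 * j0⁻¹ * g * B.z1 * (j1 * j0⁻¹ * g)⁻¹ = j1 * j0⁻¹ * (g * B.z1 * g⁻¹) * (j1 * j0⁻¹)⁻¹ := by group
      _ = B.w0 := by rw [h, ← e0, ← e1]; group
  · exfalso
    obtain ⟨j0, hj0, e0⟩ := B.conj_w (x := y⁻¹) (by rw [inv_pow, h3, inv_one]) (by
      rw [e, mul_inv_rev, ← B.w_inv, inv_inv]
      exact (Subgroup.mem_normalizer_iff.1 B.w_N _).1 (inv_mem hj))
    refine (B.nr (j1 * j0⁻¹ * g)).2 ?_
    show j1 * j0⁻¹ * g * B.z1 * (j1 * j0⁻¹ * g)⁻¹ = B.w0⁻¹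
    calc j1 * j0⁻¹ * g * B.z1 * (j1 * j0⁻¹ * g)⁻¹ = j1 * j0⁻¹ * (g * B.z1 * g⁻¹) * (j1 * j0⁻¹)⁻¹ := by group
      _ = B.w0⁻¹ := by rw [h, ← inv_inv y, ← e0, ← e1]; group

/-- The case without flips. -/
theorem top_of_no_flip (hno : ∀ x ∈ normalizer (B.J : Set X), x ∈ B.H1) : normalizer (B.J : Set X) = ⊤ := by
  classical
  have hcov : Covered B := fun x hx => Or.inl (hno x hx)
  haveI := Fintype.ofFinite X
  haveI : Fact (Nat.Prime 3) := ⟨Nat.prime_three⟩
  let V : X →* Multiplicative (ZMod 3) := MonoidHom.transfer B.proj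
  -- fixed cosets
  let f : X ⧸ B.T → Multiplicative (ZMod 3) := fun c =>
    if h : c.out⁻¹ * B.w * c.out ∈ B.T then B.proj ⟨_, h⟩ else 1
  have hfix : ∀ (c : X ⧸ B.T), B.w • c = c ↔ c.out⁻¹ * B.w * c.out ∈ B.T := by
    intro c
    conv_lhs => rw [← QuotientGroup.out_eq' c]
    rw [MulAction.Quotient.smul_mk, eq_comm, QuotientGroup.eq, smul_eq_mul, mul_assoc]
  have hV : V B.w = ∏ c ∈ (Finset.univ.filter fun c : X ⧸ B.T => B.w • c = c), f c := by
    show MonoidHom.transfer B.proj B.w = _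
    rw [MonoidHom.transfer_eq_prod_quotient_orbitRel_zpowers_quot]
    rw [← Finset.prod_filter_of_ne (p := fun q : Quotient (MulAction.orbitRel (zpowers B.w) (X ⧸ B.T)) =>
      B.w • q.out = q.out)]
    · refine Finset.prod_nbij' (fun q => q.out) (fun c => Quotient.mk _ c) ?_ ?_ ?_ ?_ ?_
      · intro q hq; simpa using hq
      · intro c hc
        have hc' : B.w • c = c := by simpa using hc
        have hout : (Quotient.mk (MulAction.orbitRel (zpowers B.w) (X ⧸ B.T)) c).out = c := by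
          obtain ⟨g, hg⟩ := Quotient.exact (Quotient.out_eq (Quotient.mk (MulAction.orbitRel (zpowers B.w) (X ⧸ B.T)) c))
          obtain ⟨n, hn⟩ := mem_powers_iff_mem_zpowers.2 g.2
          refine hg.symm.trans ?_
          show (g : X) • c = c
          rw [← show B.w ^ n = (g : X) from hn]
          clear hn
          induction n with
          | zero => rw [pow_zero, one_smul]
          | succ n ih => rw [pow_succ, mul_smul, hc', ih]
        simp only [Finset.mem_coe, Finset.mem_filter, Finset.mem_univ, true_and]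
        rw [hout]
        exact hc'
      · intro q _; exact Quotient.out_eq q
      · intro c hc
        have hc' : B.w • c = c := by simpa using hc
        obtain ⟨g, hg⟩ := Quotient.exact (Quotient.out_eq (Quotient.mk (MulAction.orbitRel (zpowers B.w) (X ⧸ B.T)) c))
        obtain ⟨n, hn⟩ := mem_powers_iff_mem_zpowers.2 g.2
        refine hg.symm.trans ?_
        show (g : X) • c = c
        rw [← show B.w ^ n = (g : X) from hn]
        clear hn
        induction n with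
        | zero => rw [pow_zero, one_smul]
        | succ n ih => rw [pow_succ, mul_smul, hc', ih]
      · intro q hq
        have hq' : B.w • q.out = q.out := by simpa using hq
        have hper : Function.minimalPeriod (B.w • ·) q.out = 1 :=
          Function.minimalPeriod_eq_one_iff_isFixedPt.2 hq'
        have hm := (hfix q.out).1 hq'
        simp only [f, dif_pos hm]
        congr 1
        exact Subtype.ext (by simp [hper])
    · intro q _ hne
      by_contra hq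
      refine hne ?_
      have hd : Function.minimalPeriod (B.w • ·) q.out ∣ 3 := by
        rw [← MulAction.pow_smul_eq_iff_minimalPeriod_dvd, B.w_cube, one_smul]
      rcases (Nat.dvd_prime Nat.prime_three).1 hd with e | e
      · exact absurd (Function.minimalPeriod_eq_one_iff_isFixedPt.1 e) hq
      · refine (congrArg B.proj (?_ : _ = (1 : B.T))).trans (map_one _)
        exact Subtype.ext (by simp [e, B.w_cube])
  -- the product of the axes permutes the fixed cosets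
  have hzw : ∀ c : X ⧸ B.T, B.w • c = c → B.w • (B.z1 • c) = B.z1 • c := fun c hc => by
    rw [← mul_smul, B.z1_w, mul_smul, hc]
  have hzf : ∀ c : X ⧸ B.T, B.w • c = c → f (B.z1 • c) = f c := by
    intro c hc
    have h1 := (hfix c).1 hc
    have h2 := (hfix _).1 (hzw c hc)
    simp only [f, dif_pos h1, dif_pos h2]
    set o := (B.z1 • c).out
    have ht : o⁻¹ * (B.z1 * c.out) ∈ B.T := by
      rw [← QuotientGroup.eq, QuotientGroup.out_eq']
      conv_lhs => rw [← QuotientGroup.out_eq' c, MulAction.Quotient.smul_mk]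
      rfl
    have e : (⟨_, h2⟩ : B.T) = ⟨_, ht⟩ * ⟨_, h1⟩ * ⟨_, ht⟩⁻¹ := by
      refine Subtype.ext ?_
      show o⁻¹ * B.w * o = o⁻¹ * (B.z1 * c.out) * (c.out⁻¹ * B.w * c.out) * (o⁻¹ * (B.z1 * c.out))⁻¹
      calc o⁻¹ * B.w * o = o⁻¹ * (B.w * B.z1) * B.z1⁻¹ * o := by group
        _ = o⁻¹ * (B.z1 * B.w) * B.z1⁻¹ * o := by rw [B.z1_w]
        _ = _ := by group
    rw [e, map_mul, map_mul, map_inv, mul_comm, inv_mul_cancel_left]
  set c0 : X ⧸ B.T := ((1 : X) : X ⧸ B.T)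
  have hc0w : B.w • c0 = c0 := by
    show ((B.w * 1 : X) : X ⧸ B.T) = ((1 : X) : X ⧸ B.T)
    rw [mul_one, QuotientGroup.eq, mul_one]
    exact inv_mem B.w_T
  have honly : ∀ c : X ⧸ B.T, B.w • c = c → B.z1 • c = c → c = c0 := by
    intro c hcw hcz
    set g := c.out
    have hgw := (hfix c).1 hcw
    have hgz : g⁻¹ * B.z1 * g ∈ B.T := by
      conv_lhs at hcz => rw [← QuotientGroup.out_eq' c, MulAction.Quotient.smul_mk]
      rw [← QuotientGroup.out_eq' c, eq_comm, QuotientGroup.eq, smul_eq_mul] at hcz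
      simpa [g, mul_assoc] using hcz
    have hJ := B.z1_conj_J hgz (g := g⁻¹) (by rw [inv_inv])
    have hgN : g ∈ normalizer (B.J : Set X) := by
      refine B.fuse hcov hJ ?_
      rw [show g * (g⁻¹ * B.z1 * g) * g⁻¹ = B.z1 by group]
      exact B.cent_z
    obtain ⟨j, hj, fe, hfe, k, -, e⟩ := B.mem_H1.1 (hno g hgN)
    have hf1 : fe = 1 := by
      have h : fe⁻¹ * B.w * fe⁻¹⁻¹ ∈ B.T := by
        have hwk : B.w ^ k ∈ B.T := pow_mem B.w_T k
        have h1 := mul_mem (mul_mem hwk hgw) (inv_mem hwk)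
        rw [show g = c.out from rfl] at e
        rw [e, show B.w ^ k * ((j * fe * B.w ^ k)⁻¹ * B.w * (j * fe * B.w ^ k)) * (B.w ^ k)⁻¹ =
          fe⁻¹ * (j⁻¹ * B.w * j) * fe by group] at h1
        have hj2 : fe⁻¹ * (j⁻¹ * B.w * j * B.w⁻¹) * fe⁻¹⁻¹ ∈ B.T := B.J_T
          ((Subgroup.mem_normalizer_iff.1 (B.four_norm (inv_mem hfe)) _).1 (by
            rw [show j⁻¹ * B.w * j * B.w⁻¹ = j⁻¹ * (B.w * j * B.w⁻¹) by group]
            exact mul_mem (inv_mem hj) ((Subgroup.mem_normalizer_iff.1 B.w_N j).1 hj)))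
        have h2 := mul_mem (inv_mem hj2) h1
        rwa [show (fe⁻¹ * (j⁻¹ * B.w * j * B.w⁻¹) * fe⁻¹⁻¹)⁻¹ * (fe⁻¹ * (j⁻¹ * B.w * j) * fe) =
          fe⁻¹ * B.w * fe⁻¹⁻¹ by group] at h2
      exact inv_eq_one.1 (B.four_w_T (inv_mem hfe) h)
    rw [hf1, mul_one] at e
    rw [← QuotientGroup.out_eq' c]
    refine QuotientGroup.eq.2 ?_
    rw [mul_one, show c.out = g from rfl, e]
    exact inv_mem (mul_mem (B.J_T hj) (pow_mem B.w_T k))
  set S := (Finset.univ.filter fun c : X ⧸ B.T => B.w • c = c) with hS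
  have hrest : ∏ c ∈ S.erase c0, f c = 1 := by
    rw [show (∏ c ∈ S.erase c0, f c) = ∏ c ∈ S.erase c0, id (f c) from rfl, Finset.prod_comp id f]
    refine Finset.prod_eq_one fun v _ => ?_
    have hv3 : v ^ 3 = 1 := by
      have := pow_card_eq_one' (x := v)
      rwa [Nat.card_eq_fintype_card, Fintype.card_multiplicative, ZMod.card] at this
    let M : SubMulAction (zpowers B.z1) (X ⧸ B.T) :=
      { carrier := {c | B.w • c = c ∧ c ≠ c0 ∧ f c = v}
        smul_mem' := fun g c hc => by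
          obtain ⟨n, hn⟩ := mem_powers_iff_mem_zpowers.2 g.2
          show B.w • ((g : X) • c) = _ ∧ _
          have key : ∀ n : ℕ, B.w • (B.z1 ^ n • c) = B.z1 ^ n • c ∧ f (B.z1 ^ n • c) = v := by
            intro n
            induction n with
            | zero => exact ⟨by rw [pow_zero, one_smul]; exact hc.1, by rw [pow_zero, one_smul]; exact hc.2.2⟩
            | succ n ih => rw [pow_succ', mul_smul]; exact ⟨hzw _ ih.1, (hzf _ ih.1).trans ih.2⟩
          have hn' : B.z1 ^ n = (g : X) := hn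
          obtain ⟨k1, k2⟩ := key n
          rw [hn'] at k1 k2
          refine ⟨k1, fun e => hc.2.1 ?_, k2⟩
          have e' : c = (g : X)⁻¹ • c0 := by rw [← show (g : X) • c = c0 from e, inv_smul_smul]
          rw [e']
          show ((((g : X)⁻¹ * 1 : X)) : X ⧸ B.T) = ((1 : X) : X ⧸ B.T)
          rw [mul_one, QuotientGroup.eq, inv_inv, mul_one]
          exact B.J_T (zpowers_le.2 B.z1_mem g.2) }
    have hP : IsPGroup 3 (zpowers B.z1) := fun x => by
      obtain ⟨n, hn⟩ := mem_powers_iff_mem_zpowers.2 x.2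
      have hn' : B.z1 ^ n = (x : X) := hn
      exact ⟨1, Subtype.ext (by
        show (x : X) ^ 3 ^ 1 = 1
        rw [← hn', pow_one, ← pow_mul, mul_comm, pow_mul, B.J_exp _ B.z1_mem, one_pow])⟩
    have hmod := hP.card_modEq_card_fixedPoints M
    haveI : IsEmpty (MulAction.fixedPoints (zpowers B.z1) M) := ⟨fun ⟨⟨c, hc⟩, hfc⟩ => hc.2.1 (honly c hc.1
      (congrArg Subtype.val (hfc ⟨B.z1, mem_zpowers _⟩)))⟩
    rw [Nat.card_of_isEmpty (α := MulAction.fixedPoints (zpowers B.z1) M)] at hmod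
    have hcard : ((S.erase c0).filter fun c => f c = v).card = Nat.card M := by
      rw [show Nat.card M = Nat.card {c // c ∈ (S.erase c0).filter fun c => f c = v} from Nat.card_congr
        (Equiv.subtypeEquivRight fun c => by
          simp only [Finset.mem_filter, Finset.mem_erase, hS, Finset.mem_univ, true_and]
          exact ⟨fun h => ⟨⟨h.2.1, h.1⟩, h.2.2⟩, fun h => ⟨h.1.2, h.1.1, h.2⟩⟩),
        Nat.card_eq_fintype_card, Fintype.card_coe]
    obtain ⟨q, hq⟩ := Nat.modEq_zero_iff_dvd.1 hmod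
    rw [id_eq, hcard, hq, pow_mul, hv3, one_pow]
  have hVw : V B.w ≠ 1 := by
    rw [hV, ← Finset.mul_prod_erase S f (by simpa [hS] using hc0w), hrest, mul_one]
    have h1 := (hfix c0).1 hc0w
    simp only [f, dif_pos h1]
    have ho : c0.out ∈ B.T := by
      have := QuotientGroup.out_eq' c0
      rw [QuotientGroup.eq, mul_one] at this
      exact inv_mem_iff.1 this
    have e : (⟨_, h1⟩ : B.T) = ⟨_, ho⟩⁻¹ * ⟨B.w, B.w_T⟩ * ⟨_, ho⟩ := rfl
    rw [e, map_mul, map_mul, map_inv, mul_right_comm, inv_mul_cancel, one_mul,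
      B.proj_eq (one_mem _) (k := 1) (by simp), Nat.cast_one]
    exact mult3_ne
  refine B.kernel_data (K := V.ker) inferInstance ?_ (fun h => hVw h) hcov
  rw [MonoidHom.mem_ker]
  have h2 : V (B.v 0) * V (B.v 0) = 1 := by rw [← map_mul, B.v_sq, map_one]
  exact mult3_sq _ h2

end Bar

end CfsgLib.McLThree.Weak
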