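import Cfsg.Agent.Lib.McLThree.Weak.SignalII
import Cfsg.Agent.Lib.McLThree.Weak.Lift
import Cfsg.Agent.Lib.McLThree.Weak.CentT

/-!
The centralizer of the diagonal element modulo it satisfies the axioms, so it normalises `J`.
-/

set_option autoImplicit false
set_option synthInstance.maxSize 8000
set_option synthInstance.maxHeartbeats 200000

namespace CfsgLib.McLThree.Weak

open Subgroup Fin.NatCast

universe u

/-- The orbit of an element under an element of order three. -/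
def orb {Y : Type u} [Group Y] (w x : Y) (i : Fin 3) : Y := w ^ i.val * x * (w ^ i.val)⁻¹

theorem orb_shift {Y : Type u} [Group Y] {w : Y} (hw : w ^ 3 = 1) (x : Y) (i : Fin 3) :
    w * orb w x i * w⁻¹ = orb w x (i + 1) := by
  show w * (w ^ i.val * x * (w ^ i.val)⁻¹) * w⁻¹ = w ^ (i + 1).val * x * (w ^ (i + 1).val)⁻¹
  rw [show w ^ (i + 1).val = w * w ^ i.val by
    rw [← pow_succ', Fin.val_add, ← pow_eq_pow_mod _ hw]; rfl]
  group

theorem orb_add {Y : Type u} [Group Y] {w : Y} (hw : w ^ 3 = 1) (x : Y) (i k : Fin 3) :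
    w ^ k.val * orb w x i * (w ^ k.val)⁻¹ = orb w x (k + i) := by
  show w ^ k.val * (w ^ i.val * x * (w ^ i.val)⁻¹) * (w ^ k.val)⁻¹ = w ^ (k + i).val * x * (w ^ (k + i).val)⁻¹
  rw [show w ^ (k + i).val = w ^ k.val * w ^ i.val by rw [← pow_add, Fin.val_add, ← pow_eq_pow_mod _ hw]]
  group

theorem conj_eq_const {Y : Type u} [Group Y] [Finite Y] (A : Coord Y) {w x : Y}
    (hw : ∀ i, w * A.a i * w⁻¹ = A.a (i + 1)) (hx : x ∈ A.J) (hne : x ≠ 1) (hc : w * x * w⁻¹ = x) :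
    x = A.el (fun _ => 1) ∨ x = (A.el (fun _ => 1))⁻¹ := by
  obtain ⟨p, rfl⟩ := A.el_surj hx
  have c : ∀ i k : Fin 3, ∀ m n : ℕ, Commute (A.a i ^ m) (A.a k ^ n) := fun i k m n =>
    (show Commute (A.a i) (A.a k) from A.J_comm _ (A.a_J i) _ (A.a_J k)).pow_pow m n
  have e : w * A.el p * w⁻¹ = A.el (fun i => p (i + 2)) := by
    simp only [Coord.el, axEl]
    rw [show w * (A.a 0 ^ (p 0).val * A.a 1 ^ (p 1).val * A.a 2 ^ (p 2).val) * w⁻¹ =
      (w * A.a 0 * w⁻¹) ^ (p 0).val * (w * A.a 1 * w⁻¹) ^ (p 1).val * (w * A.a 2 * w⁻¹) ^ (p 2).val by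
        rw [conj_pow, conj_pow, conj_pow]; group, hw, hw, hw]
    show A.a 1 ^ (p 0).val * A.a 2 ^ (p 1).val * A.a 0 ^ (p 2).val = A.a 0 ^ (p 2).val * A.a 1 ^ (p 0).val * A.a 2 ^ (p 1).val
    rw [((c 1 0 _ (p 2).val).mul_left (c 2 0 _ _)).eq, mul_assoc]
  have h := A.el_inj (e.symm.trans hc)
  have h0 : p 2 = p 0 := congrFun h 0
  have h1 : p 0 = p 1 := congrFun h 1
  have hp : p = fun _ => p 0 := by
    funext i
    obtain rfl | rfl | rfl : i = 0 ∨ i = 1 ∨ i = 2 := fin3_all i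
    exacts [rfl, h1.symm, h0]
  rcases (by decide : ∀ r : ZMod 3, r = 0 ∨ r = 1 ∨ r = -1) (p 0) with e0 | e0 | e0 <;> rw [e0] at hp
  · exact absurd (by rw [hp]; exact A.el_zero) hne
  · exact Or.inl (by rw [hp])
  · refine Or.inr ?_
    rw [← A.el_neg, hp]
    rfl

variable {G : Type u} [Group G] [Finite G] {D : Setting G} {U : Full D} (L : Lift U)

/-- The point `t`. -/
abbrev tC : Cy U := ⟨U.F.t, mem_centralizer_singleton_iff.2 (t_yp U).eq⟩

/-- The point `u`. -/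
abbrev uC : Cy U := ⟨uG U, mem_centralizer_singleton_iff.2 (uG_yp U).eq⟩

/-- The permuting point. -/
abbrev wC : Cy U := ⟨L.w, mem_centralizer_singleton_iff.2 L.w_yp.eq⟩

theorem zC_mem (U : Full D) : D.z ∈ Cy U :=
  mem_centralizer_singleton_iff.2 ((Commute.refl D.z).mul_right (show Commute D.z U.F.y from U.F.y_z.symm)).eq

/-- The point `z`. -/
abbrev zC : Cy U := ⟨D.z, zC_mem U⟩

theorem W_cube : pr U (wC L) ^ 3 = 1 := by
  obtain ⟨i, hi, e⟩ := L.w3
  rw [← map_pow, ← map_one (pr U)]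
  exact ((pr_eq U).2 ⟨i, hi, by push_cast; rw [e, one_mul]⟩).symm

theorem norm_Jb {a : Cy U} (h : (a : G) ∈ normalizer (D.J : Set G)) : pr U a ∈ normalizer (Jb U : Set (Xq U)) := by
  refine norm_of_conj_le ?_
  rintro _ ⟨v, hv, rfl⟩
  rw [← map_inv, ← map_mul, ← map_mul]
  exact (pr_J U).2 ((Subgroup.mem_normalizer_iff.1 h _).1 hv)

theorem norm_lift {a : Cy U} (h : pr U a ∈ normalizer (Jb U : Set (Xq U))) : (a : G) ∈ normalizer (D.J : Set G) := by
  refine norm_of_conj_le fun v hv => ?_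
  have := (Subgroup.mem_normalizer_iff.1 h _).1 ((pr_J U (a := ⟨v, J_Cy U hv⟩)).2 hv)
  rw [← map_inv, ← map_mul, ← map_mul] at this
  exact (pr_J U).1 this

theorem orb_v1 : orb (pr U (wC L)) (pr U tC) 1 = pr U uC := by
  show pr U (wC L) ^ 1 * pr U tC * (pr U (wC L) ^ 1)⁻¹ = _
  rw [pow_one, ← map_inv, ← map_mul, ← map_mul]
  exact congrArg (pr U) (Subtype.ext L.w_t)

theorem orb_v2 : orb (pr U (wC L)) (pr U tC) 2 = pr U (tC * uC) := by
  rw [show (2 : Fin 3) = 1 + 1 from rfl, ← orb_shift (W_cube L), orb_v1, ← map_inv, ← map_mul, ← map_mul]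
  exact congrArg (pr U) (Subtype.ext L.w_u)

/-- The coordinates. -/
noncomputable def coord : Coord (Xq U) where
  J := Jb U
  J_comm := by
    rintro _ ⟨a, ha, rfl⟩ _ ⟨b, hb, rfl⟩
    rw [← map_mul, ← map_mul]
    exact congrArg (pr U) (Subtype.ext (D.J_comm _ ha _ hb))
  J_exp := by
    rintro _ ⟨a, ha, rfl⟩
    rw [← map_pow, show a ^ 3 = 1 from Subtype.ext (D.J_exp _ ha), map_one]
  J_card := card_Jb U
  v := orb (pr U (wC L)) (pr U tC)
  v_sq := fun i => by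
    show pr U (wC L) ^ i.val * pr U tC * (pr U (wC L) ^ i.val)⁻¹ * _ = 1
    rw [show pr U (wC L) ^ i.val * pr U tC * (pr U (wC L) ^ i.val)⁻¹ * orb (pr U (wC L)) (pr U tC) i =
      pr U (wC L) ^ i.val * (pr U tC * pr U tC) * (pr U (wC L) ^ i.val)⁻¹ by simp only [orb]; group,
      ← map_mul, show (tC : Cy U) * tC = 1 from Subtype.ext U.F.t_sq, map_one]
    group
  v_mul := fun i => by
    have h0 : pr U tC * orb (pr U (wC L)) (pr U tC) 1 = orb (pr U (wC L)) (pr U tC) 2 := by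
      rw [orb_v1, orb_v2, map_mul]
    have e : orb (pr U (wC L)) (pr U tC) i = pr U (wC L) ^ i.val * pr U tC * (pr U (wC L) ^ i.val)⁻¹ := rfl
    rw [← orb_add (W_cube L) (pr U tC) 1 i, ← orb_add (W_cube L) (pr U tC) 2 i, ← h0, e]
    group
  v_N := fun i => by
    have h : pr U tC ∈ normalizer (Jb U : Set (Xq U)) := norm_Jb U.F.t_J
    have hw : pr U (wC L) ∈ normalizer (Jb U : Set (Xq U)) := norm_Jb (D.M₀_norm L.w.2)
    exact mul_mem (mul_mem (pow_mem hw _) h) (inv_mem (pow_mem hw _))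
  a := orb (pr U (wC L)) (pr U zC)
  a_J := fun i => by
    refine (Subgroup.mem_normalizer_iff.1 (pow_mem (norm_Jb (D.M₀_norm L.w.2)) _) _).1 ?_
    exact (pr_J U).2 U.F.z_J
  a_ne := fun i h => by
    have h1 : pr U (zC : Cy U) = 1 := conj_eq_one_iff.1 h
    rw [← map_one (pr U)] at h1
    obtain ⟨k, hk, e⟩ := (pr_eq U).1 h1.symm
    have e' : D.z ^ 1 * U.F.y ^ 0 = D.z ^ k * U.F.y ^ k := by
      rw [pow_one, pow_zero, mul_one, ← (show Commute D.z U.F.y from U.F.y_z.symm).mul_pow]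
      simpa using e
    obtain ⟨h2, h3⟩ := U.coord_inj e'
    omega
  v_a := fun i => by
    have h : pr U (tC : Cy U) * pr U zC = pr U zC * pr U tC := by
      rw [← map_mul, ← map_mul]; exact congrArg (pr U) (Subtype.ext U.F.t_z)
    simp only [orb]
    rw [conj_mul, conj_mul, h]
  v_inv := fun i k hik => by
    have hb : ∀ d : Fin 3, d ≠ 0 → orb (pr U (wC L)) (pr U tC) d * pr U zC * (orb (pr U (wC L)) (pr U tC) d)⁻¹ =
        (pr U zC)⁻¹ := by
      have hy : pr U (⟨U.F.y, J_Cy U U.F.y_J⟩ : Cy U) = (pr U zC)⁻¹ := by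
        rw [← map_inv]
        exact ((pr_eq U).2 ⟨1, by norm_num, by push_cast; rw [pow_one]; group⟩).symm
      intro d hd
      obtain rfl | rfl : d = 1 ∨ d = 2 := (fin3_all d).resolve_left hd
      · rw [orb_v1, ← map_inv, ← map_mul, ← map_mul, ← map_inv]
        refine Eq.trans (congrArg (pr U) (Subtype.ext ?_)) (hy.trans (map_inv _ _).symm)
        exact (uG_z U).1
      · rw [orb_v2, ← map_inv, ← map_mul, ← map_mul, ← map_inv]
        refine Eq.trans (congrArg (pr U) (Subtype.ext ?_)) (hy.trans (map_inv _ _).symm)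
        show U.F.t * (uG U : G) * D.z * (U.F.t * (uG U : G))⁻¹ = U.F.y
        rw [show U.F.t * (uG U : G) * D.z * (U.F.t * (uG U : G))⁻¹ =
          U.F.t * ((uG U : G) * D.z * (uG U : G)⁻¹) * U.F.t⁻¹ by group, (uG_z U).1, ← U.F.y_t, mul_inv_cancel_right]
    have hd : k - i ≠ 0 := sub_ne_zero.2 (Ne.symm hik)
    have e : orb (pr U (wC L)) (pr U tC) k =
        pr U (wC L) ^ i.val * orb (pr U (wC L)) (pr U tC) (k - i) * (pr U (wC L) ^ i.val)⁻¹ := by
      rw [orb_add (W_cube L), add_sub_cancel]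
    rw [e]
    simp only [show orb (pr U (wC L)) (pr U zC) i = pr U (wC L) ^ i.val * pr U zC * (pr U (wC L) ^ i.val)⁻¹ from rfl]
    calc _ = pr U (wC L) ^ i.val * (orb (pr U (wC L)) (pr U tC) (k - i) * pr U zC *
          (orb (pr U (wC L)) (pr U tC) (k - i))⁻¹) * (pr U (wC L) ^ i.val)⁻¹ := by group
      _ = _ := by rw [hb _ hd, conj_inv]

variable {L} (P : Pick L)

/-- The fixed element from the centre. -/
theorem z'_J : (P.c : G)⁻¹ * D.z * (P.c : G) ∈ D.J := by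
  simpa using D.M₀_J (inv_mem P.c.2) U.F.z_J

/-- The fixed point. -/
abbrev z'C : Cy U := ⟨(P.c : G)⁻¹ * D.z * (P.c : G), J_Cy U (z'_J P)⟩

theorem z'_eq : pr U (z'C P) = (coord L).el (fun _ => 1) ∨ pr U (z'C P) = ((coord L).el (fun _ => 1))⁻¹ := by
  refine conj_eq_const (coord L) (w := pr U (wC L)) (fun i => orb_shift (W_cube L) _ i) ((pr_J U).2 (z'_J P))
    (fun h => ?_) ?_
  · rw [← map_one (pr U)] at h
    obtain ⟨k, hk, e⟩ := (pr_eq U).1 h.symm
    have hz : IsZ D (U.yp ^ k) := ⟨(P.c : G)⁻¹, by rw [inv_inv]; simpa using e⟩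
    interval_cases k
    · obtain ⟨x, hx⟩ := hz
      rw [pow_zero, conj_eq_one_iff] at hx
      exact D.z_ne hx
    · rw [pow_one] at hz; exact (not_isZ_yp U).1 hz
    · rw [show U.yp ^ 2 = U.yp⁻¹ from (inv_eq_of_mul_eq_one_left (by
        rw [← pow_succ]; exact D.J_exp _ U.yp_J)).symm] at hz
      exact (not_isZ_yp U).2 hz
  · rw [← map_inv, ← map_mul, ← map_mul]
    refine congrArg (pr U) (Subtype.ext ?_)
    show (L.w : G) * ((P.c : G)⁻¹ * D.z * (P.c : G)) * (L.w : G)⁻¹ = (P.c : G)⁻¹ * D.z * (P.c : G)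
    have h := D.z_comm _ P.c_w
    calc (L.w : G) * ((P.c : G)⁻¹ * D.z * (P.c : G)) * (L.w : G)⁻¹
        = (P.c : G)⁻¹ * ((P.c : G) * L.w * (P.c : G)⁻¹ * D.z) * ((P.c : G) * (L.w : G)⁻¹) := by group
      _ = _ := by rw [h]; group

theorem pow_ne_Zc {a : G} (ha : a ^ 3 = 1) (hZ : a ∉ D.Zc) {i : ℕ} (hi : i = 1 ∨ i = 2) : a ^ i ∉ D.Zc := by
  intro h
  refine hZ ?_
  have h2 := pow_mem h i
  rwa [← pow_mul, pow_eq_pow_mod (i * i) ha, show i * i % 3 = 1 by rcases hi with rfl | rfl <;> rfl, pow_one] at h2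

theorem cent_a_lift {a : Cy U} (h : Commute (pr U a) (pr U zC)) : (a : G) ∈ normalizer (D.J : Set G) := by
  have h1 : pr U (zC : Cy U) = pr U (a * zC * a⁻¹) := by
    rw [map_mul, map_mul, map_inv, h.eq, mul_inv_cancel_right]
  obtain ⟨i, hi, e⟩ := (pr_eq U).1 h1
  set x := (a : G)
  have hxy : Commute x U.yp := mem_centralizer_singleton_iff.1 a.2
  have e' : x * D.z * x⁻¹ = D.z ^ (1 + i) * U.F.y ^ i := by
    rw [show x * D.z * x⁻¹ = D.z * U.yp ^ i from e, (show Commute D.z U.F.y from U.F.y_z.symm).mul_pow, ← mul_assoc,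
      ← pow_succ', add_comm]
  have hy : x * U.F.y * x⁻¹ = (x * D.z * x⁻¹)⁻¹ * U.yp := by
    calc x * U.F.y * x⁻¹ = (x * D.z * x⁻¹)⁻¹ * (x * U.yp * x⁻¹) := by group
      _ = _ := by rw [hxy.eq, mul_inv_cancel_right]
  interval_cases i
  · rw [add_zero, pow_one, pow_zero, mul_one] at e'
    have hy' : x * U.F.y * x⁻¹ = U.F.y := by rw [hy, e']; group
    exact U.F.norm_S_J (U.norm_S_of_y (D.comm_norm (mul_inv_eq_iff_eq_mul.1 e')) (by rw [hy']; exact mem_zpowers _))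
  · exfalso
    exact not_isZ_mix U (i := 2) (j := 1) (by norm_num) (by norm_num) ⟨x, e'⟩
  · exfalso
    rw [show (1 + 2 : ℕ) = 3 from rfl, D.z_cube, one_mul] at e'
    rw [e'] at hy
    have hy'' : x * U.F.y * x⁻¹ = D.z ^ 1 * U.F.y ^ 2 := by
      rw [hy, pow_one, show (U.F.y ^ 2)⁻¹ = U.F.y from inv_eq_of_mul_eq_one_right (by
        rw [← pow_succ]; exact U.F.y_cube), ← mul_assoc, U.F.y_z, mul_assoc, ← pow_two]
    obtain ⟨g, hg⟩ := isZ_y U
    exact not_isZ_mix U (i := 1) (j := 2) (by norm_num) (by norm_num) ⟨x * g, by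
      rw [← hy'', ← hg]; group⟩

theorem cent_z_lift {a : Cy U} (h : Commute (pr U a) (pr U (z'C P))) : (a : G) ∈ normalizer (D.J : Set G) := by
  have h1 : pr U (z'C P) = pr U (a * z'C P * a⁻¹) := by
    rw [map_mul, map_mul, map_inv, h.eq, mul_inv_cancel_right]
  obtain ⟨i, hi, e⟩ := (pr_eq U).1 h1
  set x := (a : G)
  set c := (P.c : G)
  have e' : x * (c⁻¹ * D.z * c) * x⁻¹ = c⁻¹ * D.z * c * U.yp ^ i := e
  have hxy : Commute x U.yp := mem_centralizer_singleton_iff.1 a.2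
  have hcJ : c ∈ normalizer (D.J : Set G) := D.M₀_norm P.c.2
  set y' := c * U.yp * c⁻¹
  have e2 : c * x * c⁻¹ * D.z * (c * x * c⁻¹)⁻¹ = D.z * y' ^ i := by
    calc c * x * c⁻¹ * D.z * (c * x * c⁻¹)⁻¹ = c * (x * (c⁻¹ * D.z * c) * x⁻¹) * c⁻¹ := by group
      _ = D.z * (c * U.yp ^ i * c⁻¹) := by rw [e']; group
      _ = _ := by rw [conj_pow]
  rcases Nat.eq_zero_or_pos i with rfl | hpos
  · rw [pow_zero, mul_one] at e2
    have hc2 : c * x * c⁻¹ * y' = y' * (c * x * c⁻¹) := by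
      show c * x * c⁻¹ * (c * U.yp * c⁻¹) = c * U.yp * c⁻¹ * (c * x * c⁻¹)
      rw [conj_mul, conj_mul, hxy.eq]
    have := cent_z_A U P.y'_A P.y'_Z (mul_inv_eq_iff_eq_mul.1 e2) hc2
    have h' := mul_mem (mul_mem (inv_mem hcJ) this) hcJ
    rwa [show c⁻¹ * (c * x * c⁻¹) * c = x by group] at h'
  · exfalso
    have hA : y' ^ i ∈ D.A := pow_mem P.y'_A i
    refine not_isZ_A U (mul_mem (U.F.Zc_A (mem_zpowers _)) hA) (fun hZ => ?_) ⟨_, e2⟩
    refine pow_ne_Zc (D.J_exp _ P.y'_A.1) P.y'_Z (i := i) (by omega) ?_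
    have := mul_mem (inv_mem (mem_zpowers D.z)) hZ
    rwa [inv_mul_cancel_left] at this

theorem q'_M : (P.c : G)⁻¹ * P.q * (P.c : G) ∈ D.M₀ :=
  mul_mem (mul_mem (inv_mem P.c.2) (U.F.S_le_M₀ (D.Q_le P.q_Q))) P.c.2

/-- The companion point. -/
abbrev qC : Cy U := ⟨(P.c : G)⁻¹ * P.q * (P.c : G), mem_centralizer_singleton_iff.2 (by
  have key : ∀ c q y : G, q * (c * y * c⁻¹) = c * y * c⁻¹ * q → c⁻¹ * q * c * y = y * (c⁻¹ * q * c) := by
    intro c q y h
    calc c⁻¹ * q * c * y = c⁻¹ * (q * (c * y * c⁻¹)) * c := by group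
      _ = _ := by rw [h]; group
  exact key _ _ _ P.q_y.eq)⟩

theorem not_conj (hexp : ∀ a ∈ D.Q, a ^ 3 = 1) {e : ℕ} (he : e = 1 ∨ e = 2) (a : Cy U) :
    pr U (a * z'C P * a⁻¹) ≠ pr U (qC P ^ e) := by
  intro h
  obtain ⟨i, -, ei⟩ := (pr_eq U).1 h.symm
  set c := (P.c : G)
  set y' := c * U.yp * c⁻¹
  have ei' : (a : G) * (c⁻¹ * D.z * c) * (a : G)⁻¹ = (c⁻¹ * P.q * c) ^ e * U.yp ^ i := ei
  have hq : P.q ^ e * y' ^ i ∈ D.Q := mul_mem (pow_mem P.q_Q e) (pow_mem P.y'_A.2 i)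
  refine not_isZ_Q U hq (fun hZ => P.q_A ?_) ⟨c * (a : G) * c⁻¹, ?_⟩
  · have h1 := mul_mem (U.F.Zc_A hZ) (inv_mem (pow_mem P.y'_A i))
    rw [mul_inv_cancel_right] at h1
    have h2 := pow_mem h1 e
    rwa [← pow_mul, pow_eq_pow_mod (e * e) (hexp _ P.q_Q), show e * e % 3 = 1 by rcases he with rfl | rfl <;> rfl,
      pow_one] at h2
  · calc c * (a : G) * c⁻¹ * D.z * (c * (a : G) * c⁻¹)⁻¹ = c * ((a : G) * (c⁻¹ * D.z * c) * (a : G)⁻¹) * c⁻¹ := by
          group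
      _ = c * (c⁻¹ * P.q * c) ^ e * c⁻¹ * (c * U.yp ^ i * c⁻¹) := by rw [ei']; group
      _ = P.q ^ e * y' ^ i := by
        rw [← conj_pow, ← conj_pow, show c * (c⁻¹ * P.q * c) * c⁻¹ = P.q by group]

/-- The model. -/
noncomputable def model (hexp : ∀ a ∈ D.Q, a ^ 3 = 1) : Bar (Xq U) where
  toCoord := coord L
  w := pr U (wC L)
  w_cube := W_cube L
  w_v := fun i => orb_shift (W_cube L) _ i
  w_a := fun i => orb_shift (W_cube L) _ i
  w_N := norm_Jb (D.M₀_norm L.w.2)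
  cent_a := fun x hx => by
    obtain ⟨a, rfl⟩ := QuotientGroup.mk'_surjective _ x
    refine norm_Jb (cent_a_lift ?_)
    have := mem_centralizer_singleton_iff.1 hx
    have e : (coord L).a 0 = pr U zC := by
      show pr U (wC L) ^ 0 * pr U zC * (pr U (wC L) ^ 0)⁻¹ = _
      rw [pow_zero, one_mul, inv_one, mul_one]
    rwa [e] at this
  cent_z := fun x hx => by
    obtain ⟨a, rfl⟩ := QuotientGroup.mk'_surjective _ x
    refine norm_Jb (cent_z_lift P ?_)
    have h : Commute (pr U a) ((coord L).el fun _ => 1) := mem_centralizer_singleton_iff.1 hx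
    rcases z'_eq P with e | e <;> rw [e]
    exacts [h, h.inv_right]
  w0 := pr U (qC P)
  w0_J := by
    rw [← map_inv, ← map_mul]
    refine (pr_J U).2 ((U.C.ker (⟨_, q'_M P⟩ * L.w⁻¹)).1 ?_)
    rw [map_mul, map_inv, P.q_φ, L.φw, mul_inv_cancel]
  w0_cube := by
    rw [← map_pow, show qC P ^ 3 = 1 from Subtype.ext (by
      show ((P.c : G)⁻¹ * P.q * (P.c : G)) ^ 3 = 1
      rw [show (P.c : G)⁻¹ * P.q * (P.c : G) = (P.c : G)⁻¹ * P.q * (P.c : G)⁻¹⁻¹ by group, conj_pow,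
        hexp _ P.q_Q]
      group), map_one]
  nr := fun g => by
    obtain ⟨a, rfl⟩ := QuotientGroup.mk'_surjective _ g
    have h3 : (pr U (qC P))⁻¹ = pr U (qC P ^ 2) := by
      rw [map_pow]
      refine inv_eq_of_mul_eq_one_left ?_
      rw [← pow_succ, ← map_pow, show qC P ^ 3 = 1 from Subtype.ext (by
        show ((P.c : G)⁻¹ * P.q * (P.c : G)) ^ 3 = 1
        rw [show (P.c : G)⁻¹ * P.q * (P.c : G) = (P.c : G)⁻¹ * P.q * (P.c : G)⁻¹⁻¹ by group, conj_pow,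
          hexp _ P.q_Q]
        group), map_one]
    have n1 := not_conj P hexp (Or.inl rfl) a
    have n2 := not_conj P hexp (Or.inr rfl) a
    rw [pow_one, map_mul, map_mul, map_inv] at n1
    rw [← h3, map_mul, map_mul, map_inv] at n2
    rcases z'_eq P with e | e <;> rw [e] at n1 n2
    · exact ⟨n1, n2⟩
    · rw [← conj_inv] at n1 n2
      exact ⟨fun h => n2 (by rw [← h]), fun h => n1 (inv_eq_iff_eq_inv.2 h)⟩

/-- The membership in the subgroup generated by the known points. -/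
noncomputable abbrev H1C (hexp : ∀ a ∈ D.Q, a ^ 3 = 1) : Subgroup (Cy U) := (model P hexp).H1.comap (pr U)

theorem model_v0 (hexp : ∀ a ∈ D.Q, a ^ 3 = 1) : (model P hexp).v 0 = pr U tC := by
  show pr U (wC L) ^ 0 * pr U tC * (pr U (wC L) ^ 0)⁻¹ = _
  rw [pow_zero, one_mul, inv_one, mul_one]

theorem model_cover (hexp : ∀ a ∈ D.Q, a ^ 3 = 1) :
    ∀ x ∈ normalizer ((model P hexp).J : Set (Xq U)),
      x ∈ (model P hexp).H1 ∨ ∃ R : Turn (model P hexp), x * R.r ∈ (model P hexp).H1 := by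
  intro x hx
  set B := model P hexp with hB
  obtain ⟨a, rfl⟩ := QuotientGroup.mk'_surjective _ x
  have haJ : (a : G) ∈ normalizer (D.J : Set G) := norm_lift hx
  have hay : Commute (a : G) U.yp := mem_centralizer_singleton_iff.1 a.2
  set Hc := H1C P hexp
  have hJH : ∀ v : Cy U, (v : G) ∈ D.J → v ∈ Hc := fun v hv => mem_sup_right (mem_sup_right ((pr_J U).2 hv))
  have htH : (tC : Cy U) ∈ Hc :=
    mem_sup_right (mem_sup_left (Or.inr ⟨0, (model_v0 P hexp).symm⟩))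
  have huH : (uC : Cy U) ∈ Hc := mem_sup_right (mem_sup_left (Or.inr ⟨1, (orb_v1 L).symm⟩))
  have hwH : wC L ∈ Hc := mem_sup_left (mem_zpowers _)
  -- adjust to the centralizer of `t`
  set n : D.M₀ := ⟨(a : G) * U.F.t * (a : G)⁻¹, D.M₀_conj haJ U.C.t_M⟩
  have hny : Commute (n : G) U.yp := (hay.mul_left (t_yp U)).mul_left hay.inv_left
  have hn2 : (n : G) * n = 1 := by
    show (a : G) * U.F.t * (a : G)⁻¹ * ((a : G) * U.F.t * (a : G)⁻¹) = 1
    rw [conj_mul, U.F.t_sq]; group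
  obtain ⟨k, hk⟩ : ∃ k : ℕ, U.C.φ n = U.C.φ (L.w ^ k * tM U * (L.w ^ k)⁻¹) := by
    have hφ : ∀ k : ℕ, U.C.φ (L.w ^ k * tM U * (L.w ^ k)⁻¹) = s6 ^ k * t6 * (s6 ^ k)⁻¹ := fun k => by
      rw [map_mul, map_mul, map_inv, map_pow, L.φw, φ_tM]
    rcases L.invol n hny hn2 (fun h => U.F.t_ne (conj_eq_one_iff.1 h)) with e | e | e
    · exact ⟨0, by rw [hφ, e]; group⟩
    · exact ⟨1, by rw [hφ, e, pow_one, s6_basic.1]⟩
    · refine ⟨2, ?_⟩
      rw [hφ, e, pow_two, show s6 * s6 * t6 * (s6 * s6)⁻¹ = s6 * (s6 * t6 * s6⁻¹) * s6⁻¹ by group, s6_basic.1,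
        s6_basic.2.1]
  set a1 : Cy U := (wC L ^ k)⁻¹ * a
  set j : D.M₀ := (L.w ^ k)⁻¹ * n * L.w ^ k * tM U
  have hjJ : (j : G) ∈ D.J := (U.C.ker j).1 (by
    simp only [j, map_mul, map_inv, hk]
    rw [show ∀ p q : A6, p⁻¹ * (p * q * p⁻¹) * p * q = q * q from fun p q => by group, ← map_mul,
      show tM U * tM U = 1 from Subtype.ext U.F.t_sq, map_one])
  have hje : (j : G) = (a1 : G) * U.F.t * (a1 : G)⁻¹ * U.F.t := by
    simp only [j, n, a1, wC]; push_cast; group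
  have hshift := shift_invol U.F.t_sq (by
    rw [hje]
    exact invol_mul (by rw [conj_mul, U.F.t_sq]; group) U.F.t_sq) (D.J_exp _ hjJ)
  set jC : Cy U := ⟨(j : G) ^ 2, J_Cy U (pow_mem hjJ 2)⟩
  set a2 : Cy U := jC⁻¹ * a1
  have ha2t : (a2 : G) * U.F.t = U.F.t * a2 := by
    refine mul_inv_eq_iff_eq_mul.1 ?_
    show ((j : G) ^ 2)⁻¹ * (a1 : G) * U.F.t * (((j : G) ^ 2)⁻¹ * (a1 : G))⁻¹ = U.F.t
    rw [show ((j : G) ^ 2)⁻¹ * (a1 : G) * U.F.t * (((j : G) ^ 2)⁻¹ * (a1 : G))⁻¹ =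
      ((j : G) ^ 2)⁻¹ * (((a1 : G) * U.F.t * (a1 : G)⁻¹ * U.F.t) * (U.F.t)⁻¹) * (j : G) ^ 2 by group, ← hje,
      U.F.t_inv, ← hshift]
    group
  have ha2J : (a2 : G) ∈ normalizer (D.J : Set G) := by
    simp only [a2, a1, jC]; push_cast
    exact mul_mem (inv_mem (pow_mem (le_normalizer hjJ) 2))
      (mul_mem (inv_mem (pow_mem (D.M₀_norm L.w.2) k)) haJ)
  have ea : a = wC L ^ k * jC * a2 := by simp only [a2, a1]; group
  obtain ⟨b, d, hd, hb⟩ : ∃ b : Cy U, ∃ d : Cy U, (d : G) ∈ U.CD ∧ b ∈ Hc ∧ a = b * d := by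
    have h0 : wC L ^ k * jC ∈ Hc := mul_mem (pow_mem hwH k) (hJH _ (pow_mem hjJ 2))
    rcases U.cent_yp_t_of_norm ha2J (mem_centralizer_singleton_iff.1 a2.2) ha2t with h | h
    · exact ⟨_, a2, h, h0, ea⟩
    · set gC : Cy U := ⟨U.g, mem_centralizer_singleton_iff.2 U.g_yp⟩
      have hg : gC ∈ Hc := by
        have e : gC = uC * (gC * gC)⁻¹ := Subtype.ext (by
          show (U.g : G) = ((U.g ^ 3 : D.M₀) : G) * ((U.g : G) * U.g)⁻¹
          rw [SubmonoidClass.coe_pow, pow_succ', pow_two]; group)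
        rw [e]
        exact mul_mem huH (inv_mem (hJH _ U.g_sq_J))
      exact ⟨wC L ^ k * jC * gC, gC⁻¹ * a2, h, mul_mem h0 hg, by rw [ea]; group⟩
  obtain ⟨hbH, rfl⟩ := hb
  rcases U.CD_split with hI | ⟨⟨E⟩⟩
  · left
    refine mul_mem (s := Hc) hbH ?_
    rcases hI _ hd with h | h
    · exact hJH _ (U.Dt_J h)
    · have e : d = ⟨(d : G) * U.F.t, mul_mem d.2 (tC : Cy U).2⟩ * tC := Subtype.ext (by
        show (d : G) = (d : G) * U.F.t * U.F.t
        rw [mul_assoc, U.F.t_sq, mul_one])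
      rw [e]
      exact mul_mem (hJH _ (U.Dt_J h)) htH
  obtain ⟨m, -, hm⟩ := U.rot_mem E hd
  have hey : Commute E.e U.yp := mem_centralizer_singleton_iff.1 (U.CD_Cyp E.mem).1
  set eC : Cy U := ⟨E.e, mem_centralizer_singleton_iff.2 hey.eq⟩
  have hev : ∀ i : ℕ, eC ^ (2 * i) ∈ Hc := fun i => by
    rw [pow_mul, show eC ^ 2 = tC from Subtype.ext (by push_cast; rw [pow_two]; exact E.sq)]
    exact pow_mem htH i
  have hdm : d * (eC ^ m)⁻¹ ∈ Hc := hJH _ (by push_cast; exact U.Dt_J hm)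
  rcases Nat.even_or_odd' m with ⟨i, rfl | rfl⟩
  · left
    refine mul_mem (s := Hc) hbH ?_
    rw [show d = d * (eC ^ (2 * i))⁻¹ * eC ^ (2 * i) by group]
    exact mul_mem hdm (hev i)
  right
  have heJ : E.e ∈ normalizer (D.J : Set G) := U.ND_J (U.CD_ND E.mem).1
  obtain ⟨hez, hey', het⟩ := U.mem_CD.1 E.mem
  set ne : D.M₀ := ⟨E.e * (uG U : G) * E.e⁻¹, D.M₀_conj heJ (uG U).2⟩
  have hne2 : (ne : G) * ne = 1 := by
    show E.e * (uG U : G) * E.e⁻¹ * (E.e * (uG U : G) * E.e⁻¹) = 1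
    rw [conj_mul, uG_sq]; group
  have hφe : U.C.φ ne = t6 * g6 := by
    rcases L.invol ne ((hey.mul_left (uG_yp U)).mul_left hey.inv_left) hne2 (fun h => by
        have h1 : (uG U : G) = 1 := conj_eq_one_iff.1 h
        have h2 : U.C.φ (uG U) = 1 := by rw [show uG U = 1 from Subtype.ext h1, map_one]
        rw [φ_uG] at h2
        exact absurd h2 (by decide +kernel)) with e | e | e
    · exfalso
      have h1 : ((ne * tM U : D.M₀) : G) ∈ D.J := (U.C.ker _).1 (by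
        rw [map_mul, e, φ_tM]; decide +kernel)
      have h2 : ((uG U * tM U : D.M₀) : G) ∈ D.J := by
        have h3 := (Subgroup.mem_normalizer_iff.1 heJ _).2 (show E.e * ((uG U : G) * U.F.t) * E.e⁻¹ ∈ D.J by
          rw [show E.e * ((uG U : G) * U.F.t) * E.e⁻¹ = E.e * (uG U : G) * E.e⁻¹ * (E.e * U.F.t * E.e⁻¹) by group,
            het, mul_inv_cancel_right]
          exact h1)
        exact h3
      have h4 := (U.C.ker _).2 h2
      rw [map_mul, φ_uG, φ_tM] at h4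
      exact absurd h4 (by decide +kernel)
    · exfalso
      set j' : D.M₀ := ne * uG U
      have hj'J : (j' : G) ∈ D.J := (U.C.ker _).1 (by rw [map_mul, e, φ_uG, six_basic.2.2.2.1])
      have hj't : Commute (j' : G) U.F.t :=
        (((show Commute E.e U.F.t from het).mul_left (uG_t U)).mul_left
          (show Commute E.e U.F.t from het).inv_left).mul_left (uG_t U)
      have hj'D : (j' : G) ∈ U.Dt := ⟨D.J_le hj'J, mem_centralizer_singleton_iff.2 hj't.eq⟩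
      have hk' := pow_mem hj'D 2
      set k' := (j' : G) ^ 2
      have hsh : k' * (uG U : G) * k'⁻¹ = E.e * (uG U : G) * E.e⁻¹ := by
        show (((ne : G) * (uG U : G)) ^ 2) * (uG U : G) * (((ne : G) * (uG U : G)) ^ 2)⁻¹ = _
        rw [shift_invol (uG_sq U) (invol_mul hne2 (uG_sq U)) (D.J_exp _ hj'J)]
        show (ne : G) * uG U * uG U = _
        rw [mul_assoc, uG_sq, mul_one]
      set e1 : Cy U := ⟨k'⁻¹ * E.e, mul_mem (inv_mem (J_Cy U (U.Dt_J hk'))) eC.2⟩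
      have he1u : (e1 : G) * uG U = (uG U : G) * e1 := by
        refine mul_inv_eq_iff_eq_mul.1 ?_
        show k'⁻¹ * E.e * (uG U : G) * (k'⁻¹ * E.e)⁻¹ = _
        rw [show k'⁻¹ * E.e * (uG U : G) * (k'⁻¹ * E.e)⁻¹ = k'⁻¹ * (E.e * (uG U : G) * E.e⁻¹) * k' by group, ← hsh]
        group
      have he1J : (e1 : G) ∈ normalizer (D.J : Set G) :=
        mul_mem (inv_mem (le_normalizer (U.Dt_J hk'))) heJ
      have hsq : e1 * e1 = ⟨(k' ^ 2)⁻¹, inv_mem (pow_mem (J_Cy U (U.Dt_J hk')) 2)⟩ * tC := Subtype.ext (by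
        show k'⁻¹ * E.e * (k'⁻¹ * E.e) = (k' ^ 2)⁻¹ * U.F.t
        have hc : Commute E.e k'⁻¹ := (show Commute E.e k' from U.Dt_comm hk' E.mem).inv_right
        rw [show k'⁻¹ * E.e * (k'⁻¹ * E.e) = k'⁻¹ * (E.e * k'⁻¹) * E.e by group, hc.eq, ← E.sq, pow_two]
        group)
      set a1' := B.a 1
      have hcv : Commute (pr U e1) (B.v 1) := by
        rw [show B.v 1 = pr U uC from orb_v1 L]
        show _ = _
        rw [← map_mul, ← map_mul]
        exact congrArg (pr U) (Subtype.ext he1u)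
      have hmem : pr U e1 * a1' * (pr U e1)⁻¹ ∈ B.J :=
        (Subgroup.mem_normalizer_iff.1 (norm_Jb he1J) _).1 (B.a_J 1)
      obtain ⟨p, hp⟩ := B.el_surj hmem
      have hfl : flip3 1 p = p := B.el_inj (by
        rw [← B.el_conj, hp]
        calc B.v 1 * (pr U e1 * a1' * (pr U e1)⁻¹) * (B.v 1)⁻¹
            = (B.v 1 * pr U e1) * a1' * (B.v 1 * pr U e1)⁻¹ := by group
          _ = pr U e1 * (B.v 1 * a1' * (B.v 1)⁻¹) * (pr U e1)⁻¹ := by rw [← hcv.eq]; group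
          _ = _ := by rw [B.v_a, mul_inv_cancel_right])
      have hp1 : p = Pi.single 1 (p 1) := by
        funext i
        by_cases hi : i = 1
        · subst hi; simp
        · have := congrFun hfl i
          simp only [flip3, hi, if_false] at this
          simp [hi, zmod_neg_fix _ this]
      rw [hp1, B.el_axis] at hp
      set r := (p 1).val
      have hr : r * r % 3 = 1 := by
        have hr3 : r < 3 := ZMod.val_lt _
        obtain h | h | h : r = 0 ∨ r = 1 ∨ r = 2 := by omega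
        · rw [h, pow_zero, eq_comm, conj_eq_one_iff] at hp
          exact absurd hp (B.a_ne 1)
        all_goals rw [h]
      have h2 : pr U (e1 * e1) * a1' * (pr U (e1 * e1))⁻¹ = a1' := by
        rw [map_mul, show pr U e1 * pr U e1 * a1' * (pr U e1 * pr U e1)⁻¹ =
          pr U e1 * (pr U e1 * a1' * (pr U e1)⁻¹) * (pr U e1)⁻¹ by group, ← hp, ← conj_pow, ← hp, ← pow_mul,
          pow_eq_pow_mod _ (B.J_exp _ (B.a_J 1)), hr, pow_one]
      rw [hsq, map_mul, ← model_v0 P hexp, ← hB] at h2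
      have hkJ : pr U (⟨(k' ^ 2)⁻¹, inv_mem (pow_mem (J_Cy U (U.Dt_J hk')) 2)⟩ : Cy U) ∈ B.J :=
        (pr_J U).2 (inv_mem (pow_mem (U.Dt_J hk') 2))
      set jb := pr U (⟨(k' ^ 2)⁻¹, inv_mem (pow_mem (J_Cy U (U.Dt_J hk')) 2)⟩ : Cy U)
      rw [show jb * B.v 0 * a1' * (jb * B.v 0)⁻¹ = jb * (B.v 0 * a1' * (B.v 0)⁻¹) * jb⁻¹ by group,
        B.v_inv 1 0 (by decide), B.J_comm _ hkJ _ (inv_mem (B.a_J 1)), mul_inv_cancel_right] at h2
      have h3 := B.J_exp _ (B.a_J 1)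
      have h4 : a1' * a1' = 1 := by nth_rw 1 [← h2]; exact inv_mul_cancel _
      rw [pow_succ, pow_two, h4, one_mul] at h3
      exact B.a_ne 1 h3
    · exact e
  have hrN : pr U (eC * uC) ∈ normalizer (B.J : Set (Xq U)) :=
    norm_Jb (mul_mem heJ (D.M₀_norm (uG U).2))
  refine ⟨⟨pr U (eC * uC), hrN, ?_, ?_, ?_, ?_⟩, ?_⟩
  · rw [← map_mul]
    refine (pr_J U).2 ?_
    have h1 : ((ne * tM U * uG U : D.M₀) : G) ∈ D.J := (U.C.ker _).1 (by
      rw [map_mul, map_mul, hφe, φ_tM, φ_uG]; decide +kernel)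
    show E.e * (uG U : G) * (E.e * (uG U : G)) ∈ D.J
    have e : ((ne * tM U * uG U : D.M₀) : G) = E.e * (uG U : G) * (E.e * (uG U : G)) := by
      show E.e * (uG U : G) * E.e⁻¹ * U.F.t * (uG U : G) = _
      rw [← E.sq]; group
    rwa [← e]
  · rw [model_v0, ← map_inv, ← map_mul, ← map_mul]
    refine congrArg (pr U) (Subtype.ext ?_)
    show E.e * (uG U : G) * U.F.t * (E.e * (uG U : G))⁻¹ = U.F.t
    rw [((show Commute E.e U.F.t from het).mul_left (uG_t U)).eq, mul_inv_cancel_right]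
  · rw [show B.v 1 = pr U uC from orb_v1 L, show B.v 2 = pr U (tC * uC) from orb_v2 L, ← map_inv, ← map_mul, ← map_mul,
      ← map_mul]
    refine (pr_J U).2 ?_
    have h1 : ((ne * (tM U * uG U) : D.M₀) : G) ∈ D.J := (U.C.ker _).1 (by
      rw [map_mul, map_mul, hφe, φ_tM, φ_uG]; decide +kernel)
    show E.e * (uG U : G) * (uG U : G) * (E.e * (uG U : G))⁻¹ * (U.F.t * (uG U : G)) ∈ D.J
    have e : ((ne * (tM U * uG U) : D.M₀) : G) =
        E.e * (uG U : G) * (uG U : G) * (E.e * (uG U : G))⁻¹ * (U.F.t * (uG U : G)) := by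
      show E.e * (uG U : G) * E.e⁻¹ * (U.F.t * (uG U : G)) = _
      rw [mul_inv_rev, uG_inv, mul_assoc E.e _ (uG U : G), uG_sq, mul_one, ← mul_assoc E.e]
    rwa [← e]
  · rw [show B.a 0 = pr U zC from by
      show pr U (wC L) ^ 0 * pr U zC * (pr U (wC L) ^ 0)⁻¹ = _
      rw [pow_zero, one_mul, inv_one, mul_one], ← map_inv, ← map_mul, ← map_mul, ← map_inv]
    refine ((pr_eq U).2 ⟨1, by norm_num, ?_⟩).symm
    show E.e * (uG U : G) * D.z * (E.e * (uG U : G))⁻¹ = D.z⁻¹ * U.yp ^ 1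
    rw [show E.e * (uG U : G) * D.z * (E.e * (uG U : G))⁻¹ = E.e * ((uG U : G) * D.z * (uG U : G)⁻¹) * E.e⁻¹ by group,
      (uG_z U).1, hey', mul_inv_cancel_right, pow_one, inv_mul_cancel_left]
  · show pr U (b * d) * pr U (eC * uC) ∈ B.H1
    rw [← map_mul, show b * d * (eC * uC) = b * (d * (eC ^ (2 * i + 1))⁻¹) * eC ^ (2 * (i + 1)) * uC by
      rw [show 2 * (i + 1) = 2 * i + 1 + 1 by ring, pow_succ _ (2 * i + 1)]; group]
    exact mul_mem (s := Hc) (mul_mem (mul_mem hbH hdm) (hev _)) huH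

/-- The centralizer of the diagonal element normalises `J`. -/
theorem cent_yp_norm {G : Type u} [Group G] [Finite G] {D : Setting G} (U : Full D) (hexp : ∀ a ∈ D.Q, a ^ 3 = 1) :
    centralizer ({U.yp} : Set G) ≤ normalizer (D.J : Set G) := by
  obtain ⟨L⟩ := exists_lift U
  obtain ⟨P⟩ := L.exists_pick hexp
  set B := model P hexp with hB
  have h := B.top (B.covered_of (model_cover P hexp))
  intro x hx
  refine norm_lift (a := ⟨x, hx⟩) ?_
  show pr U ⟨x, hx⟩ ∈ normalizer (B.J : Set (Xq U))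
  rw [h]
  exact mem_top _

end CfsgLib.McLThree.Weak
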